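import Cfsg.Agent.Base

/-!
Sharply `k`-transitive actions: basic API, the order formula, point stabilisers, and the
Jordan–Tits degree bound for sharply 4-transitive groups (no finiteness assumed).
-/

set_option autoImplicit false

namespace CL.Perm

open MulAction

/-- The action of `G` on `Ω` is sharply `k`-transitive. -/
structure IsSharp (G : Type*) (Ω : Type*) [Group G] [MulAction G Ω] (k : ℕ) : Prop where
  trans : IsMultiplyPretransitive G Ω k
  sharp : ∀ x : Fin k ↪ Ω, stabilizer G x = ⊥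

variable {G : Type*} {Ω : Type*} [Group G] [MulAction G Ω] {k : ℕ}

theorem exists_smul_of_multiplyPretransitive (h : IsMultiplyPretransitive G Ω k)
    {x y : Fin k → Ω} (hx : Function.Injective x) (hy : Function.Injective y) :
    ∃ g : G, ∀ i, g • x i = y i := by
  obtain ⟨g, hg⟩ := h.exists_smul_eq (⟨x, hx⟩ : Fin k ↪ Ω) ⟨y, hy⟩
  refine ⟨g, fun i => ?_⟩
  have := DFunLike.congr_fun hg i
  simpa using this

theorem IsSharp.exists_smul (h : IsSharp G Ω k) {x y : Fin k → Ω}
    (hx : Function.Injective x) (hy : Function.Injective y) : ∃ g : G, ∀ i, g • x i = y i :=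
  exists_smul_of_multiplyPretransitive h.trans hx hy

theorem IsSharp.eq_one (h : IsSharp G Ω k) {x : Fin k → Ω} (hx : Function.Injective x)
    {g : G} (hg : ∀ i, g • x i = x i) : g = 1 := by
  have : g ∈ stabilizer G (⟨x, hx⟩ : Fin k ↪ Ω) := by
    rw [mem_stabilizer_iff]
    ext i
    simpa using hg i
  rw [h.sharp] at this
  simpa using this

theorem IsSharp.eq_of_smul (h : IsSharp G Ω k) {x : Fin k → Ω} (hx : Function.Injective x)
    {g g' : G} (hg : ∀ i, g • x i = g' • x i) : g = g' := by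
  have : g'⁻¹ * g = 1 := h.eq_one hx (fun i => by rw [mul_smul, hg i, inv_smul_smul])
  rw [inv_mul_eq_one] at this
  exact this.symm

theorem IsSharp.faithful (h : IsSharp G Ω k) (hne : Nonempty (Fin k ↪ Ω)) : FaithfulSMul G Ω := by
  obtain ⟨x⟩ := hne
  exact ⟨fun {g g'} hg => h.eq_of_smul x.injective (fun i => hg _)⟩

/-- A sharply `k`-transitive group is in bijection with the injective `k`-tuples. -/
theorem IsSharp.card_eq_card_embedding (h : IsSharp G Ω k) (hne : Nonempty (Fin k ↪ Ω)) :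
    Nat.card G = Nat.card (Fin k ↪ Ω) := by
  obtain ⟨x⟩ := hne
  apply Nat.card_congr
  refine Equiv.ofBijective (fun g : G => g • x) ⟨fun g g' hg => ?_, fun y => ?_⟩
  · refine h.eq_of_smul x.injective (fun i => ?_)
    have := DFunLike.congr_fun hg i
    simpa using this
  · exact h.trans.exists_smul_eq x y

theorem nonempty_embedding_of_le [Finite Ω] (hk : k ≤ Nat.card Ω) : Nonempty (Fin k ↪ Ω) := by
  classical
  let _ := Fintype.ofFinite Ω
  rw [Function.Embedding.nonempty_iff_card_le]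
  simpa [Nat.card_eq_fintype_card] using hk

theorem IsSharp.card_eq [Finite Ω] (h : IsSharp G Ω k) (hk : k ≤ Nat.card Ω) :
    Nat.card G = (Nat.card Ω).descFactorial k := by
  classical
  let _ := Fintype.ofFinite Ω
  rw [h.card_eq_card_embedding (nonempty_embedding_of_le hk), Nat.card_eq_fintype_card,
    Fintype.card_embedding_eq]
  simp [Nat.card_eq_fintype_card]

theorem IsSharp.finite [Finite Ω] (h : IsSharp G Ω k) (hk : k ≤ Nat.card Ω) : Finite G := by
  apply Nat.finite_of_card_ne_zero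
  rw [h.card_eq hk]
  exact (Nat.descFactorial_pos.mpr hk).ne'

theorem isPretransitive_of_succ [Finite Ω] (h : IsMultiplyPretransitive G Ω (k + 1))
    (hk : k + 1 ≤ Nat.card Ω) : IsPretransitive G Ω := by
  rw [← is_one_pretransitive_iff]
  exact isMultiplyPretransitive_of_le (n := k + 1) (by omega) hk

/-- A point stabiliser of a sharply `(k+1)`-transitive group is sharply `k`-transitive on the
remaining points. -/
theorem IsSharp.ofStabilizer (h : IsSharp G Ω (k + 1)) [IsPretransitive G Ω] (a : Ω) :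
    IsSharp (stabilizer G a) (SubMulAction.ofStabilizer G a) k := by
  refine ⟨SubMulAction.ofStabilizer.isMultiplyPretransitive.mp h.trans, fun x => ?_⟩
  rw [eq_bot_iff]
  intro g hg
  rw [mem_stabilizer_iff] at hg
  rw [Subgroup.mem_bot]
  apply Subtype.ext
  apply h.eq_one (SubMulAction.ofStabilizer.snoc x).injective
  intro i
  rcases Fin.eq_castSucc_or_eq_last i with ⟨i, rfl⟩ | rfl
  · rw [SubMulAction.ofStabilizer.snoc_castSucc]
    exact congrArg Subtype.val (DFunLike.congr_fun hg i)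
  · rw [SubMulAction.ofStabilizer.snoc_last]
    exact g.prop

section Four

theorem injective_vec4 {a b c d : Ω} (hab : a ≠ b) (hac : a ≠ c) (had : a ≠ d) (hbc : b ≠ c)
    (hbd : b ≠ d) (hcd : c ≠ d) : Function.Injective ![a, b, c, d] := by
  intro i j hij
  fin_cases i <;> fin_cases j <;> simp_all [eq_comm]

theorem exists_smul4 (h : IsMultiplyPretransitive G Ω 4) {a b c d a' b' c' d' : Ω}
    (hab : a ≠ b) (hac : a ≠ c) (had : a ≠ d) (hbc : b ≠ c) (hbd : b ≠ d) (hcd : c ≠ d)
    (hab' : a' ≠ b') (hac' : a' ≠ c') (had' : a' ≠ d') (hbc' : b' ≠ c') (hbd' : b' ≠ d')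
    (hcd' : c' ≠ d') : ∃ g : G, g • a = a' ∧ g • b = b' ∧ g • c = c' ∧ g • d = d' := by
  obtain ⟨g, hg⟩ := exists_smul_of_multiplyPretransitive h (injective_vec4 hab hac had hbc hbd hcd)
    (injective_vec4 hab' hac' had' hbc' hbd' hcd')
  exact ⟨g, hg 0, hg 1, hg 2, hg 3⟩

theorem IsSharp.eq_of_smul4 (h : IsSharp G Ω 4) {a b c d : Ω}
    (hab : a ≠ b) (hac : a ≠ c) (had : a ≠ d) (hbc : b ≠ c) (hbd : b ≠ d) (hcd : c ≠ d)
    {g g' : G} (ha : g • a = g' • a) (hb : g • b = g' • b) (hc : g • c = g' • c)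
    (hd : g • d = g' • d) : g = g' := by
  apply h.eq_of_smul (injective_vec4 hab hac had hbc hbd hcd)
  intro i
  fin_cases i
  · exact ha
  · exact hb
  · exact hc
  · exact hd

/-- The counting at the heart of the Jordan–Tits theorem: let `t` be the involution fixing `a`,
`b` and swapping `c`, `d`. If some further point `z₀` is moved by `t`, the further moved points
are in bijection with the ordered pairs of distinct fixed points of `t`. -/
theorem IsSharp.moved_equiv_pairs (h : IsSharp G Ω 4) {a b c d z₀ : Ω} {t : G}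
    (hab : a ≠ b) (hcd : c ≠ d) (ha : t • a = a) (hb : t • b = b) (hc : t • c = d)
    (hd : t • d = c) (hz : t • z₀ ≠ z₀) (hzc : z₀ ≠ c) (hzd : z₀ ≠ d) :
    Nonempty ({z : Ω // t • z ≠ z ∧ z ≠ c ∧ z ≠ d} ≃
      {p : Ω × Ω // t • p.1 = p.1 ∧ t • p.2 = p.2 ∧ p.1 ≠ p.2}) := by
  have fixne : ∀ x : Ω, t • x = x → x ≠ c ∧ x ≠ d := fun x hx =>
    ⟨fun e => hcd (by rw [← hc, ← e, hx]), fun e => hcd (by rw [← hd, ← e, hx])⟩
  have htt : t * t = 1 := by
    apply h.eq_of_smul4 hab (fixne a ha).1 (fixne a ha).2 (fixne b hb).1 (fixne b hb).2 hcd <;>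
      simp [mul_smul, ha, hb, hc, hd]
  have tt : ∀ x : Ω, t • t • x = x := fun x => by rw [← mul_smul, htt, one_smul]
  have mov : ∀ z : Ω, z ≠ c → z ≠ d → c ≠ t • z ∧ d ≠ t • z := fun z h1 h2 =>
    ⟨fun e => h2 (by rw [← tt z, ← e, hc]), fun e => h1 (by rw [← tt z, ← e, hd])⟩
  let H := {g : G // g * t = t * g ∧ g • c = c}
  have Hd : ∀ g : H, g.1 • d = d := fun g => by
    rw [← hc, ← mul_smul, g.2.1, mul_smul, g.2.2]
  have Ht : ∀ (g : H) (x : Ω), g.1 • t • x = t • g.1 • x := fun g x => by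
    rw [← mul_smul, g.2.1, mul_smul]
  let f₁ : H → {z : Ω // t • z ≠ z ∧ z ≠ c ∧ z ≠ d} := fun g => ⟨g.1 • z₀, by
    refine ⟨fun e => hz ?_, fun e => hzc ?_, fun e => hzd ?_⟩
    · rw [← Ht] at e; exact smul_left_cancel _ e
    · exact smul_left_cancel _ (e.trans g.2.2.symm)
    · exact smul_left_cancel _ (e.trans (Hd g).symm)⟩
  let f₂ : H → {p : Ω × Ω // t • p.1 = p.1 ∧ t • p.2 = p.2 ∧ p.1 ≠ p.2} := fun g =>
    ⟨(g.1 • a, g.1 • b), by
      refine ⟨?_, ?_, fun e => hab (smul_left_cancel _ e)⟩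
      · rw [← Ht, ha]
      · rw [← Ht, hb]⟩
  have b₁ : Function.Bijective f₁ := by
    constructor
    · intro g g' e
      have e' : g.1 • z₀ = g'.1 • z₀ := congrArg Subtype.val e
      apply Subtype.ext
      apply h.eq_of_smul4 hcd hzc.symm (mov z₀ hzc hzd).1 hzd.symm (mov z₀ hzc hzd).2 hz.symm
      · rw [g.2.2, g'.2.2]
      · rw [Hd, Hd]
      · exact e'
      · rw [Ht, Ht, e']
    · rintro ⟨z, hz', hzc', hzd'⟩
      obtain ⟨g, g1, g2, g3, g4⟩ := exists_smul4 h.trans hcd hzc.symm (mov z₀ hzc hzd).1 hzd.symm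
        (mov z₀ hzc hzd).2 hz.symm hcd hzc'.symm (mov z hzc' hzd').1 hzd'.symm (mov z hzc' hzd').2
        hz'.symm
      refine ⟨⟨g, ?_, g1⟩, Subtype.ext g3⟩
      apply h.eq_of_smul4 hcd hzc.symm (mov z₀ hzc hzd).1 hzd.symm (mov z₀ hzc hzd).2 hz.symm <;>
        simp only [mul_smul, hc, hd, g1, g2, g3, g4, tt]
  have b₂ : Function.Bijective f₂ := by
    constructor
    · intro g g' e
      have e' : (g.1 • a, g.1 • b) = (g'.1 • a, g'.1 • b) := congrArg Subtype.val e
      rw [Prod.mk.injEq] at e'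
      apply Subtype.ext
      apply h.eq_of_smul4 hab (fixne a ha).1 (fixne a ha).2 (fixne b hb).1 (fixne b hb).2 hcd
      · exact e'.1
      · exact e'.2
      · rw [g.2.2, g'.2.2]
      · rw [Hd, Hd]
    · rintro ⟨⟨x, y⟩, hx, hy, hxy⟩
      obtain ⟨g, g1, g2, g3, g4⟩ := exists_smul4 h.trans hab (fixne a ha).1 (fixne a ha).2
        (fixne b hb).1 (fixne b hb).2 hcd hxy (fixne x hx).1 (fixne x hx).2
        (fixne y hy).1 (fixne y hy).2 hcd
      refine ⟨⟨g, ?_, g3⟩, Subtype.ext (Prod.ext g1 g2)⟩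
      simp only at hx hy
      apply h.eq_of_smul4 hab (fixne a ha).1 (fixne a ha).2 (fixne b hb).1 (fixne b hb).2 hcd <;>
        simp only [mul_smul, ha, hb, hc, hd, g1, g2, g3, g4, hx, hy]
  exact ⟨(Equiv.ofBijective f₁ b₁).symm.trans (Equiv.ofBijective f₂ b₂)⟩

/-- Jordan, Tits: a sharply 4-transitive group has finite degree 4, 5, 6 or 11. -/
theorem IsSharp.degree_four (h : IsSharp G Ω 4) (hne : Nonempty (Fin 4 ↪ Ω)) :
    Finite Ω ∧ (Nat.card Ω = 4 ∨ Nat.card Ω = 5 ∨ Nat.card Ω = 6 ∨ Nat.card Ω = 11) := by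
  classical
  obtain ⟨x⟩ := hne
  set a := x 0
  set b := x 1
  set c := x 2
  set d := x 3
  have hab : a ≠ b := x.injective.ne (by decide)
  have hac : a ≠ c := x.injective.ne (by decide)
  have had : a ≠ d := x.injective.ne (by decide)
  have hbc : b ≠ c := x.injective.ne (by decide)
  have hbd : b ≠ d := x.injective.ne (by decide)
  have hcd : c ≠ d := x.injective.ne (by decide)
  obtain ⟨t, ha, hb, hc, hd⟩ := exists_smul4 h.trans hab hac had hbc hbd hcd hab had hac hbd hbc
    hcd.symm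
  -- the fixed points of `t` are `a`, `b` and at most one more point
  have hfix : ∃ F : Finset Ω, (F.card = 2 ∨ F.card = 3) ∧ ∀ y, y ∈ F ↔ t • y = y := by
    by_cases he : ∃ e, t • e = e ∧ e ≠ a ∧ e ≠ b
    · obtain ⟨e, he, hea, heb⟩ := he
      refine ⟨{a, b, e}, Or.inr ?_, fun y => ⟨fun hy => ?_, fun hy => ?_⟩⟩
      · rw [Finset.card_eq_three]
        exact ⟨a, b, e, hab, hea.symm, heb.symm, rfl⟩
      · simp only [Finset.mem_insert, Finset.mem_singleton] at hy
        rcases hy with rfl | rfl | rfl <;> assumption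
      · by_contra hn
        simp only [Finset.mem_insert, Finset.mem_singleton, not_or] at hn
        have : t = 1 := by
          apply h.eq_of_smul4 hab hea.symm (Ne.symm hn.1) heb.symm (Ne.symm hn.2.1)
            (Ne.symm hn.2.2) <;> simp [ha, hb, he, hy]
        rw [this, one_smul] at hc
        exact hcd hc
    · push Not at he
      refine ⟨{a, b}, Or.inl (Finset.card_pair hab), fun y => ⟨fun hy => ?_, fun hy => ?_⟩⟩
      · simp only [Finset.mem_insert, Finset.mem_singleton] at hy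
        rcases hy with rfl | rfl <;> assumption
      · simp only [Finset.mem_insert, Finset.mem_singleton]
        by_cases hya : y = a
        · exact Or.inl hya
        · exact Or.inr (he y hy hya)
  obtain ⟨F, hF, hFt⟩ := hfix
  -- the remaining moved points form a finite set `Z`
  have hZ : ∃ Z : Finset Ω, (Z.card = 0 ∨ Z.card = F.card * F.card - F.card) ∧
      ∀ y, y ∈ Z ↔ (t • y ≠ y ∧ y ≠ c ∧ y ≠ d) := by
    by_cases hz : ∃ z, t • z ≠ z ∧ z ≠ c ∧ z ≠ d
    · obtain ⟨z, hz, hzc, hzd⟩ := hz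
      obtain ⟨e⟩ := h.moved_equiv_pairs hab hcd ha hb hc hd hz hzc hzd
      have e' : {p : Ω × Ω // t • p.1 = p.1 ∧ t • p.2 = p.2 ∧ p.1 ≠ p.2} ≃ F.offDiag :=
        Equiv.subtypeEquivRight (fun p => by simp [Finset.mem_offDiag, hFt])
      have e'' := e.trans e'
      have hfin : Finite {z : Ω // t • z ≠ z ∧ z ≠ c ∧ z ≠ d} := Finite.of_equiv _ e''.symm
      have hfin' : Set.Finite {z : Ω | t • z ≠ z ∧ z ≠ c ∧ z ≠ d} := hfin
      refine ⟨hfin'.toFinset, Or.inr ?_, fun y => by simp⟩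
      rw [← Set.ncard_eq_toFinset_card _ hfin', ← Nat.card_coe_set_eq, ← Finset.offDiag_card,
        ← Nat.card_eq_finsetCard]
      exact Nat.card_congr e''
    · refine ⟨∅, Or.inl rfl, fun y => ⟨fun hy => by simp at hy, fun hy => (hz ⟨y, hy⟩).elim⟩⟩
  obtain ⟨Z, hZ, hZt⟩ := hZ
  have huniv : ∀ y : Ω, y ∈ F ∪ {c, d} ∪ Z := fun y => by
    simp only [Finset.mem_union, Finset.mem_insert, Finset.mem_singleton, hFt, hZt]
    tauto
  let _ : Fintype Ω := ⟨F ∪ {c, d} ∪ Z, huniv⟩
  have hcard : Nat.card Ω = F.card + 2 + Z.card := by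
    rw [Nat.card_eq_fintype_card, ← Finset.card_univ]
    change (F ∪ {c, d} ∪ Z).card = _
    rw [Finset.card_union_of_disjoint, Finset.card_union_of_disjoint, Finset.card_pair hcd]
    · rw [Finset.disjoint_left]
      intro y hy hy'
      rw [hFt] at hy
      simp only [Finset.mem_insert, Finset.mem_singleton] at hy'
      rcases hy' with rfl | rfl
      · exact hcd (hy.symm.trans hc)
      · exact hcd (hd.symm.trans hy)
    · rw [Finset.disjoint_left]
      intro y hy hy'
      simp only [Finset.mem_union, Finset.mem_insert, Finset.mem_singleton, hFt, hZt] at hy hy'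
      tauto
  refine ⟨inferInstance, ?_⟩
  rcases hF with hF | hF <;> rw [hF] at hZ hcard <;> omega

end Four

/-- Jordan: a sharply 5-transitive group of finite degree has degree 5, 6, 7 or 12. -/
theorem IsSharp.degree_five [Finite Ω] (h : IsSharp G Ω 5) (hk : 5 ≤ Nat.card Ω) :
    Nat.card Ω = 5 ∨ Nat.card Ω = 6 ∨ Nat.card Ω = 7 ∨ Nat.card Ω = 12 := by
  have := isPretransitive_of_succ h.trans hk
  obtain ⟨x⟩ := nonempty_embedding_of_le hk
  have h4 := h.ofStabilizer (x 0)
  have hc := SubMulAction.nat_card_ofStabilizer_add_one_eq G (x 0)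
  have := (h4.degree_four (nonempty_embedding_of_le (by omega))).2
  omega

end CL.Perm
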