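import Cfsg.Agent.Base

/-!
Simplicity criteria for finite (permutation) groups.

* `CL.Perm.simple_of_sylow_normalizer_prime`: a Sylow subgroup `P` of prime order `p` with
  `|N(P)| = p * r`, `r` prime, and every non-trivial normal subgroup of order divisible by `p`.
* `CL.Perm.sylow_prime_degree`: Sylow data of a transitive group of prime degree.
* `CL.Perm.simple_of_prime_degree`: Chapman's criterion (gives `M₁₁`, `M₂₃`).
* `CL.Perm.simple_of_stabilizer_simple`: primitive, simple point stabiliser, no regular normal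
  subgroup.
* `CL.Perm.simple_of_two_transitive`: 2-transitive of non-prime-power degree with simple point
  stabiliser (gives `M₁₂`, `M₂₄`, `M₂₂`).
-/

set_option autoImplicit false

namespace CL.Perm

open MulAction Subgroup

variable {G : Type*} [Group G]

/-- If an abelian Sylow `p`-subgroup `P` of `G` lies in a normal subgroup `N` and is
self-normalising there, then `N` has a normal `p`-complement which is normal in `G`. -/
theorem exists_normal_complement_of_inf_normalizer [Finite G] {p : ℕ} [Fact p.Prime]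
    (P : Sylow p G) (hcomm : ∀ x ∈ P, ∀ y ∈ P, x * y = y * x) (N : Subgroup G) [N.Normal]
    (hPN : (P : Subgroup G) ≤ N) (hN : normalizer (P : Set G) ⊓ N ≤ P) :
    ∃ K : Subgroup G, K.Normal ∧ K ≤ N ∧ ¬ p ∣ Nat.card K ∧
      Nat.card K * Nat.card P = Nat.card N := by
  let Q : Sylow p N := P.subtype hPN
  have hQ : normalizer (Q : Set N) ≤ centralizer (Q : Set N) := by
    intro n hn
    have hn' : (n : G) ∈ normalizer (P : Set G) := by
      intro x
      by_cases hx : x ∈ N
      · exact hn ⟨x, hx⟩
      · constructor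
        · intro h; exact (hx (hPN h)).elim
        · intro h
          exfalso
          apply hx
          have h1 := hPN h
          have : x = (n : G)⁻¹ * (n * x * (n : G)⁻¹) * n := by group
          rw [this]
          exact N.mul_mem (N.mul_mem (N.inv_mem n.2) h1) n.2
    have hnP : (n : G) ∈ P := hN ⟨hn', n.2⟩
    rw [mem_centralizer_iff]
    intro y hy
    exact Subtype.ext (hcomm _ hy _ hnP)
  let φ := MonoidHom.transferSylow Q hQ
  have hK := MonoidHom.ker_transferSylow_isComplement' Q hQ
  have hnd := MonoidHom.not_dvd_card_ker_transferSylow Q hQ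
  have hcardQ : Nat.card Q = Nat.card P := by
    exact Nat.card_congr (subgroupOfEquivOfLe hPN).toEquiv
  have hcardK : Nat.card (φ.ker.map N.subtype) = Nat.card φ.ker :=
    card_map_of_injective N.subtype_injective
  refine ⟨φ.ker.map N.subtype, ⟨?_⟩, map_subtype_le _, by rwa [hcardK], ?_⟩
  · rintro _ ⟨k, hk, rfl⟩ g
    have hmem : g * (k : G) * g⁻¹ ∈ N := Normal.conj_mem inferInstance _ k.2 g
    refine ⟨⟨_, hmem⟩, ?_, rfl⟩
    change φ ⟨_, hmem⟩ = 1
    have h1 : orderOf (⟨_, hmem⟩ : N) = orderOf k := by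
      rw [← Subgroup.orderOf_coe, ← Subgroup.orderOf_coe k]
      exact (SemiconjBy.orderOf_eq g (by simp [SemiconjBy])).symm
    have h2 : orderOf k ∣ Nat.card φ.ker := by
      have := orderOf_dvd_natCard (⟨k, hk⟩ : φ.ker)
      rwa [← Subgroup.orderOf_coe] at this
    have h3 : orderOf (φ ⟨_, hmem⟩) ∣ Nat.card φ.ker :=
      (orderOf_map_dvd φ _).trans (h1 ▸ h2)
    obtain ⟨j, hj⟩ := (IsPGroup.iff_orderOf.mp Q.isPGroup') (φ ⟨_, hmem⟩)
    rw [← orderOf_eq_one_iff]
    rcases Nat.eq_zero_or_pos j with rfl | hj0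
    · simpa using hj
    · exfalso
      apply hnd
      exact ((dvd_pow_self p hj0.ne').trans (hj ▸ h3))
  · rw [hcardK, ← hcardQ]
    exact hK.card_mul_card

/-- Simplicity from a Sylow subgroup of prime order whose normaliser has prime index over it. -/
theorem simple_of_sylow_normalizer_prime [Finite G] {p r : ℕ} [Fact p.Prime] (hr : r.Prime)
    (P : Sylow p G) (hP : Nat.card P = p) (hN : Nat.card (normalizer (P : Set G)) = p * r)
    (hG : Nat.card G ≠ p * r) (hnorm : ∀ N : Subgroup G, N.Normal → N ≠ ⊥ → p ∣ Nat.card N) :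
    IsSimpleGroup G := by
  have hp : p.Prime := Fact.out
  have hnt : Nontrivial G := by
    rw [← Finite.one_lt_card_iff_nontrivial]
    have := Nat.le_of_dvd Nat.card_pos (card_subgroup_dvd_card (P : Subgroup G))
    have := hp.two_le
    change Nat.card P ≤ _ at *
    omega
  refine ⟨fun N hNn => ?_⟩
  by_cases hN0 : N = ⊥
  · exact Or.inl hN0
  right
  have hcyc : IsCyclic P := isCyclic_of_prime_card hP
  have hcomm : ∀ x ∈ P, ∀ y ∈ P, x * y = y * x := fun x hx y hy => by
    let _ := IsCyclic.commGroup (α := P)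
    exact congrArg Subtype.val (mul_comm (⟨x, hx⟩ : P) ⟨y, hy⟩)
  -- `P ≤ N`
  have hPN : (P : Subgroup G) ≤ N := by
    obtain ⟨Q⟩ : Nonempty (Sylow p N) := inferInstance
    have hQ : IsPGroup p (Q.map N.subtype) := Q.isPGroup'.map _
    obtain ⟨Q', hQ'⟩ := hQ.exists_le_sylow
    obtain ⟨g, rfl⟩ := exists_smul_eq G P Q'
    have hcard : Nat.card (g • P : Sylow p G) = p := by
      rw [Sylow.card_eq_multiplicity, ← Sylow.card_eq_multiplicity P, hP]
    have hQc : p ∣ Nat.card (Q.map N.subtype) := by
      rw [card_map_of_injective N.subtype_injective]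
      exact Q.dvd_card_of_dvd_card (hnorm N hNn hN0)
    have heq : (Q : Subgroup N).map N.subtype = (g • P : Sylow p G) := by
      apply eq_of_le_of_card_ge hQ'
      rw [hcard]
      exact Nat.le_of_dvd Nat.card_pos hQc
    intro x hx
    have : g * x * g⁻¹ ∈ (Q : Subgroup N).map N.subtype := by
      rw [heq]
      exact ⟨x, hx, rfl⟩
    have h2 := map_subtype_le _ this
    have h3 := hNn.conj_mem _ h2 g⁻¹
    simpa [mul_assoc] using h3
  set M := normalizer (P : Set G) with hM
  have hfr : M ⊔ N = ⊤ := P.normalizer_sup_eq_top' hPN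
  have hPM : (P : Subgroup G) ≤ M := le_normalizer
  have h1 : p ∣ Nat.card (M ⊓ N : Subgroup G) := by
    have := card_dvd_of_le (le_inf hPM hPN)
    change Nat.card P ∣ _ at this
    rwa [hP] at this
  have h2 : Nat.card (M ⊓ N : Subgroup G) ∣ p * r := hN ▸ card_dvd_of_le inf_le_left
  obtain ⟨s, hs⟩ := h1
  rw [hs] at h2
  have h3 : s ∣ r := Nat.dvd_of_mul_dvd_mul_left hp.pos h2
  rcases (Nat.dvd_prime hr).mp h3 with rfl | rfl
  · exfalso
    have hMN : M ⊓ N ≤ P := by
      apply le_of_eq
      symm
      apply eq_of_le_of_card_ge (le_inf hPM hPN)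
      omega
    obtain ⟨K, hKn, -, hKp, hK⟩ := exists_normal_complement_of_inf_normalizer P hcomm N hPN hMN
    have hK0 : K = ⊥ := by
      by_contra h
      exact hKp (hnorm K hKn h)
    rw [hK0, card_bot, one_mul] at hK
    have hPN' : (P : Subgroup G) = N := eq_of_le_of_card_ge hPN hK.ge
    have : M = ⊤ := by
      rw [hM]
      have : (P : Subgroup G).Normal := hPN' ▸ hNn
      exact normalizer_eq_top (P : Subgroup G)
    apply hG
    rw [← hN, this, card_top]
  · have hMN : M ⊓ N = M := eq_of_le_of_card_ge inf_le_left (by omega)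
    rw [← hfr, eq_comm, sup_eq_right]
    exact hMN ▸ inf_le_right

variable {Ω : Type*} [MulAction G Ω]

theorem card_dvd_of_isPretransitive [Finite G] [IsPretransitive G Ω] [Nonempty Ω] :
    Nat.card Ω ∣ Nat.card G := by
  obtain ⟨a⟩ := ‹Nonempty Ω›
  rw [← index_stabilizer_of_transitive G a]
  exact index_dvd_card _

theorem card_eq_mul_card_stabilizer [IsPretransitive G Ω] (a : Ω) :
    Nat.card G = Nat.card Ω * Nat.card (stabilizer G a) := by
  rw [← index_stabilizer_of_transitive G a, index_mul_card]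

theorem card_dvd_factorial [Finite Ω] [FaithfulSMul G Ω] :
    Nat.card G ∣ (Nat.card Ω).factorial := by
  classical
  let _ := Fintype.ofFinite Ω
  have := card_dvd_of_injective (toPermHom G Ω) toPerm_injective
  rwa [Nat.card_eq_fintype_card (α := Equiv.Perm Ω), Fintype.card_perm,
    ← Nat.card_eq_fintype_card] at this

theorem finite_of_faithful [Finite Ω] [FaithfulSMul G Ω] : Finite G :=
  Finite.of_injective _ (toPerm_injective (α := G) (β := Ω))

/-- A non-trivial normal subgroup of a faithful primitive group is transitive. -/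
theorem isPretransitive_of_normal_ne_bot [FaithfulSMul G Ω] [IsPreprimitive G Ω] (N : Subgroup G)
    [N.Normal] (hN : N ≠ ⊥) : IsPretransitive N Ω := by
  apply IsQuasiPreprimitive.isPretransitive_of_normal
  intro h
  apply hN
  rw [eq_bot_iff]
  intro n hn
  rw [mem_bot]
  apply eq_of_smul_eq_smul (α := Ω)
  intro a
  have : a ∈ fixedPoints N Ω := h ▸ Set.mem_univ a
  rw [one_smul]
  exact this ⟨n, hn⟩

/-- An element centralising a transitive subgroup and fixing a point acts trivially. -/
theorem eq_one_of_centralizes_transitive [FaithfulSMul G Ω] (H : Subgroup G)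
    [IsPretransitive H Ω] {c : G} (hc : ∀ h ∈ H, h * c = c * h) {a : Ω} (ha : c • a = a) :
    c = 1 := by
  apply eq_of_smul_eq_smul (α := Ω)
  intro b
  obtain ⟨h, rfl⟩ := exists_smul_eq H a b
  rw [one_smul, Subgroup.smul_def, ← mul_smul, ← hc h h.2, mul_smul, ha]

/-- A transitive abelian subgroup is self-centralising. -/
theorem centralizer_le_of_transitive [FaithfulSMul G Ω] [Nonempty Ω] (H : Subgroup G)
    [IsPretransitive H Ω] (hcomm : ∀ x ∈ H, ∀ y ∈ H, x * y = y * x) :
    centralizer (H : Set G) ≤ H := by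
  obtain ⟨a⟩ := ‹Nonempty Ω›
  intro c hc
  obtain ⟨h, hh⟩ := exists_smul_eq H a (c • a)
  have : (h : G)⁻¹ * c = 1 := by
    apply eq_one_of_centralizes_transitive (Ω := Ω) H (a := a)
    · intro x hx
      rw [← mul_assoc, hcomm x hx _ (H.inv_mem h.2), mul_assoc, hc x hx, mul_assoc]
    · rw [mul_smul, ← hh, Subgroup.smul_def, inv_smul_smul]
  rw [inv_mul_eq_one] at this
  exact this ▸ h.2

/-- The order of the normaliser of a self-centralising subgroup of prime order `p`. -/
theorem card_normalizer_of_prime [Finite G] {p : ℕ} (hp : p.Prime) (P : Subgroup G)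
    (hP : Nat.card P = p) (hC : centralizer (P : Set G) ≤ P) :
    ∃ r, r ∣ p - 1 ∧ Nat.card (normalizer (P : Set G)) = p * r := by
  have := Fact.mk hp
  have hcyc : IsCyclic P := isCyclic_of_prime_card hP
  have hC' : centralizer (P : Set G) = P := by
    refine le_antisymm hC (fun x hx y hy => ?_)
    let _ := IsCyclic.commGroup (α := P)
    exact congrArg Subtype.val (mul_comm (⟨y, hy⟩ : P) ⟨x, hx⟩)
  have key := card_dvd_of_injective _ (QuotientGroup.kerLift_injective P.normalizerMonoidHom)
  rw [normalizerMonoidHom_ker, ← index, hcyc.card_mulAut, hP, Nat.totient_prime hp, hC'] at key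
  refine ⟨_, key, ?_⟩
  rw [← index_mul_card (P.subgroupOf (normalizer (P : Set G))), mul_comm]
  congr 1
  rw [← hP]
  exact Nat.card_congr (subgroupOfEquivOfLe le_normalizer).toEquiv

/-- Sylow data of a faithful transitive group of prime degree. -/
theorem sylow_prime_degree [FaithfulSMul G Ω] [IsPretransitive G Ω] {p : ℕ} [Fact p.Prime]
    (hΩ : Nat.card Ω = p) (P : Sylow p G) :
    Nat.card P = p ∧ IsPretransitive P Ω ∧ centralizer (P : Set G) ≤ P ∧
      ∃ r, r ∣ p - 1 ∧ Nat.card (normalizer (P : Set G)) = p * r ∧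
        Nat.card G = p * r * Nat.card (Sylow p G) := by
  have hp : p.Prime := Fact.out
  have hΩ0 : Nat.card Ω ≠ 0 := hΩ ▸ hp.ne_zero
  have : Finite Ω := Nat.finite_of_card_ne_zero hΩ0
  have : Nonempty Ω := (Nat.card_ne_zero.mp hΩ0).1
  have : Finite G := finite_of_faithful (Ω := Ω)
  have hP : Nat.card P = p := by
    have h1 : p ∣ Nat.card P := P.dvd_card_of_dvd_card (hΩ ▸ card_dvd_of_isPretransitive)
    obtain ⟨j, hj⟩ := P.isPGroup'.exists_card_eq
    change Nat.card P = _ at hj
    have h2 : Nat.card P ∣ p.factorial :=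
      (card_subgroup_dvd_card (P : Subgroup G)).trans (hΩ ▸ card_dvd_factorial)
    rw [hj] at h1 h2 ⊢
    have hj0 : j ≠ 0 := by
      rintro rfl
      exact hp.one_lt.ne' (by simpa using h1)
    have hj1 : ¬ 2 ≤ j := by
      intro h
      have h3 : p * p ∣ p.factorial := (by rw [← pow_two]; exact pow_dvd_pow p h : p * p ∣ p ^ j).trans h2
      rw [← Nat.mul_factorial_pred hp.ne_zero] at h3
      have h4 := Nat.dvd_of_mul_dvd_mul_left hp.pos h3
      rw [hp.dvd_factorial] at h4
      have := hp.pos
      omega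
    obtain rfl : j = 1 := by omega
    simp
  have htr : IsPretransitive P Ω := by
    have hne : ∃ a : Ω, stabilizer P a ≠ ⊤ := by
      by_contra hcon
      push Not at hcon
      have : Subsingleton P := ⟨fun x y => by
        apply eq_of_smul_eq_smul (α := Ω)
        intro a
        have hx : x ∈ stabilizer P a := hcon a ▸ mem_top x
        have hy : y ∈ stabilizer P a := hcon a ▸ mem_top y
        rw [mem_stabilizer_iff] at hx hy
        rw [hx, hy]⟩
      have h1 : Nat.card P = 1 := Nat.card_unique
      exact hp.one_lt.ne' (hP.symm.trans h1)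
    obtain ⟨a, ha⟩ := hne
    rw [isPretransitive_iff_orbit_eq_univ a, Set.eq_univ_iff_ncard, hΩ, ← index_stabilizer]
    have := index_dvd_card (stabilizer P a)
    rw [hP, Nat.dvd_prime hp] at this
    exact this.resolve_left (by rwa [index_eq_one])
  have hcyc : IsCyclic P := isCyclic_of_prime_card hP
  have hC : centralizer (P : Set G) ≤ P := by
    apply centralizer_le_of_transitive (Ω := Ω) (P : Subgroup G)
    intro x hx y hy
    let _ := IsCyclic.commGroup (α := P)
    exact congrArg Subtype.val (mul_comm (⟨x, hx⟩ : P) ⟨y, hy⟩)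
  obtain ⟨r, hr, hN⟩ := card_normalizer_of_prime hp (P : Subgroup G) hP hC
  refine ⟨hP, htr, hC, r, hr, hN, ?_⟩
  rw [P.card_eq_index_normalizer, ← hN, mul_comm]
  exact (index_mul_card _).symm

/-- Chapman's criterion: a faithful transitive group of prime degree `p` and order `p * m * r`
with `1 < m ≡ 1 (mod p)` and `r < p` prime is simple. -/
theorem simple_of_prime_degree [FaithfulSMul G Ω] [IsPretransitive G Ω] {p m r : ℕ}
    (hp : p.Prime) (hΩ : Nat.card Ω = p) (hr : r.Prime) (hrp : r < p) (hm : m % p = 1)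
    (hm1 : m ≠ 1) (hG : Nat.card G = p * m * r) : IsSimpleGroup G := by
  have := Fact.mk hp
  have hΩ0 : Nat.card Ω ≠ 0 := hΩ ▸ hp.ne_zero
  have : Finite Ω := Nat.finite_of_card_ne_zero hΩ0
  have : Nonempty Ω := (Nat.card_ne_zero.mp hΩ0).1
  have : Finite G := finite_of_faithful (Ω := Ω)
  obtain ⟨P⟩ : Nonempty (Sylow p G) := inferInstance
  obtain ⟨hP, -, -, s, hs, hN, hG'⟩ := sylow_prime_degree hΩ P
  have h1 : Nat.card (Sylow p G) ≡ 1 [MOD p] := card_sylow_modEq_one p G
  have h2 : m * r = s * Nat.card (Sylow p G) := by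
    apply Nat.eq_of_mul_eq_mul_left hp.pos
    rw [← mul_assoc, ← hG, hG', mul_assoc]
  have h3 : m ≡ 1 [MOD p] := by
    unfold Nat.ModEq
    rw [hm, Nat.mod_eq_of_lt hp.one_lt]
  have h4 : r ≡ s [MOD p] := by
    have a1 := h3.mul_right r
    have a2 := h1.mul_left s
    rw [h2, one_mul] at a1
    rw [mul_one] at a2
    exact a1.symm.trans a2
  have hsp : s < p := by
    have := Nat.le_of_dvd (by have := hp.two_le; omega) hs
    have := hp.pos
    omega
  obtain rfl : r = s := Nat.ModEq.eq_of_lt_of_lt h4 hrp hsp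
  have : IsPreprimitive G Ω := IsPreprimitive.of_prime_card (hΩ ▸ hp)
  apply simple_of_sylow_normalizer_prime hr P hP hN
  · rw [hG]
    intro h
    apply hm1
    have := Nat.eq_of_mul_eq_mul_right hr.pos h
    exact Nat.eq_of_mul_eq_mul_left hp.pos (this.trans (mul_one p).symm)
  · intro N hN hN0
    have := isPretransitive_of_normal_ne_bot (Ω := Ω) N hN0
    exact hΩ ▸ card_dvd_of_isPretransitive

/-- A faithful primitive group with simple point stabiliser and no regular normal subgroup is
simple. -/
theorem simple_of_stabilizer_simple [FaithfulSMul G Ω] [IsPreprimitive G Ω] (a : Ω)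
    (hs : IsSimpleGroup (stabilizer G a))
    (hreg : ∀ N : Subgroup G, N.Normal → IsPretransitive N Ω → N ⊓ stabilizer G a ≠ ⊥) :
    IsSimpleGroup G := by
  have hnt : Nontrivial G := (Subtype.val_injective (p := (· ∈ stabilizer G a))).nontrivial
  refine ⟨fun N hN => ?_⟩
  by_cases hN0 : N = ⊥
  · exact Or.inl hN0
  right
  have htr := isPretransitive_of_normal_ne_bot (Ω := Ω) N hN0
  rcases hs.eq_bot_or_eq_top_of_normal (N.subgroupOf (stabilizer G a)) inferInstance with h | h
  · exact (hreg N hN htr (by rwa [subgroupOf_eq_bot, disjoint_iff] at h)).elim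
  · rw [subgroupOf_eq_top] at h
    rw [eq_top_iff]
    intro g _
    obtain ⟨n, hn⟩ := exists_smul_eq N a (g • a)
    have : (n : G)⁻¹ * g ∈ stabilizer G a := by
      rw [mem_stabilizer_iff, mul_smul, ← hn, Subgroup.smul_def, inv_smul_smul]
    have h2 := N.mul_mem n.2 (h this)
    simpa using h2

/-- A transitive subgroup meeting a point stabiliser trivially has order the degree. -/
theorem card_eq_of_inf_stabilizer_eq_bot (N : Subgroup G) [IsPretransitive N Ω] {a : Ω}
    (h : N ⊓ stabilizer G a = ⊥) : Nat.card N = Nat.card Ω := by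
  rw [card_eq_mul_card_stabilizer (G := N) a]
  have : stabilizer N a = ⊥ := by
    rw [eq_bot_iff]
    intro n hn
    have : (n : G) ∈ N ⊓ stabilizer G a := ⟨n.2, hn⟩
    rw [h, mem_bot] at this
    exact mem_bot.mpr (Subtype.ext this)
  rw [this, card_bot, mul_one]

/-- In a regular normal subgroup `N`, two elements moving `a` into the same orbit of the
stabiliser of `a` are conjugate. -/
theorem conj_of_regular_normal (N : Subgroup G) [hN : N.Normal] {a : Ω}
    (h : N ⊓ stabilizer G a = ⊥) {x y g : G} (hx : x ∈ N) (hy : y ∈ N) (hg : g • a = a)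
    (hxy : g • x • a = y • a) : g * x * g⁻¹ = y := by
  have h1 : y⁻¹ * (g * x * g⁻¹) ∈ N ⊓ stabilizer G a := by
    refine ⟨N.mul_mem (N.inv_mem hy) (hN.conj_mem x hx g), ?_⟩
    have : g⁻¹ • a = a := by rw [inv_smul_eq_iff, hg]
    change _ • a = a
    rw [mul_smul, mul_smul, mul_smul, this, hxy, inv_smul_smul]
  rw [h, mem_bot, inv_mul_eq_one] at h1
  exact h1.symm

/-- A faithful 2-transitive group whose degree has two distinct prime divisors and whose point
stabiliser is simple is simple. -/
theorem simple_of_two_transitive [Finite Ω] [FaithfulSMul G Ω]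
    (h2 : IsMultiplyPretransitive G Ω 2) (a : Ω) (hs : IsSimpleGroup (stabilizer G a))
    {p q : ℕ} (hp : p.Prime) (hq : q.Prime) (hpq : p ≠ q) (hpΩ : p ∣ Nat.card Ω)
    (hqΩ : q ∣ Nat.card Ω) : IsSimpleGroup G := by
  have : IsPreprimitive G Ω := isPreprimitive_of_is_two_pretransitive h2
  have : Finite G := finite_of_faithful (Ω := Ω)
  apply simple_of_stabilizer_simple a hs
  intro N hN htr h
  have hc := card_eq_of_inf_stabilizer_eq_bot N h
  have := Fact.mk hp
  have := Fact.mk hq
  obtain ⟨x, hx⟩ := exists_prime_orderOf_dvd_card' (G := N) p (hc ▸ hpΩ)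
  obtain ⟨y, hy⟩ := exists_prime_orderOf_dvd_card' (G := N) q (hc ▸ hqΩ)
  have hne : ∀ z : N, ∀ r : ℕ, r.Prime → orderOf z = r → a ≠ (z : G) • a := by
    intro z r hr hz e
    have : (z : G) ∈ N ⊓ stabilizer G a := ⟨z.2, e.symm⟩
    rw [h, mem_bot] at this
    have h1 : z = 1 := Subtype.ext this
    rw [h1, orderOf_one] at hz
    exact hr.one_lt.ne hz
  obtain ⟨g, hg1, hg2⟩ := is_two_pretransitive_iff.mp h2 (hne x p hp hx) (hne y q hq hy)
  have := conj_of_regular_normal N h x.2 y.2 hg1 hg2
  apply hpq
  rw [← hx, ← hy, ← Subgroup.orderOf_coe, ← Subgroup.orderOf_coe, ← this]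
  exact SemiconjBy.orderOf_eq g (by simp [SemiconjBy])

end CL.Perm
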