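import Cfsg.Agent.Base
import Cfsg.Agent.Perm.Sharp
import Cfsg.Agent.Perm.SimpleCrit

/-!
Sharply 4-transitive groups of degree 11 and sharply 5-transitive groups of degree 12 are simple;
there is no sharply 6-transitive group of degree 13; degrees of sharply `k`-transitive groups
for `k ≥ 6`.
-/

set_option autoImplicit false

namespace CL.Perm

open MulAction

variable {G : Type*} {Ω : Type*} [Group G] [MulAction G Ω]

theorem IsSharp.simple_eleven (h : IsSharp G Ω 4) (hΩ : Nat.card Ω = 11) :
    IsSimpleGroup G ∧ Nat.card G = 7920 := by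
  have : Finite Ω := Nat.finite_of_card_ne_zero (by omega)
  have hk : 4 ≤ Nat.card Ω := by omega
  have hG : Nat.card G = 7920 := by rw [h.card_eq hk, hΩ]; rfl
  have := h.faithful (nonempty_embedding_of_le hk)
  have := isPretransitive_of_succ h.trans hk
  exact ⟨simple_of_prime_degree (p := 11) (m := 144) (r := 5) (by norm_num) hΩ (by norm_num)
    (by norm_num) (by norm_num) (by norm_num) hG, hG⟩

theorem IsSharp.simple_twelve (h : IsSharp G Ω 5) (hΩ : Nat.card Ω = 12) :
    IsSimpleGroup G ∧ Nat.card G = 95040 := by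
  have : Finite Ω := Nat.finite_of_card_ne_zero (by omega)
  have hk : 5 ≤ Nat.card Ω := by omega
  have hG : Nat.card G = 95040 := by rw [h.card_eq hk, hΩ]; rfl
  have := h.faithful (nonempty_embedding_of_le hk)
  have := isPretransitive_of_succ h.trans hk
  obtain ⟨x⟩ := nonempty_embedding_of_le hk
  have hc := SubMulAction.nat_card_ofStabilizer_add_one_eq G (x 0)
  have h11 := (h.ofStabilizer (x 0)).simple_eleven (by omega)
  have := h.trans
  exact ⟨simple_of_two_transitive (isMultiplyPretransitive_of_le (n := 5) (by norm_num) hk) (x 0)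
    h11.1 (p := 2) (q := 3) (by norm_num) (by norm_num) (by norm_num) (by rw [hΩ]; norm_num)
    (by rw [hΩ]; norm_num), hG⟩

theorem not_transitive_thirteen [FaithfulSMul G Ω] [IsPretransitive G Ω] (hΩ : Nat.card Ω = 13) :
    Nat.card G ≠ 1235520 := by
  intro hG
  have : Finite Ω := Nat.finite_of_card_ne_zero (by omega)
  have : Finite G := finite_of_faithful (Ω := Ω)
  have : Fact (Nat.Prime 13) := ⟨by norm_num⟩
  obtain ⟨P⟩ : Nonempty (Sylow 13 G) := inferInstance
  obtain ⟨-, -, -, r, hr, -, hG'⟩ := sylow_prime_degree hΩ P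
  have h1 : Nat.card (Sylow 13 G) ≡ 1 [MOD 13] := card_sylow_modEq_one 13 G
  unfold Nat.ModEq at h1
  have hr' : r ≤ 12 := Nat.le_of_dvd (by norm_num) hr
  rw [hG] at hG'
  interval_cases r <;> omega

theorem IsSharp.degree_of_six_le (k : ℕ) (hk : 6 ≤ k) :
    ∀ {G Ω : Type _} [Group G] [MulAction G Ω] [Finite Ω], IsSharp G Ω k → k ≤ Nat.card Ω →
      Nat.card Ω = k ∨ Nat.card Ω = k + 1 ∨ Nat.card Ω = k + 2 := by
  induction k, hk using Nat.le_induction with
  | base =>
    intro G Ω _ _ _ h hn
    have := isPretransitive_of_succ h.trans hn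
    have := h.faithful (nonempty_embedding_of_le hn)
    obtain ⟨x⟩ := nonempty_embedding_of_le hn
    have hc := SubMulAction.nat_card_ofStabilizer_add_one_eq G (x 0)
    have h5 := (h.ofStabilizer (x 0)).degree_five (by omega)
    have h13 : Nat.card Ω ≠ 13 := fun h13 =>
      not_transitive_thirteen (G := G) h13 (by rw [h.card_eq hn, h13]; rfl)
    omega
  | succ k hk ih =>
    intro G Ω _ _ _ h hn
    have := isPretransitive_of_succ h.trans hn
    obtain ⟨x⟩ := nonempty_embedding_of_le hn
    have hc := SubMulAction.nat_card_ofStabilizer_add_one_eq G (x 0)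
    have := ih (h.ofStabilizer (x 0)) (by omega)
    omega

end CL.Perm
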