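import Cfsg.Agent.Base

/-! Elementwise criteria for blocks of a group action. -/

set_option autoImplicit false

namespace CL.Perm

open MulAction
open scoped Pointwise

variable {G X : Type*} [Group G] [MulAction G X]

/-- Elementwise criterion for a block. -/
theorem isBlock_of_forall_mem {B : Set X}
    (h : ∀ (g : G) (a : X), a ∈ B → g • a ∈ B → ∀ b ∈ B, g • b ∈ B) : IsBlock G B := by
  rw [isBlock_iff_smul_eq_of_mem]
  intro g a ha hga
  apply Set.Subset.antisymm
  · rintro _ ⟨b, hb, rfl⟩
    exact h g a ha hga b hb
  · intro b hb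
    refine ⟨g⁻¹ • b, h g⁻¹ (g • a) hga (by simpa using ha) b hb, by simp⟩

/-- Elementwise use of a block. -/
theorem smul_mem_of_isBlock {B : Set X} (hB : IsBlock G B) {g : G} {a : X} (ha : a ∈ B)
    (hga : g • a ∈ B) {b : X} (hb : b ∈ B) : g • b ∈ B := by
  have := isBlock_iff_smul_eq_of_mem.mp hB ha hga
  rw [← this]
  exact Set.smul_mem_smul_set hb

/-- In a primitive action, a block with two distinct points is everything. -/
theorem eq_univ_of_isBlock [IsPreprimitive G X] {B : Set X} (hB : IsBlock G B) {a b : X}
    (ha : a ∈ B) (hb : b ∈ B) (hab : a ≠ b) : B = Set.univ :=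
  hB.subsingleton_or_eq_univ.resolve_left fun h => hab (h ha hb)

/-- An invariant equivalence relation of a primitive action relating two distinct points is
total. -/
theorem rel_of_invariant_equivalence [IsPreprimitive G X] {r : X → X → Prop}
    (hr : Equivalence r) (hinv : ∀ (g : G) (x y : X), r x y → r (g • x) (g • y)) {a b : X}
    (hab : a ≠ b) (h : r a b) (x y : X) : r x y := by
  have hB : IsBlock G {z | r a z} := by
    apply isBlock_of_forall_mem
    intro g u hu hgu v hv
    exact hr.trans hgu (hinv g _ _ (hr.trans (hr.symm hu) hv))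
  have := eq_univ_of_isBlock hB (hr.refl a) h hab
  have hx : x ∈ {z | r a z} := by rw [this]; trivial
  have hy : y ∈ {z | r a z} := by rw [this]; trivial
  exact hr.trans (hr.symm hx) hy

end CL.Perm
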