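import Cfsg.Agent.Base

/-!
Practical API for multiply transitive and homogeneous actions on finite sets.
-/

set_option autoImplicit false

namespace CL.Perm

open MulAction Equiv
open scoped Pointwise

section General

variable {G α : Type*} [Group G] [MulAction G α]

/-- `k`-transitivity in terms of finsets and permutations. -/
theorem multi_iff_perm {k : ℕ} :
    IsMultiplyPretransitive G α k ↔
      ∀ s : Finset α, s.card = k → ∀ π : Perm α, ∃ g : G, ∀ x ∈ s, g • x = π x := by
  classical
  rw [isMultiplyPretransitive_iff]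
  constructor
  · intro h s hs π
    let e : Fin k ↪ α := ((s.equivFinOfCardEq hs).symm.toEmbedding).trans
      (Function.Embedding.subtype _)
    obtain ⟨g, hg⟩ := h e (π • e)
    refine ⟨g, fun x hx => ?_⟩
    have := congrArg (fun f : Fin k ↪ α => f (s.equivFinOfCardEq hs ⟨x, hx⟩)) hg
    simpa [e, Function.Embedding.smul_apply] using this
  · intro h x y
    obtain ⟨π, hπ⟩ := Perm.exists_smul_eq_embedding x y
    obtain ⟨g, hg⟩ := h (Finset.univ.map x) (by simp) π
    refine ⟨g, ?_⟩
    ext i
    rw [← hπ]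
    simp only [Function.Embedding.smul_apply, Perm.smul_def]
    exact hg _ (by simp)

theorem exists_perm_of_injOn (s : Finset α) (f : α → α) (hf : Set.InjOn f s) :
    ∃ π : Perm α, ∀ x ∈ s, π x = f x := by
  obtain ⟨π, hπ⟩ := Perm.exists_extending_pair (fun x : s => (x : α)) (fun x : s => f x)
    Subtype.val_injective (fun x y h => Subtype.ext (hf x.2 y.2 h))
  exact ⟨π, fun x hx => hπ ⟨x, hx⟩⟩

variable [Fintype α]

theorem exists_smul_eq_perm {k : ℕ} (hG : IsMultiplyPretransitive G α k)
    (hk : k ≤ Fintype.card α) (s : Finset α) (hs : s.card ≤ k) (π : Perm α) :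
    ∃ g : G, ∀ x ∈ s, g • x = π x := by
  obtain ⟨t, hst, ht⟩ := Finset.exists_superset_card_eq hs hk
  obtain ⟨g, hg⟩ := multi_iff_perm.1 hG t ht π
  exact ⟨g, fun x hx => hg x (hst hx)⟩

theorem exists_smul_eq_of_injOn {k : ℕ} (hG : IsMultiplyPretransitive G α k)
    (hk : k ≤ Fintype.card α) (s : Finset α) (hs : s.card ≤ k) (f : α → α)
    (hf : Set.InjOn f s) : ∃ g : G, ∀ x ∈ s, g • x = f x := by
  obtain ⟨π, hπ⟩ := exists_perm_of_injOn s f hf
  obtain ⟨g, hg⟩ := exists_smul_eq_perm hG hk s hs π
  exact ⟨g, fun x hx => (hg x hx).trans (hπ x hx)⟩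

theorem multi_of_le {k m : ℕ} (hG : IsMultiplyPretransitive G α k) (hmk : m ≤ k)
    (hk : k ≤ Fintype.card α) : IsMultiplyPretransitive G α m :=
  multi_iff_perm.2 fun s hs π => exists_smul_eq_perm hG hk s (hs ▸ hmk) π

omit [Fintype α] in
variable (G) in
/-- The pointwise stabiliser of `s` is transitive on the complement of `s`. -/
def TransOff (s : Finset α) : Prop :=
  ∀ a b : α, a ∉ s → b ∉ s → ∃ g : G, (∀ x ∈ s, g • x = x) ∧ g • a = b

theorem transOff_of_multi {k : ℕ} (hG : IsMultiplyPretransitive G α k)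
    (hk : k ≤ Fintype.card α) (s : Finset α) (hs : s.card < k) : TransOff G s := by
  classical
  intro a b ha hb
  obtain ⟨g, hg⟩ := exists_smul_eq_perm hG hk (insert a s)
    ((Finset.card_insert_le _ _).trans hs) (swap a b)
  refine ⟨g, fun x hx => ?_, ?_⟩
  · rw [hg x (Finset.mem_insert_of_mem hx), swap_apply_of_ne_of_ne]
    · rintro rfl; exact ha hx
    · rintro rfl; exact hb hx
  · rw [hg a (Finset.mem_insert_self _ _), swap_apply_left]

omit [Fintype α] in
theorem TransOff.smul [DecidableEq α] {s : Finset α} (hs : TransOff G s) (h : G) :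
    TransOff G (h • s) := by
  intro a b ha hb
  obtain ⟨g, hg, hab⟩ := hs (h⁻¹ • a) (h⁻¹ • b)
    (by rwa [Finset.inv_smul_mem_iff]) (by rwa [Finset.inv_smul_mem_iff])
  refine ⟨h * g * h⁻¹, fun x hx => ?_, ?_⟩
  · rw [mul_smul, mul_smul, hg _ (by rwa [Finset.inv_smul_mem_iff]), smul_inv_smul]
  · rw [mul_smul, mul_smul, hab, smul_inv_smul]

omit [Fintype α] in
theorem exists_smul_finset_eq_of_multi [DecidableEq α] {k : ℕ}
    (hG : IsMultiplyPretransitive G α k) {s t : Finset α} (hs : s.card = k) (ht : t.card = k) :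
    ∃ g : G, g • s = t := by
  have := Set.powersetCard.isPretransitive_of_isMultiplyPretransitive G (n := k) hG
  obtain ⟨g, hg⟩ := exists_smul_eq G (⟨s, hs⟩ : Set.powersetCard α k) ⟨t, ht⟩
  exact ⟨g, congrArg Subtype.val hg⟩

omit [Fintype α] in
theorem multi_succ_of_forall_transOff {k : ℕ} (hG : IsMultiplyPretransitive G α k)
    (h : ∀ s : Finset α, s.card = k → TransOff G s) : IsMultiplyPretransitive G α (k + 1) := by
  classical
  rw [multi_iff_perm] at hG ⊢
  intro t ht π
  obtain ⟨a, s, has, rfl, hs⟩ := Finset.card_eq_succ.1 ht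
  obtain ⟨g, hg⟩ := hG s hs π
  have hne : g⁻¹ • π a ∉ s := by
    intro hmem
    have := hg _ hmem
    rw [smul_inv_smul] at this
    exact has (π.injective this ▸ hmem)
  obtain ⟨u, hu, hua⟩ := h s hs a _ has hne
  refine ⟨g * u, fun x hx => ?_⟩
  rcases Finset.mem_insert.1 hx with rfl | hx
  · rw [mul_smul, hua, smul_inv_smul]
  · rw [mul_smul, hu x hx, hg x hx]

omit [Fintype α] in
theorem multi_succ_of_transOff {k : ℕ} (hG : IsMultiplyPretransitive G α k)
    {s : Finset α} (hs : s.card = k) (h : TransOff G s) :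
    IsMultiplyPretransitive G α (k + 1) := by
  classical
  refine multi_succ_of_forall_transOff hG fun t ht => ?_
  obtain ⟨g, rfl⟩ := exists_smul_finset_eq_of_multi hG hs ht
  exact h.smul g

omit [Fintype α] in
theorem multi_of_forall_lt_transOff {k : ℕ}
    (h : ∀ s : Finset α, s.card < k → TransOff G s) : IsMultiplyPretransitive G α k := by
  induction k with
  | zero => infer_instance
  | succ k ih =>
    exact multi_succ_of_forall_transOff (ih fun s hs => h s (by omega))
      fun s hs => h s (by omega)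

theorem transOff_of_forall_card_eq {j : ℕ} (hj : j + 2 ≤ Fintype.card α)
    (h : ∀ s : Finset α, s.card = j → TransOff G s) (s : Finset α) (hs : s.card ≤ j) :
    TransOff G s := by
  classical
  intro a b ha hb
  have hsub : s ⊆ ({a, b} : Finset α)ᶜ := by
    intro x hx
    simp only [Finset.mem_compl, Finset.mem_insert, Finset.mem_singleton, not_or]
    exact ⟨fun h => ha (h ▸ hx), fun h => hb (h ▸ hx)⟩
  have hc : j ≤ (({a, b} : Finset α)ᶜ).card := by
    rw [Finset.card_compl]
    have : ({a, b} : Finset α).card ≤ 2 := Finset.card_le_two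
    omega
  obtain ⟨t, hst, htc, ht⟩ := Finset.exists_subsuperset_card_eq hsub hs hc
  have hat : a ∉ t := fun h => by simpa using htc h
  have hbt : b ∉ t := fun h => by simpa using htc h
  obtain ⟨g, hg, hab⟩ := h t ht a b hat hbt
  exact ⟨g, fun x hx => hg x (hst hx), hab⟩

/-- If the pointwise stabiliser of every `j`-set is transitive on the rest (at least 2 points),
the action is `(j+1)`-transitive. -/
theorem multi_succ_of_forall_card_eq {j : ℕ} (hj : j + 2 ≤ Fintype.card α)
    (h : ∀ s : Finset α, s.card = j → TransOff G s) : IsMultiplyPretransitive G α (j + 1) :=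
  multi_of_forall_lt_transOff fun s hs => transOff_of_forall_card_eq hj h s (by omega)

omit [Fintype α] in
theorem homog_iff [DecidableEq α] {k : ℕ} :
    IsPretransitive G (Set.powersetCard α k) ↔
      ∀ s t : Finset α, s.card = k → t.card = k → ∃ g : G, g • s = t := by
  constructor
  · intro h s t hs ht
    obtain ⟨g, hg⟩ := exists_smul_eq G (⟨s, hs⟩ : Set.powersetCard α k) ⟨t, ht⟩
    exact ⟨g, congrArg Subtype.val hg⟩
  · intro h
    refine ⟨fun s t => ?_⟩
    obtain ⟨g, hg⟩ := h s.1 t.1 s.2 t.2
    exact ⟨g, Subtype.ext hg⟩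

omit [Fintype α] in
/-- A `k`-homogeneous action in which one `k`-set has its full symmetric group induced is
`k`-transitive. -/
theorem multi_of_homog [DecidableEq α] {k : ℕ} (h : IsPretransitive G (Set.powersetCard α k))
    {s : Finset α} (hs : s.card = k)
    (hfull : ∀ π : Perm α, (∀ x ∈ s, π x ∈ s) → ∃ g : G, ∀ x ∈ s, g • x = π x) :
    IsMultiplyPretransitive G α k := by
  rw [multi_iff_perm]
  intro t ht π
  obtain ⟨u, rfl⟩ := homog_iff.1 h s t hs ht
  obtain ⟨v, hv⟩ := homog_iff.1 h (π • u • s) s (by simpa using hs) hs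
  obtain ⟨g, hg⟩ := hfull (toPerm v * π * toPerm u) (fun x hx => by
    rw [← hv]
    simp only [Perm.coe_mul, Function.comp_apply, toPerm_apply]
    exact Finset.smul_mem_smul_finset (Finset.smul_mem_smul_finset (a := π)
      (Finset.smul_mem_smul_finset hx)))
  refine ⟨v⁻¹ * g * u⁻¹, fun x hx => ?_⟩
  rw [mul_smul, mul_smul, hg _ (by rwa [Finset.inv_smul_mem_iff])]
  simp

omit [Fintype α] in
theorem mem_fixing {s : Finset α} {g : G} :
    g ∈ fixingSubgroup G (s : Set α) ↔ ∀ x ∈ s, g • x = x := by
  simp [mem_fixingSubgroup_iff]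

omit [Fintype α] in
theorem card_fixing_smul [DecidableEq α] (s : Finset α) (g : G) :
    Nat.card (fixingSubgroup G ((g • s : Finset α) : Set α)) =
      Nat.card (fixingSubgroup G (s : Set α)) := by
  have hg : g • (s : Set α) = ((g • s : Finset α) : Set α) := (Finset.coe_smul_finset g s).symm
  exact (Nat.card_congr (SubMulAction.fixingSubgroupEquivFixingSubgroup hg).toEquiv).symm

omit [Fintype α] in
theorem card_fixing_eq_of_homog [DecidableEq α] {k : ℕ}
    (h : IsPretransitive G (Set.powersetCard α k)) {s t : Finset α} (hs : s.card = k)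
    (ht : t.card = k) :
    Nat.card (fixingSubgroup G (s : Set α)) = Nat.card (fixingSubgroup G (t : Set α)) := by
  obtain ⟨g, rfl⟩ := homog_iff.1 h s t hs ht
  exact (card_fixing_smul s g).symm

omit [Fintype α] in
theorem card_fixing_eq_of_multi {k : ℕ}
    (h : IsMultiplyPretransitive G α k) {s t : Finset α} (hs : s.card = k)
    (ht : t.card = k) :
    Nat.card (fixingSubgroup G (s : Set α)) = Nat.card (fixingSubgroup G (t : Set α)) := by
  classical
  obtain ⟨g, rfl⟩ := exists_smul_finset_eq_of_multi h hs ht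
  exact (card_fixing_smul s g).symm

omit [Fintype α] in
/-- orbit-stabiliser for pointwise stabilisers -/
theorem card_fixing_eq_card_orbit_mul [DecidableEq α] (s : Finset α) (a : α) :
    Nat.card (fixingSubgroup G (s : Set α)) =
      Nat.card (orbit (fixingSubgroup G (s : Set α)) a) *
        Nat.card (fixingSubgroup G ((insert a s : Finset α) : Set α)) := by
  rw [← Nat.card_prod, ← Nat.card_congr (orbitProdStabilizerEquivGroup _ a), Nat.card_prod,
    Nat.card_prod]
  congr 1
  refine Nat.card_congr ⟨fun g => ⟨g.1.1, ?_⟩, fun g => ⟨⟨g.1, ?_⟩, ?_⟩, fun _ => rfl,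
    fun _ => rfl⟩
  · rw [mem_fixing]
    intro x hx
    rcases Finset.mem_insert.1 hx with rfl | hx
    · exact g.2
    · exact mem_fixing.1 g.1.2 x hx
  · exact mem_fixing.2 fun x hx => mem_fixing.1 g.2 x (Finset.mem_insert_of_mem hx)
  · exact mem_fixing.1 g.2 a (Finset.mem_insert_self _ _)

/-- order formula for a `k`-transitive action -/
theorem card_eq_descFactorial_mul_card_fixing {k : ℕ} (h : IsMultiplyPretransitive G α k)
    {s : Finset α} (hs : s.card = k) :
    Nat.card G = (Fintype.card α).descFactorial k * Nat.card (fixingSubgroup G (s : Set α)) := by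
  have h1 := IsMultiplyPretransitive.index_of_fixingSubgroup_eq (G := G) (s : Set α)
    (by rw [Set.ncard_coe_finset, hs]; exact h)
  rw [Set.ncard_coe_finset, hs, Nat.card_eq_fintype_card] at h1
  rw [← (fixingSubgroup G (s : Set α)).index_mul_card, h1, Nat.descFactorial_eq_factorial_mul_choose,
    mul_comm (k.factorial)]

/-- order formula for a `k`-homogeneous action -/
theorem card_eq_choose_mul_card_stabilizer [DecidableEq α] {k : ℕ}
    (h : IsPretransitive G (Set.powersetCard α k)) {s : Finset α} (hs : s.card = k) :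
    Nat.card G = (Fintype.card α).choose k * Nat.card (stabilizer G s) := by
  have h1 := index_stabilizer_of_transitive G (⟨s, hs⟩ : Set.powersetCard α k)
  rw [Set.powersetCard.card, Nat.card_eq_fintype_card] at h1
  have h2 : stabilizer G (⟨s, hs⟩ : Set.powersetCard α k) = stabilizer G s := by
    ext g
    simp only [mem_stabilizer_iff, ← Subtype.coe_inj, Set.powersetCard.coe_smul]
  rw [← (stabilizer G s).index_mul_card, ← h2, h1]

end General

end CL.Perm
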