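import Cfsg.Agent.Base
import Cfsg.Agent.Perm.Multi

/-!
Fixed points of `p`-subgroups on invariant sets, Gleason's lemma, induced permutation groups,
generous transitivity.
-/

set_option autoImplicit false

namespace CL.Perm

open MulAction Equiv
open scoped Pointwise

section General

variable {G α : Type*} [Group G] [MulAction G α]

/-- A `p`-subgroup acting on an invariant set: the size of the set is congruent to the number of
fixed points in it. -/
theorem ncard_modEq_ncard_inter_fixedPoints [Finite α] {p : ℕ} [Fact p.Prime] {P : Subgroup G}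
    (hP : IsPGroup p P) (T : Set α) (hT : ∀ g ∈ P, ∀ x ∈ T, g • x ∈ T) :
    T.ncard ≡ (T ∩ fixedPoints P α).ncard [MOD p] := by
  let S : SubMulAction P α := ⟨T, fun g x hx => hT g g.2 x hx⟩
  have h1 := hP.card_modEq_card_fixedPoints S
  have h2 : Nat.card S = T.ncard := rfl
  have h3 : Nat.card (fixedPoints P S) = (T ∩ fixedPoints P α).ncard := by
    rw [← Nat.card_coe_set_eq]
    refine Nat.card_congr ⟨fun x => ⟨x.1.1, x.1.2, fun g => congrArg Subtype.val (x.2 g)⟩,
      fun x => ⟨⟨x.1, x.2.1⟩, fun g => Subtype.ext (x.2.2 g)⟩, fun _ => rfl, fun _ => rfl⟩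
  rwa [h2, h3] at h1

theorem exists_fixed_of_not_dvd_ncard [Finite α] {p : ℕ} [Fact p.Prime] {P : Subgroup G}
    (hP : IsPGroup p P) (T : Set α) (hT : ∀ g ∈ P, ∀ x ∈ T, g • x ∈ T) (h : ¬ p ∣ T.ncard) :
    ∃ x ∈ T, ∀ g ∈ P, g • x = x := by
  have h1 := ncard_modEq_ncard_inter_fixedPoints hP T hT
  by_contra hne
  have : T ∩ fixedPoints P α = ∅ := by
    ext x
    simp only [Set.mem_inter_iff, Set.mem_empty_iff_false, iff_false, not_and]
    intro hx hfix
    exact hne ⟨x, hx, fun g hg => hfix ⟨g, hg⟩⟩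
  rw [this, Set.ncard_empty] at h1
  exact h (Nat.modEq_zero_iff_dvd.1 h1)

theorem dvd_ncard_of_forall_not_fixed [Finite α] {p : ℕ} [Fact p.Prime] {P : Subgroup G}
    (hP : IsPGroup p P) (T : Set α) (hT : ∀ g ∈ P, ∀ x ∈ T, g • x ∈ T)
    (h : ∀ x ∈ T, ¬ ∀ g ∈ P, g • x = x) : p ∣ T.ncard := by
  by_contra hd
  obtain ⟨x, hx, hfix⟩ := exists_fixed_of_not_dvd_ncard hP T hT hd
  exact h x hx hfix

/-- Gleason's lemma, relative form. -/
theorem transOff_of_pgroups [Finite α] {p : ℕ} [hp : Fact p.Prime] {s : Finset α}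
    (h : ∀ a ∉ s, ∃ P : Subgroup G, IsPGroup p P ∧ (∀ g ∈ P, ∀ x ∈ s, g • x = x) ∧
      (∀ g ∈ P, g • a = a) ∧ ∀ x ∉ s, (∀ g ∈ P, g • x = x) → x = a) : TransOff G s := by
  intro a b ha hb
  by_contra hab
  let T : Set α := orbit (fixingSubgroup G (s : Set α)) a
  have hTs : ∀ x ∈ T, x ∉ s := by
    rintro _ ⟨g, rfl⟩ hx
    have := mem_fixing.1 g.2 _ hx
    exact ha (smul_left_cancel (g : G) this ▸ hx)
  have hinv : ∀ P : Subgroup G, (∀ g ∈ P, ∀ x ∈ s, g • x = x) → ∀ g ∈ P, ∀ x ∈ T, g • x ∈ T := by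
    rintro P hP g hg _ ⟨u, rfl⟩
    exact ⟨⟨g, mem_fixing.2 (hP g hg)⟩ * u, mul_smul _ _ _⟩
  obtain ⟨P, hP, hPs, hPa, hPu⟩ := h a ha
  obtain ⟨Q, hQ, hQs, hQa, hQu⟩ := h b hb
  have h1 := ncard_modEq_ncard_inter_fixedPoints hP T (hinv P hPs)
  have h2 : T ∩ fixedPoints P α = {a} := by
    ext x
    simp only [Set.mem_inter_iff, Set.mem_singleton_iff]
    constructor
    · rintro ⟨hx, hfix⟩
      exact hPu x (hTs x hx) fun g hg => hfix ⟨g, hg⟩
    · rintro rfl
      exact ⟨mem_orbit_self _, fun g => hPa g g.2⟩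
  have h3 : p ∣ T.ncard := by
    refine dvd_ncard_of_forall_not_fixed hQ T (hinv Q hQs) fun x hx hfix => ?_
    have := hQu x (hTs x hx) hfix
    subst this
    obtain ⟨g, hg⟩ := hx
    exact hab ⟨g, mem_fixing.1 g.2, hg⟩
  rw [h2, Set.ncard_singleton] at h1
  have h4 : p ∣ 1 := (Nat.modEq_zero_iff_dvd.1 (h1.symm.trans (Nat.modEq_zero_iff_dvd.2 h3)))
  exact hp.out.one_lt.ne' (Nat.dvd_one.1 h4)

/-- Gleason's lemma. -/
theorem gleason [Fintype α] {p k : ℕ} [Fact p.Prime] (hkn : k < Fintype.card α)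
    (h : ∀ s : Finset α, s.card = k →
      ∃ P : Subgroup G, IsPGroup p P ∧ ∀ x, (∀ g ∈ P, g • x = x) ↔ x ∈ s) :
    IsMultiplyPretransitive G α k := by
  classical
  cases k with
  | zero => infer_instance
  | succ j =>
    refine multi_succ_of_forall_card_eq (by omega) fun s hs => transOff_of_pgroups (p := p)
      fun a ha => ?_
    obtain ⟨P, hP, hfix⟩ := h (insert a s) (by rw [Finset.card_insert_of_notMem ha, hs])
    refine ⟨P, hP, fun g hg x hx => (hfix x).2 (Finset.mem_insert_of_mem hx) g hg,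
      (hfix a).2 (Finset.mem_insert_self _ _), fun x hx hx' => ?_⟩
    exact (Finset.mem_insert.1 ((hfix x).1 hx')).resolve_right hx

variable (G) in
/-- The permutations of `{x // q x}` induced by elements of the subgroup `H`. -/
def induced (H : Subgroup G) (q : α → Prop) : Subgroup (Perm {x // q x}) where
  carrier := {σ | ∃ g ∈ H, ∀ x : {x // q x}, g • (x : α) = σ x}
  one_mem' := ⟨1, H.one_mem, fun x => one_smul _ _⟩
  mul_mem' := by
    rintro σ τ ⟨g, hg, hσ⟩ ⟨h, hh, hτ⟩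
    exact ⟨g * h, H.mul_mem hg hh, fun x => by rw [mul_smul, hτ, hσ]; rfl⟩
  inv_mem' := by
    rintro σ ⟨g, hg, hσ⟩
    refine ⟨g⁻¹, H.inv_mem hg, fun x => ?_⟩
    rw [inv_smul_eq_iff, hσ]
    simp

theorem mem_induced {H : Subgroup G} {q : α → Prop} {σ : Perm {x // q x}} :
    σ ∈ induced G H q ↔ ∃ g ∈ H, ∀ x : {x // q x}, g • (x : α) = σ x := Iff.rfl

theorem exists_mem_induced {H : Subgroup G} {q : α → Prop} {g : G} (hg : g ∈ H)
    (hq : ∀ x, q (g • x) ↔ q x) :
    ∃ σ ∈ induced G H q, ∀ x : {x // q x}, g • (x : α) = σ x :=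
  ⟨(toPerm g).subtypePerm hq, ⟨g, hg, fun _ => rfl⟩, fun _ => rfl⟩

theorem exists_mem_induced' [Finite α] {H : Subgroup G} {q : α → Prop} {g : G} (hg : g ∈ H)
    (hq : ∀ x, q x → q (g • x)) :
    ∃ σ ∈ induced G H q, ∀ x : {x // q x}, g • (x : α) = σ x := by
  refine exists_mem_induced hg fun x => ⟨fun hx => ?_, hq x⟩
  let f : {x // q x} → {x // q x} := fun y => ⟨g • y.1, hq _ y.2⟩
  have hf : Function.Injective f := fun y z h =>
    Subtype.ext (smul_left_cancel g (congrArg Subtype.val h))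
  obtain ⟨y, hy⟩ := Finite.surjective_of_injective hf ⟨g • x, hx⟩
  have : (y : α) = x := smul_left_cancel g (congrArg Subtype.val hy)
  exact this ▸ y.2

/-- Multiple transitivity of an induced group. -/
theorem induced_multi [Finite α] {H : Subgroup G} {q : α → Prop} {k : ℕ}
    (hinv : ∀ g ∈ H, ∀ x, q x → q (g • x))
    (h : ∀ s : Finset α, s.card = k → (∀ x ∈ s, q x) → ∀ π : Perm α, (∀ x, q x → q (π x)) →
      ∃ g ∈ H, ∀ x ∈ s, g • x = π x) :
    IsMultiplyPretransitive (induced G H q) {x // q x} k := by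
  classical
  rw [multi_iff_perm]
  intro s hs π
  obtain ⟨g, hg, hgs⟩ := h (s.map (Function.Embedding.subtype q)) (by simpa using hs)
    (by
      intro x hx
      obtain ⟨y, -, rfl⟩ := Finset.mem_map.1 hx
      exact y.2) (Perm.ofSubtype π)
    (fun x hx => by rw [Perm.ofSubtype_apply_of_mem π hx]; exact (π ⟨x, hx⟩).2)
  obtain ⟨σ, hσ, hgσ⟩ := exists_mem_induced' hg (hinv g hg)
  refine ⟨⟨σ, hσ⟩, fun x hx => Subtype.ext ?_⟩
  change ((σ x : {x // q x}) : α) = _
  rw [← hgσ, hgs x (Finset.mem_map_of_mem _ hx), Perm.ofSubtype_apply_coe]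

/-- If all transpositions of `s` are induced, all permutations of `s` are. -/
theorem exists_smul_eq_of_forall_swap [DecidableEq α] {s : Finset α}
    (h : ∀ a ∈ s, ∀ b ∈ s, a ≠ b → ∃ g : G, ∀ x ∈ s, g • x = swap a b x)
    (σ : Perm s) : ∃ g : G, ∀ x : s, g • (x : α) = σ x := by
  have : induced G ⊤ (· ∈ s) = ⊤ := by
    rw [eq_top_iff, ← Perm.closure_isSwap, Subgroup.closure_le]
    rintro _ ⟨a, b, hab, rfl⟩
    obtain ⟨g, hg⟩ := h a a.2 b b.2 (fun e => hab (Subtype.ext e))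
    refine ⟨g, Subgroup.mem_top _, fun x => ?_⟩
    rw [hg x x.2]
    exact (Function.Injective.swap_apply Subtype.val_injective a b x)
  obtain ⟨g, -, hg⟩ : σ ∈ induced G ⊤ (· ∈ s) := this ▸ Subgroup.mem_top _
  exact ⟨g, hg⟩

theorem exists_smul_eq_perm_of_forall_subtype {s : Finset α}
    (h : ∀ σ : Perm s, ∃ g : G, ∀ x : s, g • (x : α) = σ x) (π : Perm α)
    (hπ : ∀ x ∈ s, π x ∈ s) : ∃ g : G, ∀ x ∈ s, g • x = π x := by
  obtain ⟨g, hg⟩ := h (π.subtypePermOfFintype hπ)
  exact ⟨g, fun x hx => hg ⟨x, hx⟩⟩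

theorem exists_smul_eq_perm_of_forall_swap [DecidableEq α] {s : Finset α}
    (h : ∀ a ∈ s, ∀ b ∈ s, a ≠ b → ∃ g : G, ∀ x ∈ s, g • x = swap a b x) (π : Perm α)
    (hπ : ∀ x ∈ s, π x ∈ s) : ∃ g : G, ∀ x ∈ s, g • x = π x :=
  exists_smul_eq_perm_of_forall_subtype (exists_smul_eq_of_forall_swap h) π hπ

/-- Generously `k`-transitive actions are `k`-transitive. -/
theorem multi_of_generous [Fintype α] {k : ℕ} (hk : k < Fintype.card α)
    (h : ∀ s : Finset α, s.card = k + 1 → ∀ π : Perm α, (∀ x ∈ s, π x ∈ s) →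
      ∃ g : G, ∀ x ∈ s, g • x = π x) : IsMultiplyPretransitive G α k := by
  classical
  refine multi_of_forall_lt_transOff fun s hs a b ha hb => ?_
  obtain ⟨t, hst, ht⟩ := Finset.exists_superset_card_eq (s := insert a (insert b s)) (n := k + 1)
    ((Finset.card_insert_le _ _).trans (by have := Finset.card_insert_le b s; omega)) hk
  have hat : a ∈ t := hst (by simp)
  have hbt : b ∈ t := hst (by simp)
  obtain ⟨g, hg⟩ := h t ht (swap a b) (fun x hx => by
    rw [swap_apply_def]; split_ifs <;> assumption)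
  refine ⟨g, fun x hx => ?_, by rw [hg a hat, swap_apply_left]⟩
  rw [hg x (hst (by simp [hx])), swap_apply_of_ne_of_ne]
  · rintro rfl; exact ha hx
  · rintro rfl; exact hb hx

/-- In a generously `k`-transitive action the setwise and pointwise stabilisers of a `k`-set have
the same orbits outside it. -/
theorem exists_fixing_of_generous [DecidableEq α] {k : ℕ}
    (h : ∀ s : Finset α, s.card = k + 1 → ∀ π : Perm α, (∀ x ∈ s, π x ∈ s) →
      ∃ g : G, ∀ x ∈ s, g • x = π x) {s : Finset α} (hs : s.card = k) {a : α} (ha : a ∉ s)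
    {g : G} (hg : ∀ x ∈ s, g • x ∈ s) : ∃ u : G, (∀ x ∈ s, u • x = x) ∧ u • a = g • a := by
  obtain ⟨π, hπ⟩ := exists_perm_of_injOn (insert a s) (fun x => if x = a then a else g • x) (by
    intro x hx y hy hxy
    simp only [Finset.coe_insert, Set.mem_insert_iff, Finset.mem_coe] at hx hy hxy
    by_cases h1 : x = a <;> by_cases h2 : y = a
    · rw [h1, h2]
    · rw [if_pos h1, if_neg h2] at hxy
      exact absurd (hxy ▸ hg y (hy.resolve_left h2)) ha
    · rw [if_neg h1, if_pos h2] at hxy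
      exact absurd (hxy ▸ hg x (hx.resolve_left h1)) ha
    · rw [if_neg h1, if_neg h2] at hxy
      exact smul_left_cancel g hxy)
  obtain ⟨v, hv⟩ := h (insert a s) (by rw [Finset.card_insert_of_notMem ha, hs]) π (by
    intro x hx
    rw [hπ x hx]
    split_ifs with h1
    · exact Finset.mem_insert_self _ _
    · exact Finset.mem_insert_of_mem (hg x ((Finset.mem_insert.1 hx).resolve_left h1)))
  have hva : v • a = a := by
    rw [hv a (Finset.mem_insert_self _ _), hπ a (Finset.mem_insert_self _ _), if_pos rfl]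
  have hvs : ∀ x ∈ s, v • x = g • x := fun x hx => by
    rw [hv x (Finset.mem_insert_of_mem hx), hπ x (Finset.mem_insert_of_mem hx), if_neg]
    rintro rfl; exact ha hx
  -- `g * v⁻¹` fixes `g • s = s` pointwise
  have hsurj : ∀ y ∈ s, ∃ x ∈ s, g • x = y := by
    intro y hy
    have := Finset.surj_on_of_inj_on_of_card_le (s := s) (t := s) (fun x _ => g • x)
      (fun x hx => hg x hx) (fun x y _ _ h => smul_left_cancel g h) le_rfl y hy
    obtain ⟨x, hx, e⟩ := this
    exact ⟨x, hx, e.symm⟩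
  refine ⟨g * v⁻¹, fun y hy => ?_, ?_⟩
  · obtain ⟨x, hx, rfl⟩ := hsurj y hy
    rw [mul_smul, ← hvs x hx, inv_smul_smul, hvs x hx]
  · rw [mul_smul, inv_smul_eq_iff.2 hva.symm]

end General

end CL.Perm
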