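import Cfsg.Agent.Base
import Cfsg.Agent.Perm.Gleason
import Cfsg.Agent.Transfer.SylowIn

/-!
Witt's lemma on Sylow subgroups of pointwise stabilisers and related facts.
-/

set_option autoImplicit false

namespace CL.Perm

open MulAction Equiv CL.Transfer
open scoped Pointwise

section General

variable {G α : Type*} [Group G] [MulAction G α] {p : ℕ}

theorem smul_fixed_of_mem_normalizer {P : Subgroup G} {n : G}
    (hn : n ∈ Subgroup.normalizer (P : Set G)) {x : α} (hx : ∀ u ∈ P, u • x = x) :
    ∀ u ∈ P, u • n • x = n • x := by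
  intro u hu
  have h1 : n⁻¹ * u * n ∈ P := by
    have := (Subgroup.mem_normalizer_iff''.1 hn u).1 hu
    simpa using this
  have := hx _ h1
  rwa [mul_smul, mul_smul, inv_smul_eq_iff] at this

/-- Witt's lemma: if `P` is a Sylow subgroup of the pointwise stabiliser of `s` and `g` maps `s`
into the fixed points of `P`, then some element normalising `P` agrees with `g` on `s`. -/
theorem witt [Finite G] [Fact p.Prime] {s : Finset α} {P : Subgroup G}
    (hP : IsSylowIn p P (fixingSubgroup G (s : Set α))) {g : G}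
    (hg : ∀ x ∈ s, ∀ u ∈ P, u • g • x = g • x) :
    ∃ n ∈ Subgroup.normalizer (P : Set G), ∀ x ∈ s, n • x = g • x := by
  have hle : MulAut.conj g⁻¹ • P ≤ fixingSubgroup G (s : Set α) := by
    rw [conj_smul_le_iff]
    intro u hu
    rw [mem_fixing]
    intro x hx
    rw [inv_inv, mul_smul, mul_smul, hg x hx u hu, inv_smul_smul]
  have h2 := hP.of_card_le (isPGroup_conj_smul hP.isPGroup g⁻¹) hle (card_conj_smul _ _).ge
  obtain ⟨h, hh, e⟩ := hP.exists_conj h2
  refine ⟨g * h, ?_, fun x hx => by rw [mul_smul, mem_fixing.1 hh x hx]⟩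
  rw [← conj_smul_eq_iff_mem_normalizer, ← conj_smul_conj_smul, e, conj_smul_conj_inv_smul]

theorem card_orbit_eq_relIndex (H : Subgroup G) (a : α) :
    Nat.card (orbit H a) = (stabilizer G a).relIndex H := by
  rw [Subgroup.relIndex, Nat.card_coe_set_eq, ← index_stabilizer]
  rfl

theorem not_dvd_card_orbit_of_fixed {P H : Subgroup G} (hP : IsSylowIn p P H) {a : α}
    (ha : ∀ u ∈ P, u • a = a) : ¬ p ∣ Nat.card (orbit H a) := by
  rw [card_orbit_eq_relIndex]
  intro h
  exact hP.not_dvd (h.trans (Subgroup.relIndex_dvd_of_le_left H fun u hu => ha u hu))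

theorem exists_fixed_mem_orbit [Finite α] [Fact p.Prime] {P H : Subgroup G} (hP : IsPGroup p P)
    (hPH : P ≤ H) {a : α} (h : ¬ p ∣ Nat.card (orbit H a)) :
    ∃ x ∈ orbit H a, ∀ u ∈ P, u • x = x := by
  refine exists_fixed_of_not_dvd_ncard hP _ ?_ h
  rintro g hg _ ⟨u, rfl⟩
  exact ⟨⟨g, hPH hg⟩ * u, mul_smul _ _ _⟩

/-- A `p`-subgroup fixing `t` pointwise which is Sylow in the pointwise stabiliser of `s` is Sylow
in the pointwise stabiliser of `t`, if these have the same order. -/
theorem isSylowIn_fixing_of_card_eq [Finite G] {s t : Finset α} {P : Subgroup G}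
    (hP : IsSylowIn p P (fixingSubgroup G (s : Set α)))
    (hc : Nat.card (fixingSubgroup G (s : Set α)) = Nat.card (fixingSubgroup G (t : Set α)))
    (ht : ∀ u ∈ P, ∀ x ∈ t, u • x = x) : IsSylowIn p P (fixingSubgroup G (t : Set α)) := by
  have hle : P ≤ fixingSubgroup G (t : Set α) := fun u hu => mem_fixing.2 (ht u hu)
  refine ⟨hle, hP.isPGroup, ?_⟩
  have h1 := Subgroup.card_mul_index (P.subgroupOf (fixingSubgroup G (s : Set α)))
  have h2 := Subgroup.card_mul_index (P.subgroupOf (fixingSubgroup G (t : Set α)))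
  rw [Nat.card_congr (Subgroup.subgroupOfEquivOfLe hP.le).toEquiv] at h1
  rw [Nat.card_congr (Subgroup.subgroupOfEquivOfLe hle).toEquiv, ← hc, ← h1] at h2
  have h3 := Nat.eq_of_mul_eq_mul_left Nat.card_pos h2
  have := hP.not_dvd
  rw [Subgroup.relIndex] at this ⊢
  rwa [h3]

/-- Witt: the normaliser of a Sylow subgroup `P` of the stabiliser of `k` points of a
`k`-transitive group is `k`-transitive on the fixed points of `P`. -/
theorem witt_multi [Finite G] [Fact p.Prime] {k : ℕ} (hG : IsMultiplyPretransitive G α k)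
    {s : Finset α} (hs : s.card = k) {P : Subgroup G}
    (hP : IsSylowIn p P (fixingSubgroup G (s : Set α))) {t : Finset α} (ht : t.card = k)
    (htP : ∀ x ∈ t, ∀ u ∈ P, u • x = x) (π : Perm α)
    (hπ : ∀ x ∈ t, ∀ u ∈ P, u • π x = π x) :
    ∃ n ∈ Subgroup.normalizer (P : Set G), ∀ x ∈ t, n • x = π x := by
  have hP' := isSylowIn_fixing_of_card_eq hP (card_fixing_eq_of_multi hG hs ht)
    (fun u hu x hx => htP x hx u hu)
  obtain ⟨g, hg⟩ := multi_iff_perm.1 hG t ht π
  obtain ⟨n, hn, hng⟩ := witt hP' (g := g) (fun x hx u hu => by rw [hg x hx]; exact hπ x hx u hu)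
  exact ⟨n, hn, fun x hx => (hng x hx).trans (hg x hx)⟩

theorem witt_induced_multi [Finite G] [Finite α] [Fact p.Prime] {k : ℕ}
    (hG : IsMultiplyPretransitive G α k) {s : Finset α} (hs : s.card = k) {P : Subgroup G}
    (hP : IsSylowIn p P (fixingSubgroup G (s : Set α))) :
    IsMultiplyPretransitive (induced G (Subgroup.normalizer (P : Set G))
      fun x : α => ∀ u ∈ P, u • x = x) {x : α // ∀ u ∈ P, u • x = x} k :=
  induced_multi (fun _ hg _ hx => smul_fixed_of_mem_normalizer hg hx)
    fun _ ht htP π hπ => witt_multi hG hs hP ht htP π fun x hx => hπ x (htP x hx)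

/-- If all `j`-point stabilisers have order `l` and all `(j+1)`-point stabilisers have order
`m ≠ l`, the action is `j`-transitive. -/
theorem multi_of_card_fixing [Finite G] [Fintype α] {j l m : ℕ} (hj : j < Fintype.card α)
    (hlm : l ≠ m)
    (hl : ∀ s : Finset α, s.card = j → Nat.card (fixingSubgroup G (s : Set α)) = l)
    (hm : ∀ s : Finset α, s.card = j + 1 → Nat.card (fixingSubgroup G (s : Set α)) = m) :
    IsMultiplyPretransitive G α j := by
  classical
  have key : ∀ s : Finset α, s.card = j → ∀ a ∉ s,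
      l = Nat.card (orbit (fixingSubgroup G (s : Set α)) a) * m := by
    intro s hs a ha
    rw [← hl s hs, card_fixing_eq_card_orbit_mul s a,
      hm _ (by rw [Finset.card_insert_of_notMem ha, hs])]
  obtain ⟨s₀, -, hs₀⟩ := Finset.exists_superset_card_eq (s := (∅ : Finset α)) (n := j)
    (by simp) hj.le
  obtain ⟨a₀, ha₀⟩ : ∃ a, a ∉ s₀ := by
    by_contra h
    push Not at h
    rw [Finset.eq_univ_iff_forall.2 h, Finset.card_univ] at hs₀
    omega
  set d := Nat.card (orbit (fixingSubgroup G (s₀ : Set α)) a₀) with hd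
  have hd1 : d ≠ 1 := by
    intro h
    have := key s₀ hs₀ a₀ ha₀
    rw [← hd, h, one_mul] at this
    exact hlm this
  obtain ⟨p, hp, hpd⟩ := Nat.exists_prime_and_dvd hd1
  have : Fact p.Prime := ⟨hp⟩
  have hm0 : 0 < m := by
    rw [← hm (insert a₀ s₀) (by rw [Finset.card_insert_of_notMem ha₀, hs₀])]
    exact Nat.card_pos
  refine gleason (p := p) hj fun s hs => ?_
  obtain ⟨P, hP⟩ := exists_isSylowIn (p := p) (fixingSubgroup G (s : Set α))
  refine ⟨P, hP.isPGroup, fun x => ⟨fun hx => ?_, fun hx g hg => mem_fixing.1 (hP.le hg) x hx⟩⟩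
  by_contra hxs
  have h1 := not_dvd_card_orbit_of_fixed hP hx
  have h2 := (key s hs x hxs).symm.trans (key s₀ hs₀ a₀ ha₀)
  rw [Nat.eq_of_mul_eq_mul_right hm0 h2] at h1
  exact h1 hpd

end General

end CL.Perm
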