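import Cfsg.Agent.Base
import Cfsg.Agent.Perm.Witt

/-!
Jordan's theorem on primitive groups containing a cycle of prime length.
-/

set_option autoImplicit false

namespace CL.Perm

open MulAction Equiv Equiv.Perm CL.Transfer
open scoped Pointwise

variable {α : Type*} [Fintype α] [DecidableEq α]

theorem eq_one_of_pow_prime_pow_of_card_support_lt {p n : ℕ} [Fact p.Prime] {w : Perm α}
    (hw : w ^ p ^ n = 1) (h : w.support.card < p) : w = 1 := by
  have h1 := card_compl_support_modEq hw
  rw [← Finset.card_add_card_compl w.support] at h1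
  have h2 : w.support.card ≡ 0 [MOD p] :=
    (Nat.ModEq.add_right_cancel' (w.supportᶜ.card) (by simpa using h1.symm))
  rw [← card_support_eq_zero]
  exact Nat.eq_zero_of_dvd_of_lt (Nat.modEq_zero_iff_dvd.1 h2) h

/-- An element commuting with a cycle acts on its support as a power of it. -/
theorem exists_zpow_eq_on_support_of_commute {g w : Perm α} (hg : g.IsCycle) (h : Commute w g) :
    ∃ i : ℤ, ∀ x ∈ g.support, w x = (g ^ i) x := by
  obtain ⟨y, hy⟩ := hg.nonempty_support
  have hwy : g (w y) ≠ w y := by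
    rw [← mul_apply, ← h.eq, mul_apply]
    exact w.injective.ne (mem_support.1 hy)
  obtain ⟨i, hi⟩ := hg.exists_zpow_eq (mem_support.1 hy) hwy
  refine ⟨i, fun x hx => ?_⟩
  obtain ⟨j, rfl⟩ := hg.exists_zpow_eq (mem_support.1 hy) (mem_support.1 hx)
  rw [← mul_apply, (h.zpow_right j).eq, mul_apply, ← hi, ← mul_apply, ← mul_apply,
    zpow_mul_comm]

/-- A `p`-cycle generates a Sylow `p`-subgroup of the pointwise stabiliser of its fixed points. -/
theorem isSylowIn_zpowers_of_isCycle {G : Subgroup (Perm α)} {p : ℕ} [hp : Fact p.Prime] {g : G}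
    (hgc : (g : Perm α).IsCycle) (hgp : (g : Perm α).support.card = p) :
    IsSylowIn p (Subgroup.zpowers g)
      (fixingSubgroup G (((g : Perm α).supportᶜ : Finset α) : Set α)) := by
  have hord : orderOf g = p := by rw [← Subgroup.orderOf_coe, hgc.orderOf, hgp]
  have hgfix : g ∈ fixingSubgroup G (((g : Perm α).supportᶜ : Finset α) : Set α) :=
    mem_fixing.2 fun x hx => notMem_support.1 (Finset.mem_compl.1 hx)
  refine isSylowIn_of_maximal (IsPGroup.of_card (n := 1) (by rw [Nat.card_zpowers, hord, pow_one]))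
    ((Subgroup.zpowers_le_of_mem hgfix)) fun R hR hPR hRH u hu => ?_
  obtain ⟨y, hy⟩ := hgc.nonempty_support
  have huy : (u : Perm α) y ∈ (g : Perm α).support := by
    by_contra hn
    have := mem_fixing.1 (hRH hu) _ (Finset.mem_compl.2 hn)
    have e : (u : Perm α) y = y := (u : Perm α).injective this
    exact hn (by rwa [e])
  obtain ⟨i, hi⟩ := hgc.exists_zpow_eq (mem_support.1 hy) (mem_support.1 huy)
  have hw : (g ^ i)⁻¹ * u ∈ R := R.mul_mem (R.inv_mem (hPR (Subgroup.zpow_mem_zpowers g i))) hu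
  obtain ⟨n, hn⟩ := hR ⟨_, hw⟩
  have hn' : (((g ^ i)⁻¹ * u : G) : Perm α) ^ p ^ n = 1 := by
    have := congrArg (fun x : R => ((x : G) : Perm α)) hn
    simpa using this
  have h1 := eq_one_of_pow_prime_pow_of_card_support_lt hn' (by
    rw [← hgp]
    refine Finset.card_lt_card ⟨fun x hx => ?_, fun hh => ?_⟩
    · by_contra hx'
      exact mem_support.1 hx (mem_fixing.1 (hRH hw) x (Finset.mem_compl.2 hx'))
    · apply mem_support.1 (hh hy)
      simp only [Subgroup.coe_mul, InvMemClass.coe_inv, SubgroupClass.coe_zpow, coe_mul,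
        Function.comp_apply]
      rw [← hi]
      simp)
  have h2 : (g ^ i)⁻¹ * u = 1 := Subtype.ext h1
  rw [inv_mul_eq_one] at h2
  exact h2 ▸ Subgroup.zpow_mem_zpowers g i

theorem commute_of_mem_normalizer_zpowers {G : Type*} [Group G] {g a b : G}
    (ha : a ∈ Subgroup.normalizer (Subgroup.zpowers g : Set G))
    (hb : b ∈ Subgroup.normalizer (Subgroup.zpowers g : Set G)) :
    Commute ((b * a)⁻¹ * (a * b)) g := by
  obtain ⟨i, hi⟩ := (Subgroup.mem_normalizer_iff.1 ha g).1 (Subgroup.mem_zpowers g)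
  obtain ⟨j, hj⟩ := (Subgroup.mem_normalizer_iff.1 hb g).1 (Subgroup.mem_zpowers g)
  simp only at hi hj
  have h1 : a * b * g * (a * b)⁻¹ = g ^ (i * j) := by
    calc a * b * g * (a * b)⁻¹ = a * (b * g * b⁻¹) * a⁻¹ := by group
      _ = (a * g * a⁻¹) ^ j := by rw [← hj, conj_zpow]
      _ = g ^ (i * j) := by rw [← hi, zpow_mul]
  have h2 : b * a * g * (b * a)⁻¹ = g ^ (i * j) := by
    calc b * a * g * (b * a)⁻¹ = b * (a * g * a⁻¹) * b⁻¹ := by group
      _ = (b * g * b⁻¹) ^ i := by rw [← hi, conj_zpow]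
      _ = g ^ (i * j) := by rw [← hj, mul_comm i, zpow_mul]
  have h3 := h1.trans h2.symm
  calc (b * a)⁻¹ * (a * b) * g = (b * a)⁻¹ * (a * b * g * (a * b)⁻¹) * (a * b) := by group
    _ = g * ((b * a)⁻¹ * (a * b)) := by rw [h3]; group

/-- A primitive group containing a cycle of prime length `p < n` is `(n - p + 1)`-transitive. -/
theorem multi_of_isCycle_prime {G : Subgroup (Perm α)} (hG : IsPreprimitive G α) {p : ℕ}
    (hp : p.Prime) {g : Perm α} (hgc : g.IsCycle) (hgp : g.support.card = p) (hg : g ∈ G)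
    {k : ℕ} (hk : Fintype.card α = p + k) : IsMultiplyPretransitive G α (k + 1) := by
  classical
  rcases k with _ | k
  · rw [zero_add, is_one_pretransitive_iff]
    exact hG.toIsPretransitive
  have hp2 := hp.two_le
  have := hG.isMultiplyPreprimitive (s := (g.supportᶜ : Set α)) (n := k) (by
      apply Nat.add_left_cancel (n := p)
      rw [← hk, ← Nat.card_eq_fintype_card, ← Set.ncard_add_ncard_compl (g.support : Set α),
        Set.ncard_coe_finset, hgp]) (by rw [Nat.card_eq_fintype_card]; omega) (by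
      have := isPretransitive_of_isCycle_mem hgc hg
      apply IsPreprimitive.of_prime_card
      convert! hp
      rw [Nat.card_eq_fintype_card, Fintype.card_subtype, ← hgp]
      apply congr_arg
      ext x
      simp [SubMulAction.mem_ofFixingSubgroup_iff])
  exact this.isMultiplyPretransitive

/-- **Jordan**: a primitive group of degree `n` containing a cycle of prime length `p ≤ n - 3`
contains the alternating group. -/
theorem alternatingGroup_le_of_isCycle_prime {G : Subgroup (Perm α)} (hG : IsPreprimitive G α)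
    {p : ℕ} (hp : p.Prime) (hpn : p + 3 ≤ Fintype.card α) {g : Perm α} (hgc : g.IsCycle)
    (hgp : g.support.card = p) (hg : g ∈ G) : alternatingGroup α ≤ G := by
  have : Fact p.Prime := ⟨hp⟩
  obtain ⟨k, hk⟩ : ∃ k, Fintype.card α = p + k := ⟨Fintype.card α - p, by omega⟩
  have hmt := multi_of_le (multi_of_isCycle_prime hG hp hgc hgp hg hk) (Nat.le_succ k)
    (by have := hp.pos; omega)
  have hs : (g.supportᶜ).card = k := by rw [Finset.card_compl, hgp]; omega
  have hP := isSylowIn_zpowers_of_isCycle (G := G) (p := p) (g := ⟨g, hg⟩) hgc hgp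
  obtain ⟨a, b, c, ha, hb, hc, hab, hac, hbc⟩ := Finset.two_lt_card_iff.1
    (show 2 < (g.supportᶜ).card by omega)
  have hfix : ∀ x ∈ g.supportᶜ, ∀ u ∈ Subgroup.zpowers (⟨g, hg⟩ : G), u • x = x :=
    fun x hx u hu => mem_fixing.1 (hP.le hu) x hx
  have hsw : ∀ {x y z : α}, x ∈ g.supportᶜ → y ∈ g.supportᶜ → z ∈ g.supportᶜ →
      swap x y z ∈ g.supportᶜ := by
    intro x y z hx hy hz
    rw [swap_apply_def]; split_ifs <;> assumption
  obtain ⟨n₁, hn₁, e₁⟩ := witt_multi hmt hs hP hs hfix (swap a b)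
    (fun x hx => hfix _ (hsw ha hb hx))
  obtain ⟨n₂, hn₂, e₂⟩ := witt_multi hmt hs hP hs hfix (swap a c)
    (fun x hx => hfix _ (hsw ha hc hx))
  have hcomm := commute_of_mem_normalizer_zpowers hn₁ hn₂
  set w : G := (n₂ * n₁)⁻¹ * (n₁ * n₂) with hw
  have hcomm' : Commute (w : Perm α) g := congrArg Subtype.val hcomm
  obtain ⟨i, hi⟩ := exists_zpow_eq_on_support_of_commute hgc hcomm'
  have h3 : (swap a b * swap a c * (swap a b * swap a c)).IsThreeCycle :=
    (isThreeCycle_swap_mul_swap_same hab hac hbc).isThreeCycle_sq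
  refine alternatingGroup_le_of_isPreprimitive_of_isThreeCycle_mem hG h3 ?_
  have : swap a b * swap a c * (swap a b * swap a c) = (g ^ i)⁻¹ * w := by
    ext x
    by_cases hx : x ∈ g.support
    · have hne : ∀ {y}, y ∈ g.supportᶜ → x ≠ y := by
        rintro y hy rfl
        exact Finset.mem_compl.1 hy hx
      simp only [mul_apply, hi x hx, swap_apply_of_ne_of_ne (hne ha) (hne hb),
        swap_apply_of_ne_of_ne (hne ha) (hne hc)]
      simp
    · have hx' := Finset.mem_compl.2 hx
      have hwx : (w : Perm α) x = (swap a b * swap a c * (swap a b * swap a c)) x := by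
        change w • x = _
        rw [hw, mul_smul, inv_smul_eq_iff, mul_smul, mul_smul, e₂ x hx', e₁ _ (hsw ha hc hx')]
        simp only [mul_apply]
        rw [e₁ _ (hsw ha hb (hsw ha hc (hsw ha hb (hsw ha hc hx')))), swap_apply_self,
          e₂ _ (hsw ha hc (hsw ha hb (hsw ha hc hx'))), swap_apply_self]
      rw [mul_apply _ (w : Perm α), hwx, eq_comm, inv_eq_iff_eq, eq_comm]
      apply zpow_apply_eq_self_of_apply_eq_self
      simp only [mul_apply]
      exact notMem_support.1 (Finset.mem_compl.1 (hsw ha hb (hsw ha hc (hsw ha hb (hsw ha hc hx')))))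
  rw [this]
  exact G.mul_mem (G.inv_mem (G.zpow_mem hg i)) w.2

end CL.Perm
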