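import Cfsg.Agent.Base
import Cfsg.Agent.Perm.JordanCycle

/-!
Sylow counting for permutation groups of degree `p` or `p + 1`; minimal degree of multiply
transitive groups.
-/

set_option autoImplicit false

namespace CL.Perm

open MulAction Equiv Equiv.Perm CL.Transfer
open scoped Pointwise

variable {α : Type*} [Fintype α] [DecidableEq α]

/-- In degree at most `p + 1`, if `|G| = p r` then `r` is congruent modulo `p` to a divisor of
`p - 1` (the index of a Sylow `p`-subgroup in its normaliser). -/
theorem exists_dvd_modEq_of_card_le_succ {G : Subgroup (Perm α)} {p r : ℕ} (hp : p.Prime)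
    (hn : Fintype.card α ≤ p + 1) (hr : Nat.card G = p * r) (hpr : ¬ p ∣ r) :
    ∃ j, j ∣ p - 1 ∧ r ≡ j [MOD p] := by
  have : Fact p.Prime := ⟨hp⟩
  obtain ⟨g, hg⟩ := exists_prime_orderOf_dvd_card' (G := G) p (hr ▸ Dvd.intro _ rfl)
  have hg' : orderOf (g : Perm α) = p := by rw [Subgroup.orderOf_coe, hg]
  have hp2 := hp.two_le
  have hgc : (g : Perm α).IsCycle := isCycle_of_prime_order' (hg' ▸ hp) (by
    rcases hp2.eq_or_lt with h | h <;> omega)
  have hgs : (g : Perm α).support.card = p := by rw [← hgc.orderOf, hg']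
  have hcard : Nat.card (Subgroup.zpowers g) = p := by rw [Nat.card_zpowers, hg]
  have hidx : (Subgroup.zpowers g).index = r := by
    have := (Subgroup.zpowers g).card_mul_index
    rw [hcard, hr] at this
    exact Nat.eq_of_mul_eq_mul_left hp.pos this
  let P : Sylow p G := (IsPGroup.of_card (n := 1) (by rw [hcard, pow_one])).toSylow
    (by rw [hidx]; exact hpr)
  have hP : (P : Subgroup G) = Subgroup.zpowers g := rfl
  have hC : Subgroup.centralizer (Subgroup.zpowers g : Set G) ≤ Subgroup.zpowers g := by
    intro w hw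
    have hc : Commute (w : Perm α) g :=
      congrArg Subtype.val (hw g (Subgroup.mem_zpowers g)).symm
    obtain ⟨i, hi⟩ := exists_zpow_eq_on_support_of_commute hgc hc
    refine ⟨i, Subtype.ext ?_⟩
    have h1 : (((g : Perm α) ^ i)⁻¹ * w).support ⊆ (g : Perm α).supportᶜ := by
      intro x hx
      rw [Finset.mem_compl]
      intro hx'
      apply mem_support.1 hx
      rw [mul_apply, hi x hx']
      simp
    have h2 := Finset.card_le_card h1
    rw [Finset.card_compl, hgs] at h2
    have h3 := card_support_le_one.1 (h2.trans (by omega))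
    rw [inv_mul_eq_one] at h3
    exact h3
  have hCeq : Subgroup.centralizer (Subgroup.zpowers g : Set G) = Subgroup.zpowers g :=
    le_antisymm hC (Subgroup.le_centralizer _)
  have key := Subgroup.card_dvd_of_injective _
    (QuotientGroup.kerLift_injective (Subgroup.zpowers g).normalizerMonoidHom)
  rw [Subgroup.normalizerMonoidHom_ker, ← Subgroup.index, ← Subgroup.relIndex, hCeq,
    IsCyclic.card_mulAut, hcard, Nat.totient_prime hp] at key
  refine ⟨_, key, ?_⟩
  have h1 := card_sylow_modEq_one p G
  rw [P.card_eq_index_normalizer] at h1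
  have h2 := Subgroup.relIndex_mul_index (Subgroup.le_normalizer (H := Subgroup.zpowers g))
  rw [hidx] at h2
  rw [← h2]
  exact (h1.mul_left _).trans (by rw [mul_one])

theorem alternatingGroup_le_of_card_support_le_three {G : Subgroup (Perm α)}
    (hG : IsPreprimitive G α) {h : Perm α} (hh : h ∈ G) (h1 : h ≠ 1) (h3 : h.support.card ≤ 3) :
    alternatingGroup α ≤ G := by
  have h2 := one_lt_card_support_of_ne_one h1
  rcases h3.eq_or_lt with e | e
  · exact alternatingGroup_le_of_isPreprimitive_of_isThreeCycle_mem hG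
      (card_support_eq_three_iff.1 e) hh
  · rw [subgroup_eq_top_of_isPreprimitive_of_isSwap_mem hG h (card_support_eq_two.1 (by omega)) hh]
    exact le_top

theorem exists_subset_support_exit (g : Perm α) (t : ℕ) (ht : t ≤ g.support.card) :
    ∃ T ⊆ g.support, T.card = t ∧ (T.filter fun x => g x ∉ T).card ≤ 1 := by
  induction t with
  | zero => exact ⟨∅, by simp, rfl, by simp⟩
  | succ t ih =>
    obtain ⟨T, hT, hc, hx⟩ := ih (by omega)
    obtain ⟨y, hy, hyT, hall⟩ : ∃ y ∈ g.support, y ∉ T ∧ ∀ x ∈ T, g x ∉ T → g x = y := by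
      by_cases he : ∃ x ∈ T, g x ∉ T
      · obtain ⟨x, hxT, hgx⟩ := he
        refine ⟨g x, apply_mem_support.2 (hT hxT), hgx, fun z hz hgz => ?_⟩
        rw [Finset.card_le_one.1 hx z (Finset.mem_filter.2 ⟨hz, hgz⟩) x
          (Finset.mem_filter.2 ⟨hxT, hgx⟩)]
      · obtain ⟨y, hy, hyT⟩ := Finset.exists_mem_notMem_of_card_lt_card
          (show T.card < g.support.card by omega)
        exact ⟨y, hy, hyT, fun x hx hgx => (he ⟨x, hx, hgx⟩).elim⟩
    refine ⟨insert y T, Finset.insert_subset hy hT, by rw [Finset.card_insert_of_notMem hyT, hc],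
      ?_⟩
    refine (Finset.card_le_card (t := {y}) fun x hx => ?_).trans (by simp)
    simp only [Finset.mem_filter, Finset.mem_insert, not_or, Finset.mem_singleton] at hx ⊢
    rcases hx.1 with h | h
    · exact h
    · exact (hx.2.1 (hall x h hx.2.2)).elim

/-- the support bound for `g⁻¹ * (h * g * h⁻¹)` -/
theorem card_support_commutator_add_le (g h : Perm α) (A B : Finset α)
    (hA : ∀ x ∈ A, x ∈ g.support ∧ h x = x ∧ h (g x) = g x)
    (hB : ∀ x ∈ B, x ∈ g.support ∧ h⁻¹ x ∈ g.support) :
    (g⁻¹ * (h * g * h⁻¹)).support.card + A.card + B.card ≤ 2 * g.support.card := by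
  have h1 : (h * g * h⁻¹).support.card = g.support.card := card_support_conj
  have h2 : B ⊆ g.support ∩ (h * g * h⁻¹).support := by
    intro x hx
    refine Finset.mem_inter.2 ⟨(hB x hx).1, mem_support.2 fun e => mem_support.1 (hB x hx).2 ?_⟩
    rw [mul_apply, mul_apply, ← eq_inv_iff_eq] at e
    exact e
  have h3 : Disjoint (g⁻¹ * (h * g * h⁻¹)).support A := by
    rw [Finset.disjoint_right]
    intro x hx
    obtain ⟨-, e1, e2⟩ := hA x hx
    rw [notMem_support, mul_apply, mul_apply, mul_apply, inv_eq_iff_eq.2 e1.symm, e2]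
    simp
  have h4 : (g⁻¹ * (h * g * h⁻¹)).support ∪ A ⊆ g.support ∪ (h * g * h⁻¹).support := by
    refine Finset.union_subset ?_ fun x hx => Finset.mem_union_left _ (hA x hx).1
    simpa using support_mul_le g⁻¹ (h * g * h⁻¹)
  have h5 := Finset.card_le_card h4
  rw [Finset.card_union_of_disjoint h3] at h5
  have h6 := Finset.card_union_add_card_inter g.support (h * g * h⁻¹).support
  have h7 := Finset.card_le_card h2
  omega

/-- One step of the minimal degree argument. -/
theorem exists_card_support_lt {G : Subgroup (Perm α)} {k : ℕ}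
    (hG : IsMultiplyPretransitive G α k) (hkn : k + 1 ≤ Fintype.card α) {g : Perm α} (hg : g ∈ G)
    (h4 : 4 ≤ g.support.card) (hs : g.support.card < 2 * k - 2) :
    ∃ u ∈ G, u ≠ 1 ∧ u.support.card < g.support.card := by
  have hne : ∀ (h : Perm α) (x : α), h (g x) ≠ g (h x) → g⁻¹ * (h * g * h⁻¹) ≠ 1 := by
    intro h x hx e
    rw [inv_mul_eq_one, eq_mul_inv_iff_mul_eq] at e
    exact hx (by rw [← mul_apply, ← e, mul_apply])
  have hmem : ∀ h : G, g⁻¹ * (h * g * (h : Perm α)⁻¹) ∈ G := fun h =>
    G.mul_mem (G.inv_mem hg) (G.mul_mem (G.mul_mem h.2 hg) (G.inv_mem h.2))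
  rcases le_or_gt g.support.card k with hm | hm
  · -- the whole support can be prescribed
    obtain ⟨z, -, hz⟩ := Finset.exists_mem_notMem_of_card_lt_card
      (show g.support.card < (Finset.univ : Finset α).card by rw [Finset.card_univ]; omega)
    obtain ⟨x, hx⟩ := Finset.card_pos.1 (show 0 < g.support.card by omega)
    obtain ⟨h, hh⟩ := exists_smul_eq_perm hG (by omega) g.support hm (swap x z)
    have hh' : ∀ y ∈ g.support, y ≠ x → (h : Perm α) y = y := fun y hy hyx =>
      (hh y hy).trans (swap_apply_of_ne_of_ne hyx (by rintro rfl; exact hz hy))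
    have hx' : (h : Perm α) x = z := (hh x hx).trans (swap_apply_left _ _)
    refine ⟨_, hmem h, hne h x ?_, ?_⟩
    · rw [hx', notMem_support.1 hz, hh' _ (apply_mem_support.2 hx) (mem_support.1 hx)]
      rintro rfl
      exact hz (apply_mem_support.2 hx)
    · have := card_support_commutator_add_le g h ((g.support.erase x).erase (g⁻¹ x))
        (g.support.erase x) (by
          intro y hy
          simp only [Finset.mem_erase] at hy
          refine ⟨hy.2.2, hh' y hy.2.2 hy.2.1, hh' _ (apply_mem_support.2 hy.2.2) ?_⟩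
          intro e
          exact hy.1 (by rw [← e]; simp)) (by
          intro y hy
          simp only [Finset.mem_erase] at hy
          refine ⟨hy.2, ?_⟩
          rw [inv_eq_iff_eq.2 (hh' y hy.2 hy.1).symm]
          exact hy.2)
      have h1 := Finset.pred_card_le_card_erase (s := g.support.erase x) (a := g⁻¹ x)
      have h2 := Finset.card_erase_of_mem hx
      omega
  obtain ⟨T, hT, hTc, hTx⟩ := exists_subset_support_exit g (k - 1) (by omega)
  -- a general construction: fix `S` pointwise and send `y` to `z`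
  have build : ∀ (S : Finset α) (y z : α), S.card ≤ k - 1 → y ∉ S → z ∉ S →
      ∃ h : G, (∀ x ∈ S, (h : Perm α) x = x) ∧ (h : Perm α) y = z := fun S y z hS hy hz =>
    transOff_of_multi hG (by omega) S (by omega) y z hy hz
  by_cases he : ∃ x ∈ T, g x ∉ T
  · obtain ⟨x, hxT, hgx⟩ := he
    obtain ⟨z, hz, hzT⟩ := Finset.exists_mem_notMem_of_card_lt_card
      (show (insert (g x) T).card < g.support.card by
        rw [Finset.card_insert_of_notMem hgx]; omega)
    rw [Finset.mem_insert, not_or] at hzT
    obtain ⟨h, hh, hy⟩ := build T (g x) z hTc.le hgx hzT.2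
    refine ⟨_, hmem h, hne h x (by rw [hy, hh x hxT]; exact hzT.1), ?_⟩
    have := card_support_commutator_add_le g h (T.filter fun x => g x ∈ T) (insert z T) (by
        intro y hy
        rw [Finset.mem_filter] at hy
        exact ⟨hT hy.1, hh y hy.1, hh _ hy.2⟩) (by
        intro y hy'
        rcases Finset.mem_insert.1 hy' with rfl | hy'
        · refine ⟨hz, ?_⟩
          rw [inv_eq_iff_eq.2 hy.symm]
          exact apply_mem_support.2 (hT hxT)
        · refine ⟨hT hy', ?_⟩
          rw [inv_eq_iff_eq.2 (hh y hy').symm]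
          exact hT hy')
    have h1 := Finset.card_filter_add_card_filter_not (s := T) (fun x => g x ∈ T)
    rw [Finset.card_insert_of_notMem hzT.2] at this
    omega
  push Not at he
  obtain ⟨y, hy, hyT⟩ := Finset.exists_mem_notMem_of_card_lt_card
    (show T.card < g.support.card by omega)
  by_cases hz : ∃ z, z ∉ g.support
  · obtain ⟨z, hz⟩ := hz
    obtain ⟨h, hh, hyz⟩ := build T y z hTc.le hyT (fun h => hz (hT h))
    refine ⟨_, hmem h, hne h y ?_, ?_⟩
    · rw [hyz, notMem_support.1 hz, ← hyz]
      exact (h : Perm α).injective.ne (mem_support.1 hy)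
    · have := card_support_commutator_add_le g h T T
        (fun x hx => ⟨hT hx, hh x hx, hh _ (he x hx)⟩) (fun x hx => ⟨hT hx, by
          rw [inv_eq_iff_eq.2 (hh x hx).symm]; exact hT hx⟩)
      omega
  · push Not at hz
    obtain ⟨w, hw⟩ := Finset.card_pos.1 (show 0 < T.card by omega)
    have hgw : g w ∈ T := he w hw
    have hwne : w ≠ g w := (mem_support.1 (hT hw)).symm
    obtain ⟨h, hh, hyz⟩ := build (T.erase (g w)) (g w) y
      (Finset.card_erase_le.trans hTc.le) (Finset.notMem_erase _ _)
      (fun h => hyT (Finset.mem_of_mem_erase h))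
    refine ⟨_, hmem h, hne h w ?_, ?_⟩
    · rw [hyz, hh w (Finset.mem_erase.2 ⟨hwne, hw⟩)]
      rintro rfl
      exact hyT hgw
    · have := card_support_commutator_add_le g h ((T.erase (g w)).erase w) g.support (by
          intro x hx
          simp only [Finset.mem_erase] at hx
          exact ⟨hz x, hh x (Finset.mem_erase.2 ⟨hx.2.1, hx.2.2⟩),
            hh _ (Finset.mem_erase.2 ⟨g.injective.ne hx.1, he x hx.2.2⟩)⟩)
        (fun x _ => ⟨hz _, hz _⟩)
      have h1 := Finset.pred_card_le_card_erase (s := T.erase (g w)) (a := w)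
      have h2 := Finset.card_erase_of_mem hgw
      omega

/-- A `k`-transitive group (`k ≥ 2`) with a non-identity element moving fewer than `2k - 2` points
contains the alternating group. -/
theorem alternatingGroup_le_of_card_support_lt {G : Subgroup (Perm α)} {k : ℕ} (hk : 2 ≤ k)
    (hkn : k ≤ Fintype.card α) (hG : IsMultiplyPretransitive G α k) {g : Perm α} (hg : g ∈ G)
    (hg1 : g ≠ 1) (hs : g.support.card < 2 * k - 2) : alternatingGroup α ≤ G := by
  rcases hkn.eq_or_lt with e | hlt
  · exact IsMultiplyPretransitive.alternatingGroup_le α G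
      (multi_of_le hG (by rw [Nat.card_eq_fintype_card]; omega) hkn)
  have hprim := isPreprimitive_of_is_two_pretransitive (multi_of_le hG hk hkn)
  induction hm : g.support.card using Nat.strong_induction_on generalizing g with
  | h m ih =>
    rcases le_or_gt g.support.card 3 with h3 | h3
    · exact alternatingGroup_le_of_card_support_le_three hprim hg hg1 h3
    · obtain ⟨u, hu, hu1, hlt'⟩ := exists_card_support_lt hG hlt hg h3 hs
      exact ih _ (hm ▸ hlt') hu hu1 (by omega) rfl

end CL.Perm
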