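import Cfsg.Agent.Base
import Cfsg.Agent.Perm.SylowCount

/-!
# Bochert's bound for primitive permutation groups
-/

set_option autoImplicit false

namespace CL.Perm

open MulAction Equiv

variable {α : Type*} [Fintype α] [DecidableEq α]

/-- Two permutations whose supports meet in exactly one point have a commutator moving at most
three points. -/
theorem commutator_support_of_inter_singleton {x y : Perm α} {a : α} (hx : x a ≠ a) (hy : y a ≠ a)
    (h : ∀ z, x z ≠ z → y z ≠ z → z = a) :
    x * y * x⁻¹ * y⁻¹ ≠ 1 ∧ (x * y * x⁻¹ * y⁻¹).support.card ≤ 3 := by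
  constructor
  · intro h1
    have h2 := DFunLike.congr_fun h1 (y a)
    simp only [Perm.mul_apply, Perm.coe_inv, symm_apply_apply, Perm.coe_one, id] at h2
    have h3 : y (x.symm a) = x.symm a := by
      by_contra h3
      have h4 := h (x.symm a) (by
        rw [apply_symm_apply]
        intro h5
        exact hx (by conv_lhs => rw [h5, apply_symm_apply])) h3
      exact hx (by conv_lhs => rw [← h4, apply_symm_apply])
    rw [h3, apply_symm_apply] at h2
    exact hy h2.symm
  · refine le_trans (Finset.card_le_card (t := {a, x a, y a}) fun z hz => ?_) Finset.card_le_three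
    by_contra hcon
    simp only [Finset.mem_insert, Finset.mem_singleton, not_or] at hcon
    apply Perm.mem_support.1 hz
    simp only [Perm.mul_apply, Perm.coe_inv]
    by_cases hz' : y z = z
    · have h1 : y.symm z = z := by rw [symm_apply_eq, hz']
      rw [h1]
      by_cases h2 : y (x.symm z) = x.symm z
      · rw [h2, apply_symm_apply]
      · have h3 := h (x.symm z) (by
          rw [apply_symm_apply]
          intro h4
          rw [← h4] at h2
          exact h2 hz') h2
        exact absurd (by rw [← h3, apply_symm_apply]) hcon.2.1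
    · have h1 : x z = z := by
        by_contra h1
        exact hcon.1 (h z h1 hz')
      have h2 : x (y.symm z) = y.symm z := by
        by_contra h2
        have h3 := h (y.symm z) h2 (by
          rw [apply_symm_apply]
          intro h4
          exact hz' (by conv_lhs => rw [h4, apply_symm_apply]))
        exact hcon.2.2 (by rw [← h3, apply_symm_apply])
      have h3 : x.symm (y.symm z) = y.symm z := by rw [symm_apply_eq, h2]
      rw [h3, apply_symm_apply, h1]

/-- A primitive group not containing the alternating group has a base of size at most half the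
degree. -/
theorem exists_base_of_not_alternating {G : Subgroup (Perm α)} (hG : IsPreprimitive G α)
    (hA : ¬ alternatingGroup α ≤ G) :
    ∃ s : Finset α, s.card = Fintype.card α / 2 ∧ ∀ g ∈ G, (∀ x ∈ s, g x = x) → g = 1 := by
  obtain ⟨s, hs, hmin⟩ := (measure (Finset.card : Finset α → ℕ)).wf.has_min
    {s | ∀ g ∈ G, (∀ x ∈ s, g x = x) → g = 1}
    ⟨Finset.univ, fun g _ hg => Equiv.ext fun x => hg x (Finset.mem_univ x)⟩
  have hle : s.card ≤ Fintype.card α / 2 := by
    by_contra hlt
    have h1 : ¬ ∀ g ∈ G, (∀ x ∈ sᶜ, g x = x) → g = 1 := fun h => hmin sᶜ h (by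
      change sᶜ.card < s.card
      rw [Finset.card_compl]; omega)
    push Not at h1
    obtain ⟨x, hxG, hx, hx1⟩ := h1
    obtain ⟨a, ha⟩ : ∃ a, x a ≠ a := by
      by_contra h
      push Not at h
      exact hx1 (Equiv.ext h)
    have has : a ∈ s := by
      by_contra h
      exact ha (hx a (Finset.mem_compl.2 h))
    have h2 : ¬ ∀ g ∈ G, (∀ x ∈ s.erase a, g x = x) → g = 1 := fun h =>
      hmin _ h (Finset.card_erase_lt_of_mem has)
    push Not at h2
    obtain ⟨y, hyG, hy, hy1⟩ := h2
    have hya : y a ≠ a := fun h => hy1 (hs y hyG fun z hz => by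
      by_cases hza : z = a
      · rw [hza, h]
      · exact hy z (Finset.mem_erase.2 ⟨hza, hz⟩))
    obtain ⟨h3, h4⟩ := commutator_support_of_inter_singleton ha hya (fun z h1 h2 => by
      by_contra hza
      refine h2 (hy z (Finset.mem_erase.2 ⟨hza, ?_⟩))
      by_contra h
      exact h1 (hx z (Finset.mem_compl.2 h)))
    exact hA (alternatingGroup_le_of_card_support_le_three hG
      (G.mul_mem (G.mul_mem (G.mul_mem hxG hyG) (G.inv_mem hxG)) (G.inv_mem hyG)) h3 h4)
  obtain ⟨t, hst, -, ht⟩ := Finset.exists_subsuperset_card_eq (Finset.subset_univ s) hle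
    (by rw [Finset.card_univ]; omega)
  exact ⟨t, ht, fun g hg h => hs g hg fun x hx => h x (hst hx)⟩

theorem card_le_descFactorial_of_base {G : Subgroup (Perm α)} {s : Finset α}
    (hs : ∀ g ∈ G, (∀ x ∈ s, g x = x) → g = 1) :
    Nat.card G ≤ (Fintype.card α).descFactorial s.card := by
  let f : G → (s ↪ α) := fun g => ⟨fun x => (g : Perm α) x, fun x y h =>
    Subtype.ext ((g : Perm α).injective h)⟩
  have hf : Function.Injective f := by
    intro g h hgh
    have h1 := hs ((h : Perm α)⁻¹ * g) (G.mul_mem (G.inv_mem h.2) g.2) fun x hx => by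
      have : (g : Perm α) x = (h : Perm α) x := DFunLike.congr_fun hgh ⟨x, hx⟩
      rw [Perm.mul_apply, this, Perm.coe_inv, symm_apply_apply]
    exact Subtype.ext (inv_mul_eq_one.1 h1).symm
  have := Nat.card_le_card_of_injective f hf
  rwa [Nat.card_eq_fintype_card (α := s ↪ α), Fintype.card_embedding_eq, Fintype.card_coe] at this

/-- **Bochert's bound**. -/
theorem card_le_descFactorial_half {G : Subgroup (Perm α)} (hG : IsPreprimitive G α)
    (hA : ¬ alternatingGroup α ≤ G) :
    Nat.card G ≤ (Fintype.card α).descFactorial (Fintype.card α / 2) := by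
  obtain ⟨s, hs, h⟩ := exists_base_of_not_alternating hG hA
  rw [← hs]
  exact card_le_descFactorial_of_base h

end CL.Perm
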