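import Cfsg.Agent.Base

/-!
Centralisers of transitive permutation groups; pairs of commuting transitive subgroups;
minimal normal subgroups of primitive groups (faithful-action form).
-/

set_option autoImplicit false

namespace CL.Perm

open MulAction Subgroup

section Faithful

variable {G α : Type*} [Group G] [MulAction G α]

/-- An element commuting with a transitive subgroup and fixing a point fixes every point. -/
theorem smul_eq_of_commute_of_pretransitive (B : Subgroup G) (hB : IsPretransitive B α) {c : G}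
    (hc : ∀ b ∈ B, Commute c b) {a : α} (ha : c • a = a) (x : α) : c • x = x := by
  obtain ⟨b, rfl⟩ := hB.exists_smul_eq a x
  have h := hc b b.2
  change c • ((b : G) • a) = (b : G) • a
  rw [← mul_smul, h.eq, mul_smul, ha]

/-- An element commuting with a transitive subgroup and fixing a point is trivial (faithful
action). -/
theorem eq_one_of_commute_of_pretransitive [FaithfulSMul G α] (B : Subgroup G)
    (hB : IsPretransitive B α) {c : G} (hc : ∀ b ∈ B, Commute c b) {a : α} (ha : c • a = a) :
    c = 1 := by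
  apply FaithfulSMul.eq_of_smul_eq_smul (M := G) (α := α)
  intro x
  rw [one_smul]
  exact smul_eq_of_commute_of_pretransitive B hB hc ha x

/-- A subgroup commuting with a transitive subgroup is semiregular. -/
theorem stabilizer_eq_bot_of_commute [FaithfulSMul G α] (A B : Subgroup G)
    (hB : IsPretransitive B α) (hc : ∀ a ∈ A, ∀ b ∈ B, Commute a b) (x : α) :
    stabilizer A x = ⊥ := by
  rw [eq_bot_iff]
  intro g hg
  rw [mem_bot]
  exact Subtype.ext (eq_one_of_commute_of_pretransitive B hB (hc g g.2) hg)

/-- If `A` and `B` are commuting transitive subgroups, everything commuting with `B` lies in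
`A`. -/
theorem mem_of_commute_of_pretransitive [FaithfulSMul G α] [Nonempty α] (A B : Subgroup G)
    (hA : IsPretransitive A α) (hB : IsPretransitive B α)
    (hc : ∀ a ∈ A, ∀ b ∈ B, Commute a b) {c : G} (hcB : ∀ b ∈ B, Commute c b) : c ∈ A := by
  obtain ⟨x⟩ := ‹Nonempty α›
  obtain ⟨a, ha⟩ := hA.exists_smul_eq x (c • x)
  have h1 : (a : G)⁻¹ * c = 1 := by
    apply eq_one_of_commute_of_pretransitive B hB (a := x)
    · intro b hb
      exact (hc _ (A.inv_mem a.2) b hb).mul_left (hcB b hb)
    · rw [mul_smul, ← ha]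
      exact inv_smul_smul (a : G) x
  have : c = a := by
    rw [inv_mul_eq_one] at h1
    exact h1.symm
  rw [this]
  exact a.2

/-- In a semiregular subgroup an element is determined by the image of one point. -/
theorem eq_of_smul_eq_of_stabilizer_eq_bot (A : Subgroup G) {x : α} (hA : stabilizer A x = ⊥)
    {a b : A} (h : a • x = b • x) : a = b := by
  have : b⁻¹ * a ∈ stabilizer A x := by
    rw [mem_stabilizer_iff, mul_smul, h, inv_smul_smul]
  rw [hA, mem_bot, inv_mul_eq_one] at this
  exact this.symm

/-- A regular subgroup is in bijection with the permuted set. -/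
theorem card_eq_of_regular (A : Subgroup G) (hA : IsPretransitive A α) {x : α}
    (hx : stabilizer A x = ⊥) : Nat.card A = Nat.card α := by
  apply Nat.card_eq_of_bijective (fun a : A => a • x)
  constructor
  · intro a b h
    exact eq_of_smul_eq_of_stabilizer_eq_bot A hx h
  · intro y
    exact hA.exists_smul_eq x y

/-- Two commuting transitive subgroups of a faithful action are isomorphic. -/
theorem nonempty_mulEquiv_of_commute [FaithfulSMul G α] [Nonempty α] (A B : Subgroup G)
    (hA : IsPretransitive A α) (hB : IsPretransitive B α)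
    (hc : ∀ a ∈ A, ∀ b ∈ B, Commute a b) : Nonempty (A ≃* B) := by
  obtain ⟨x⟩ := ‹Nonempty α›
  have hAs := stabilizer_eq_bot_of_commute A B hB hc x
  have hBs := stabilizer_eq_bot_of_commute B A hA (fun b hb a ha => (hc a ha b hb).symm) x
  choose f hf using fun a : A => hB.exists_smul_eq x (a⁻¹ • x)
  have hmul : ∀ a a' : A, f (a * a') = f a * f a' := by
    intro a a'
    apply eq_of_smul_eq_of_stabilizer_eq_bot B hBs
    rw [hf, mul_smul, hf, mul_inv_rev, mul_smul, ← hf a]
    change ((a'⁻¹ : A) : G) • (f a : G) • x = (f a : G) • ((a'⁻¹ : A) : G) • x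
    rw [← mul_smul, ← mul_smul, (hc _ (a'⁻¹).2 _ (f a).2).eq]
  refine ⟨MulEquiv.ofBijective (MonoidHom.mk' f hmul) ⟨?_, ?_⟩⟩
  · intro a a' h
    have h' : f a = f a' := h
    have : a⁻¹ • x = a'⁻¹ • x := by rw [← hf, ← hf, h']
    exact inv_injective (eq_of_smul_eq_of_stabilizer_eq_bot A hAs this)
  · intro b
    obtain ⟨a, ha⟩ := hA.exists_smul_eq x (b • x)
    refine ⟨a⁻¹, ?_⟩
    apply eq_of_smul_eq_of_stabilizer_eq_bot B hBs
    change f a⁻¹ • x = b • x
    rw [hf, inv_inv, ha]

/-- A nontrivial subgroup of a faithful action moves a point. -/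
theorem fixedPoints_ne_univ [FaithfulSMul G α] {N : Subgroup G} (hN : N ≠ ⊥) :
    fixedPoints N α ≠ Set.univ := by
  intro h
  apply hN
  rw [eq_bot_iff]
  intro g hg
  rw [mem_bot]
  apply FaithfulSMul.eq_of_smul_eq_smul (M := G) (α := α)
  intro x
  have hx : x ∈ fixedPoints N α := by rw [h]; trivial
  rw [one_smul]
  exact hx ⟨g, hg⟩

/-- A nontrivial normal subgroup of a faithful primitive action is transitive. -/
theorem isPretransitive_of_normal [FaithfulSMul G α] [IsPreprimitive G α] {N : Subgroup G}
    [N.Normal] (hN : N ≠ ⊥) : IsPretransitive N α :=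
  IsQuasiPreprimitive.isPretransitive_of_normal (fixedPoints_ne_univ hN)

theorem nonempty_of_ne_bot [FaithfulSMul G α] {N : Subgroup G} (hN : N ≠ ⊥) : Nonempty α := by
  by_contra h
  rw [not_nonempty_iff] at h
  exact fixedPoints_ne_univ (α := α) hN (Subsingleton.elim _ _)

theorem nontrivial_of_ne_bot [FaithfulSMul G α] {N : Subgroup G} (hN : N ≠ ⊥) : Nontrivial α := by
  by_contra h
  rw [not_nontrivial_iff_subsingleton] at h
  apply fixedPoints_ne_univ (α := α) hN
  rw [Set.eq_univ_iff_forall]
  intro x g
  exact Subsingleton.elim _ _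

end Faithful

section MinimalNormal

variable {G : Type*} [Group G]

/-- Two distinct minimal normal subgroups intersect trivially. -/
theorem disjoint_of_minimal_normal {M N : Subgroup G} [M.Normal] [N.Normal] (hM : M ≠ ⊥)
    (hMmin : ∀ L : Subgroup G, L.Normal → L ≤ M → L = ⊥ ∨ L = M)
    (hNmin : ∀ L : Subgroup G, L.Normal → L ≤ N → L = ⊥ ∨ L = N) (hMN : M ≠ N) :
    Disjoint M N := by
  rw [disjoint_iff]
  rcases hMmin (M ⊓ N) inferInstance inf_le_left with h | h
  · exact h
  · exfalso
    have hle : M ≤ N := by rw [← h]; exact inf_le_right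
    rcases hNmin M inferInstance hle with h' | h'
    · exact hM h'
    · exact hMN h'

/-- Two distinct minimal normal subgroups commute elementwise. -/
theorem commute_of_minimal_normal {M N : Subgroup G} [M.Normal] [N.Normal] (hM : M ≠ ⊥)
    (hMmin : ∀ L : Subgroup G, L.Normal → L ≤ M → L = ⊥ ∨ L = M)
    (hNmin : ∀ L : Subgroup G, L.Normal → L ≤ N → L = ⊥ ∨ L = N) (hMN : M ≠ N) :
    ∀ m ∈ M, ∀ n ∈ N, Commute m n := fun m hm n hn =>
  Subgroup.commute_of_normal_of_disjoint M N inferInstance inferInstance
    (disjoint_of_minimal_normal hM hMmin hNmin hMN) m n hm hn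

/-- Every nontrivial normal subgroup of a finite group contains a minimal normal subgroup. -/
theorem exists_minimal_normal_le [Finite G] (N : Subgroup G) [hNn : N.Normal] (hN : N ≠ ⊥) :
    ∃ M : Subgroup G, M.Normal ∧ M ≠ ⊥ ∧ M ≤ N ∧
      ∀ L : Subgroup G, L.Normal → L ≤ M → L = ⊥ ∨ L = M := by
  obtain ⟨M, hM, hmin⟩ := (wellFounded_lt (α := Subgroup G)).has_min
    {M : Subgroup G | M.Normal ∧ M ≠ ⊥ ∧ M ≤ N} ⟨N, hNn, hN, le_rfl⟩
  refine ⟨M, hM.1, hM.2.1, hM.2.2, fun L hL hLM => ?_⟩
  by_cases h : L = ⊥
  · exact Or.inl h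
  · right
    by_contra hne
    exact hmin L ⟨hL, h, hLM.trans hM.2.2⟩ (lt_of_le_of_ne hLM hne)

/-- A finite abelian minimal normal subgroup has prime exponent. -/
theorem exists_prime_pow_eq_one_of_minimal_normal (M : Subgroup G) [M.Normal] [Finite M]
    (hM : M ≠ ⊥) (hmin : ∀ L : Subgroup G, L.Normal → L ≤ M → L = ⊥ ∨ L = M)
    (hab : IsMulCommutative M) : ∃ p : ℕ, p.Prime ∧ ∀ m ∈ M, m ^ p = 1 := by
  have hc : ∀ a ∈ M, ∀ b ∈ M, Commute a b := fun a ha b hb =>
    congrArg Subtype.val (hab.is_comm.comm (⟨a, ha⟩ : M) ⟨b, hb⟩)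
  have h1 : Nat.card M ≠ 1 := by
    intro h
    exact hM (Subgroup.card_eq_one.mp h)
  obtain ⟨p, hp, hpd⟩ := Nat.exists_prime_and_dvd h1
  have := Fact.mk hp
  obtain ⟨x, hx⟩ := exists_prime_orderOf_dvd_card' p hpd
  let L : Subgroup G :=
    { carrier := {g | g ∈ M ∧ g ^ p = 1}
      one_mem' := ⟨M.one_mem, one_pow p⟩
      mul_mem' := by
        rintro a b ⟨ha, ha'⟩ ⟨hb, hb'⟩
        exact ⟨M.mul_mem ha hb, by rw [(hc a ha b hb).mul_pow, ha', hb', one_mul]⟩
      inv_mem' := by
        rintro a ⟨ha, ha'⟩
        exact ⟨M.inv_mem ha, by rw [inv_pow, ha', inv_one]⟩ }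
  have hLn : L.Normal := ⟨by
    rintro a ⟨ha, ha'⟩ g
    exact ⟨‹M.Normal›.conj_mem a ha g, by rw [conj_pow, ha', mul_one, mul_inv_cancel]⟩⟩
  refine ⟨p, hp, ?_⟩
  rcases hmin L hLn (fun g hg => hg.1) with h | h
  · exfalso
    have hxL : (x : G) ∈ L := ⟨x.2, by
      have := pow_orderOf_eq_one x
      rw [hx] at this
      exact congrArg Subtype.val this⟩
    rw [h, mem_bot] at hxL
    have : x = 1 := Subtype.ext hxL
    rw [this, orderOf_one] at hx
    exact hp.one_lt.ne hx
  · intro m hm
    rw [← h] at hm
    exact hm.2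

end MinimalNormal

section PermCentralizer

variable {α : Type*}

theorem isPretransitive_map_subtype {G : Subgroup (Equiv.Perm α)} (M : Subgroup G)
    (hM : IsPretransitive M α) : IsPretransitive (M.map G.subtype) α := by
  constructor
  intro x y
  obtain ⟨m, hm⟩ := hM.exists_smul_eq x y
  exact ⟨⟨(m : G), ⟨m, m.2, rfl⟩⟩, hm⟩

/-- If two points have the same stabiliser in a transitive permutation group `G`, some
permutation centralising `G` carries one to the other. -/
theorem exists_mem_centralizer_of_stabilizer_eq (G : Subgroup (Equiv.Perm α))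
    [hG : IsPretransitive G α] {a b : α} (h : stabilizer G a = stabilizer G b) :
    ∃ c ∈ centralizer (G : Set (Equiv.Perm α)), c a = b := by
  have key : ∀ {a b : α}, stabilizer G a = stabilizer G b → ∀ g g' : G, g • a = g' • a →
      g • b = g' • b := by
    intro a b h g g' hg
    have : g'⁻¹ * g ∈ stabilizer G a := by
      rw [mem_stabilizer_iff, mul_smul, hg, inv_smul_smul]
    rw [h, mem_stabilizer_iff, mul_smul, inv_smul_eq_iff] at this
    exact this
  choose u hu using fun x => hG.exists_smul_eq a x
  choose v hv using fun x => hG.exists_smul_eq b x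
  let c : Equiv.Perm α :=
    { toFun := fun x => u x • b
      invFun := fun y => v y • a
      left_inv := fun x => by
        have := key h.symm _ _ (hv (u x • b))
        rw [hu] at this
        exact this
      right_inv := fun y => by
        have := key h _ _ (hu (v y • a))
        rw [hv] at this
        exact this }
  refine ⟨c, ?_, ?_⟩
  · rw [mem_centralizer_iff]
    intro g hg
    ext x
    change (⟨g, hg⟩ : G) • u x • b = u ((⟨g, hg⟩ : G) • x) • b
    rw [← mul_smul]
    apply key h
    rw [mul_smul, hu, hu]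
  · change u a • b = b
    have : u a ∈ stabilizer G a := hu a
    rw [h] at this
    exact this

/-- A permutation centralising `G` preserves point stabilisers. -/
theorem stabilizer_apply_eq_of_mem_centralizer (G : Subgroup (Equiv.Perm α)) {c : Equiv.Perm α}
    (hc : c ∈ centralizer (G : Set (Equiv.Perm α))) (a : α) :
    stabilizer G (c a) = stabilizer G a := by
  ext g
  have h := (mem_centralizer_iff.mp hc) g g.2
  have h' : (g : Equiv.Perm α) (c a) = c ((g : Equiv.Perm α) a) := by
    rw [← Equiv.Perm.mul_apply, h, Equiv.Perm.mul_apply]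
  change (g : Equiv.Perm α) (c a) = c a ↔ (g : Equiv.Perm α) a = a
  rw [h', c.apply_eq_iff_eq]

theorem eq_one_of_mem_centralizer (G : Subgroup (Equiv.Perm α)) [hG : IsPretransitive G α]
    {c : Equiv.Perm α} (hc : c ∈ centralizer (G : Set (Equiv.Perm α))) {a : α} (ha : c a = a) :
    c = 1 :=
  eq_one_of_commute_of_pretransitive G hG
    (fun b hb => ((mem_centralizer_iff.mp hc) b hb).symm) (a := a) ha

/-- If `A`, `B` are commuting transitive subgroups of a permutation group `G`, the centraliser of
`A` in the symmetric group is `B`. -/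
theorem centralizer_map_eq_of_commute [Nonempty α] {G : Subgroup (Equiv.Perm α)}
    (A B : Subgroup G) (hA : IsPretransitive A α) (hB : IsPretransitive B α)
    (hc : ∀ a ∈ A, ∀ b ∈ B, Commute a b) :
    centralizer ((A.map G.subtype : Subgroup (Equiv.Perm α)) : Set (Equiv.Perm α)) =
      B.map G.subtype := by
  have hc' : ∀ b ∈ B.map G.subtype, ∀ a ∈ A.map G.subtype, Commute b a := by
    rintro _ ⟨b, hb, rfl⟩ _ ⟨a, ha, rfl⟩
    exact ((hc a ha b hb).map G.subtype).symm
  apply le_antisymm
  · intro c hcA
    apply mem_of_commute_of_pretransitive (α := α) _ (A.map G.subtype)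
      (isPretransitive_map_subtype B hB) (isPretransitive_map_subtype A hA) hc'
    intro a ha
    exact ((mem_centralizer_iff.mp hcA) a ha).symm
  · intro b hb
    rw [mem_centralizer_iff]
    intro a ha
    exact (hc' b hb a ha).symm.eq

end PermCentralizer

end CL.Perm
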