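import Cfsg.Agent.Base

/-!
# Fixed-point-free representations: lifting to characteristic zero

`CL.FPF.IsFPF G` says that `G` has a non-zero complex representation in which no non-identity
element has the eigenvalue `1`.  A finite group acting fixed-point-freely on a non-zero vector space
over `ZMod p`, `p ∤ |G|`, has this property (`CL.FPF.isFPF_of_zmod`).
-/

set_option autoImplicit false

namespace CL.FPF

open MonoidAlgebra

/-- `G` has a non-zero fixed-point-free complex representation. -/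
def IsFPF (G : Type*) [Group G] : Prop :=
  ∃ (n : ℕ) (ρ : G →* Module.End ℂ (Fin (n + 1) → ℂ)), ∀ g : G, g ≠ 1 → IsUnit (ρ g - 1)

variable {G : Type*} [Group G]

theorem IsFPF.of_injective {H : Type*} [Group H] (h : IsFPF G) (f : H →* G)
    (hf : Function.Injective f) : IsFPF H := by
  obtain ⟨n, ρ, hρ⟩ := h
  exact ⟨n, ρ.comp f, fun g hg => hρ (f g) fun h1 => hg (hf (h1.trans (map_one f).symm))⟩

theorem IsFPF.subgroup (h : IsFPF G) (H : Subgroup G) : IsFPF H :=
  h.of_injective H.subtype H.subtype_injective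

/-- The sum of the elements of the cyclic group generated by `h`. -/
noncomputable def nrm (k : Type*) [CommRing k] (h : G) : MonoidAlgebra k G :=
  ∑ i ∈ Finset.range (orderOf h), of k G (h ^ i)

/-- The left ideal generated by the elements `nrm k h`, `h ≠ 1`. -/
noncomputable def nrmIdeal (k : Type*) [CommRing k] (G : Type*) [Group G] :
    Ideal (MonoidAlgebra k G) :=
  Ideal.span {x | ∃ h : G, h ≠ 1 ∧ x = nrm k h}

variable {k k' : Type*} [CommRing k] [CommRing k']

theorem map_nrm (f : k →+* k') (h : G) : mapRingHom G f (nrm k h) = nrm k' h := by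
  simp [nrm]

theorem nrm_mul_of (h g : G) : nrm k h * of k G g = of k G g * nrm k (g⁻¹ * h * g) := by
  have ho : orderOf (g⁻¹ * h * g) = orderOf h := by
    have := (MulAut.conj g⁻¹).orderOf_eq h
    simpa using this
  rw [nrm, nrm, ho, Finset.sum_mul, Finset.mul_sum]
  refine Finset.sum_congr rfl fun i _ => ?_
  rw [← map_mul, ← map_mul]
  congr 1
  have := conj_pow (a := g⁻¹) (b := h) (i := i)
  rw [inv_inv] at this
  rw [this]; group

theorem mul_sum_pow_eq {R : Type*} [Ring R] (x : R) {n : ℕ} (hx : x ^ n = 1) :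
    x * ∑ i ∈ Finset.range n, x ^ i = ∑ i ∈ Finset.range n, x ^ i := by
  have := mul_geom_sum x n
  rw [hx, sub_self, sub_mul, one_mul, sub_eq_zero] at this
  exact this

theorem nrm_eq (h : G) : nrm k h = ∑ i ∈ Finset.range (orderOf h), (of k G h) ^ i := by
  simp only [nrm, map_pow]

theorem of_mul_nrm (h : G) : of k G h * nrm k h = nrm k h := by
  rw [nrm_eq]
  exact mul_sum_pow_eq _ (by rw [← map_pow, pow_orderOf_eq_one, map_one])

theorem nrm_mul_nrm (h : G) : nrm k h * nrm k h = orderOf h • nrm k h := by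
  have h1 : ∀ i : ℕ, (of k G h) ^ i * nrm k h = nrm k h := by
    intro i
    induction i with
    | zero => simp
    | succ i ih => rw [pow_succ, mul_assoc, of_mul_nrm, ih]
  conv_lhs => rw [nrm_eq h, Finset.sum_mul, ← nrm_eq h]
  simp only [h1, Finset.sum_const, Finset.card_range]

theorem nrm_mem {h : G} (hh : h ≠ 1) : nrm k h ∈ nrmIdeal k G :=
  Ideal.subset_span ⟨h, hh, rfl⟩

theorem mul_mem_nrmIdeal {x : MonoidAlgebra k G} (hx : x ∈ nrmIdeal k G) (y : MonoidAlgebra k G) :
    x * y ∈ nrmIdeal k G := by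
  induction hx using Submodule.span_induction with
  | mem x hx =>
    obtain ⟨h, hh, rfl⟩ := hx
    induction y using MonoidAlgebra.induction_on with
    | of g =>
      rw [nrm_mul_of]
      refine Ideal.mul_mem_left _ _ (nrm_mem fun h1 => hh ?_)
      have : h = g * (g⁻¹ * h * g) * g⁻¹ := by group
      rw [this, h1]; group
    | add a b ha hb => rw [mul_add]; exact add_mem ha hb
    | smul r a ha => rw [mul_smul_comm]; exact Submodule.smul_of_tower_mem _ r ha
  | zero => simp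
  | add a b _ _ ha hb => rw [add_mul]; exact add_mem ha hb
  | smul c a _ ha => rw [smul_eq_mul, mul_assoc]; exact Ideal.mul_mem_left _ _ ha

theorem map_mem_nrmIdeal (f : k →+* k') {x : MonoidAlgebra k G} (hx : x ∈ nrmIdeal k G) :
    mapRingHom G f x ∈ nrmIdeal k' G := by
  induction hx using Submodule.span_induction with
  | mem x hx =>
    obtain ⟨h, hh, rfl⟩ := hx
    rw [map_nrm]; exact nrm_mem hh
  | zero => simp
  | add a b _ _ ha hb => rw [map_add]; exact add_mem ha hb
  | smul c a _ ha => rw [smul_eq_mul, map_mul]; exact Ideal.mul_mem_left _ _ ha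

theorem exists_int_of_rat (c : MonoidAlgebra ℚ G) :
    ∃ m : ℕ, m ≠ 0 ∧ ∃ c' : MonoidAlgebra ℤ G, mapRingHom G (Int.castRingHom ℚ) c' = m • c := by
  induction c using MonoidAlgebra.induction_linear with
  | zero => exact ⟨1, one_ne_zero, 0, by simp⟩
  | add a b ha hb =>
    obtain ⟨m, hm, a', ha'⟩ := ha
    obtain ⟨n, hn, b', hb'⟩ := hb
    refine ⟨m * n, mul_ne_zero hm hn, n • a' + m • b', ?_⟩
    rw [map_add, map_nsmul, map_nsmul, ha', hb', smul_add, smul_smul, smul_smul, mul_comm n m]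
  | single g r =>
    refine ⟨r.den, r.den_nz, single g r.num, ?_⟩
    rw [mapRingHom_single, smul_single]
    congr 1
    simp [Rat.den_mul_eq_num]

theorem exists_int_mem_of_rat {x : MonoidAlgebra ℚ G} (hx : x ∈ nrmIdeal ℚ G) :
    ∃ m : ℕ, m ≠ 0 ∧ ∃ x' ∈ nrmIdeal ℤ G, mapRingHom G (Int.castRingHom ℚ) x' = m • x := by
  induction hx using Submodule.span_induction with
  | mem x hx =>
    obtain ⟨h, hh, rfl⟩ := hx
    exact ⟨1, one_ne_zero, _, nrm_mem hh, by rw [map_nrm, one_smul]⟩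
  | zero => exact ⟨1, one_ne_zero, 0, zero_mem _, by simp⟩
  | add a b _ _ ha hb =>
    obtain ⟨m, hm, a', ha1, ha'⟩ := ha
    obtain ⟨n, hn, b', hb1, hb'⟩ := hb
    refine ⟨m * n, mul_ne_zero hm hn, n • a' + m • b',
      add_mem (nsmul_mem ha1 n) (nsmul_mem hb1 m), ?_⟩
    rw [map_add, map_nsmul, map_nsmul, ha', hb', smul_add, smul_smul, smul_smul, mul_comm n m]
  | smul c a _ ha =>
    obtain ⟨m, hm, a', ha1, ha'⟩ := ha
    obtain ⟨n, hn, c', hc'⟩ := exists_int_of_rat c
    refine ⟨n * m, mul_ne_zero hn hm, c' * a', Ideal.mul_mem_left _ _ ha1, ?_⟩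
    rw [map_mul, ha', hc', smul_mul_smul_comm, smul_eq_mul]

theorem natCast_mem_of_one_mem (h : (1 : MonoidAlgebra ℚ G) ∈ nrmIdeal ℚ G) :
    ∃ m : ℕ, m ≠ 0 ∧ (m : MonoidAlgebra ℤ G) ∈ nrmIdeal ℤ G := by
  obtain ⟨m, hm, x, hx, hx'⟩ := exists_int_mem_of_rat h
  refine ⟨m, hm, ?_⟩
  have : x = m := by
    ext g
    apply Int.cast_injective (α := ℚ)
    have h1 := congrArg (fun y => y.coeff g) hx'
    have h2 := coeff_mapRingHom (Int.castRingHom ℚ) (m : MonoidAlgebra ℤ G) g
    rw [map_natCast, ← nsmul_one, ← h1, coeff_mapRingHom] at h2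
    exact h2
  rwa [← this]

section Lift

variable {p a : ℕ}

theorem zmod_ker (hp : p.Prime) (x : ZMod (p ^ (a + 1)))
    (hx : ZMod.castHom (dvd_pow_self p a.succ_ne_zero) (ZMod p) x = 0) :
    ∃ y : ZMod (p ^ (a + 1)), x = p • y := by
  have : NeZero (p ^ (a + 1)) := ⟨pow_ne_zero _ hp.ne_zero⟩
  rw [← ZMod.natCast_zmod_val x, map_natCast, ZMod.natCast_eq_zero_iff] at hx
  obtain ⟨c, hc⟩ := hx
  exact ⟨c, by rw [← ZMod.natCast_zmod_val x, hc]; simp⟩

theorem zmod_cast_eq_zero (hp : p.Prime) (x : ZMod (p ^ (a + 1))) (hx : p ^ a • x = 0) :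
    ZMod.castHom (dvd_pow_self p a.succ_ne_zero) (ZMod p) x = 0 := by
  have : NeZero (p ^ (a + 1)) := ⟨pow_ne_zero _ hp.ne_zero⟩
  rw [← ZMod.natCast_zmod_val x, nsmul_eq_mul, ← Nat.cast_mul, ZMod.natCast_eq_zero_iff] at hx
  rw [← ZMod.natCast_zmod_val x, map_natCast, ZMod.natCast_eq_zero_iff]
  exact Nat.dvd_of_mul_dvd_mul_left (pow_pos hp.pos a) ((pow_succ p a).symm.dvd.trans hx)

theorem smul_cancel_of_coprime {q n : ℕ} (hn : n.Coprime q) {x : MonoidAlgebra (ZMod q) G}
    (hx : n • x = 0) : x = 0 := by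
  have hu : IsUnit (n : ZMod q) := (ZMod.isUnit_iff_coprime n q).mpr hn
  rw [← Nat.cast_smul_eq_nsmul (ZMod q)] at hx
  exact (hu.smul_eq_zero).mp hx

theorem one_mem_zmod_of_natCast_mem [Finite G] (hp : p.Prime) (hG : ¬ p ∣ Nat.card G) {m : ℕ}
    (hm : m ≠ 0) (h : (m : MonoidAlgebra ℤ G) ∈ nrmIdeal ℤ G) :
    (1 : MonoidAlgebra (ZMod p) G) ∈ nrmIdeal (ZMod p) G := by
  classical
  have := Fact.mk hp
  have : NeZero (Nat.card G : ZMod p) := ⟨by rwa [Ne, ZMod.natCast_eq_zero_iff]⟩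
  obtain ⟨L, hL⟩ := MonoidAlgebra.Submodule.exists_isCompl (k := ZMod p) (G := G)
    (nrmIdeal (ZMod p) G)
  obtain ⟨j, hj, e, he, hje⟩ := Submodule.mem_sup.mp
    (show (1 : MonoidAlgebra (ZMod p) G) ∈ nrmIdeal (ZMod p) G ⊔ L by
      rw [hL.sup_eq_top]; trivial)
  suffices e = 0 by rwa [← hje, this, add_zero]
  have hJe : ∀ x ∈ nrmIdeal (ZMod p) G, x * e = 0 := fun x hx =>
    (Submodule.disjoint_def.mp hL.disjoint) _ (mul_mem_nrmIdeal hx e) (L.smul_mem x he)
  have hee : IsIdempotentElem e := by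
    have := congrArg (· * e) hje
    simpa [add_mul, hJe j hj, IsIdempotentElem] using this
  obtain ⟨a, m', hm', rfl⟩ := Nat.exists_eq_pow_mul_and_not_dvd hm p hp.ne_one
  let π : MonoidAlgebra (ZMod (p ^ (a + 1))) G →+* MonoidAlgebra (ZMod p) G :=
    mapRingHom G (ZMod.castHom (dvd_pow_self p a.succ_ne_zero) (ZMod p))
  have hker : ∀ x, π x = 0 → ∃ y, x = p • y := by
    intro x hx
    have h1 : ∀ g : G, ∃ y : ZMod (p ^ (a + 1)), x.coeff g = p • y := fun g =>
      zmod_ker hp _ (by rw [← coeff_mapRingHom]; exact congrArg (fun y => y.coeff g) hx)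
    choose y hy using h1
    refine ⟨ofCoeff (Finsupp.equivFunOnFinite.symm y), ?_⟩
    ext g
    rw [hy, coeff_smul]
    rfl
  have hq : ∀ y : MonoidAlgebra (ZMod (p ^ (a + 1))) G, p ^ (a + 1) • y = 0 := by
    intro y
    rw [← Nat.cast_smul_eq_nsmul (ZMod (p ^ (a + 1))), ZMod.natCast_self, zero_smul]
  have hsurj : Function.Surjective π := by
    intro x
    choose y hy using fun g : G => ZMod.castHom_surjective (dvd_pow_self p a.succ_ne_zero)
      (x.coeff g)
    refine ⟨ofCoeff (Finsupp.equivFunOnFinite.symm y), ?_⟩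
    ext g
    simp only [π, coeff_mapRingHom]
    exact hy g
  obtain ⟨E, hE, hEe⟩ := exists_isIdempotentElem_eq_of_ker_isNilpotent π (fun x hx => by
    obtain ⟨y, rfl⟩ := hker x hx
    exact ⟨a + 1, by rw [smul_pow, hq]⟩) e (hsurj e) hee
  have hcop : ∀ n : ℕ, ¬ p ∣ n → n.Coprime (p ^ (a + 1)) := fun n hn =>
    Nat.Coprime.pow_right _ ((Nat.coprime_comm.mp ((Nat.Prime.coprime_iff_not_dvd hp).mpr hn)))
  have hkey : ∀ g : G, g ≠ 1 → ∀ y, nrm (ZMod (p ^ (a + 1))) g * y * E = 0 := by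
    intro g hg
    have h1 : ∀ y, ∃ y', orderOf g • (nrm (ZMod (p ^ (a + 1))) g * y * E) =
        p • (nrm (ZMod (p ^ (a + 1))) g * y' * E) := by
      intro y
      obtain ⟨y', hy'⟩ := hker (nrm _ g * y * E) (by
        rw [map_mul, map_mul, hEe, map_nrm]
        exact hJe _ (mul_mem_nrmIdeal (nrm_mem hg) _))
      refine ⟨y', ?_⟩
      have := congrArg (fun z => nrm (ZMod (p ^ (a + 1))) g * z * E) hy'
      simp only [mul_smul_comm, smul_mul_assoc] at this
      rw [← this, ← smul_mul_assoc, ← smul_mul_assoc, ← nrm_mul_nrm]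
      simp only [mul_assoc, hE.eq]
    have h2 : ∀ (i : ℕ) y, ∃ y', orderOf g ^ i • (nrm (ZMod (p ^ (a + 1))) g * y * E) =
        p ^ i • (nrm (ZMod (p ^ (a + 1))) g * y' * E) := by
      intro i
      induction i with
      | zero => intro y; exact ⟨y, by simp⟩
      | succ i ih =>
        intro y
        obtain ⟨y', hy'⟩ := ih y
        obtain ⟨y'', hy''⟩ := h1 y'
        refine ⟨y'', ?_⟩
        rw [pow_succ' (orderOf g), mul_smul, hy', smul_comm, hy'', smul_smul, pow_succ p i]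
    intro y
    obtain ⟨y', hy'⟩ := h2 (a + 1) y
    rw [hq] at hy'
    exact smul_cancel_of_coprime (Nat.Coprime.pow_left _ (hcop _ fun hd =>
      hG (hd.trans (orderOf_dvd_natCard g)))) hy'
  have hJE : ∀ x ∈ nrmIdeal (ZMod (p ^ (a + 1))) G, x * E = 0 := by
    intro x hx
    induction hx using Submodule.span_induction with
    | mem x hx =>
      obtain ⟨g, hg, rfl⟩ := hx
      simpa using hkey g hg 1
    | zero => simp
    | add a b _ _ ha hb => rw [add_mul, ha, hb, add_zero]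
    | smul c a _ ha => rw [smul_eq_mul, mul_assoc, ha, mul_zero]
  have h3 := hJE _ (map_mem_nrmIdeal (Int.castRingHom (ZMod (p ^ (a + 1)))) h)
  rw [map_natCast, ← nsmul_eq_mul, mul_comm, mul_smul] at h3
  have h4 := smul_cancel_of_coprime (hcop _ hm') h3
  rw [← hEe]
  ext g
  simp only [π, coeff_mapRingHom]
  have h5 := congrArg (fun y => y.coeff g) h4
  simp only [coeff_smul] at h5
  exact zmod_cast_eq_zero hp _ h5

end Lift

theorem one_notMem_nrmIdeal {V : Type*} [AddCommGroup V] [Module k V] [Nontrivial V]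
    (ρ : G →* Module.End k V) (hρ : ∀ g : G, g ≠ 1 → ∀ v : V, ρ g v = v → v = 0) :
    (1 : MonoidAlgebra k G) ∉ nrmIdeal k G := by
  intro h
  have : nrmIdeal k G ≤ RingHom.ker (MonoidAlgebra.lift k (Module.End k V) G ρ) := by
    rw [nrmIdeal, Ideal.span_le]
    rintro _ ⟨g, hg, rfl⟩
    have h1 := congrArg (MonoidAlgebra.lift k (Module.End k V) G ρ) (of_mul_nrm (k := k) g)
    rw [map_mul, lift_of] at h1
    ext v
    exact hρ g hg _ (congrArg (· v) h1)
  have h2 := this h
  rw [RingHom.mem_ker, map_one] at h2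
  exact one_ne_zero h2

theorem isFPF_of_one_notMem [Finite G] (h : (1 : MonoidAlgebra ℚ G) ∉ nrmIdeal ℚ G) : IsFPF G := by
  classical
  let W := MonoidAlgebra ℚ G ⧸ nrmIdeal ℚ G
  have : Nontrivial W := Submodule.Quotient.nontrivial_iff.mpr
    (fun ht => h (ht ▸ Submodule.mem_top))
  have : Module.Finite ℚ W := Module.Finite.quotient ℚ _
  obtain ⟨n, hn⟩ : ∃ n, Module.finrank ℚ W = n + 1 :=
    Nat.exists_eq_succ_of_ne_zero Module.finrank_pos.ne'
  let b := Module.finBasisOfFinrankEq ℚ W hn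
  let φ : MonoidAlgebra ℚ G →+* Module.End ℂ (Fin (n + 1) → ℂ) :=
    (Matrix.toLinAlgEquiv' (R := ℂ) (n := Fin (n + 1))).toRingEquiv.toRingHom.comp
      (((algebraMap ℚ ℂ).mapMatrix).comp
        ((LinearMap.toMatrixAlgEquiv b).toRingEquiv.toRingHom.comp
          (Module.toModuleEnd ℚ (S := MonoidAlgebra ℚ G) W)))
  have hφ : ∀ g : G, g ≠ 1 → φ (nrm ℚ g) = 0 := by
    intro g hg
    have : Module.toModuleEnd ℚ (S := MonoidAlgebra ℚ G) W (nrm ℚ g) = 0 := by
      refine LinearMap.ext fun w => ?_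
      obtain ⟨y, rfl⟩ := Submodule.Quotient.mk_surjective _ w
      rw [Module.toModuleEnd_apply, DistribSMul.toLinearMap_apply, LinearMap.zero_apply,
        ← Submodule.Quotient.mk_smul, Submodule.Quotient.mk_eq_zero]
      exact mul_mem_nrmIdeal (nrm_mem hg) y
    simp only [φ, RingHom.comp_apply, this, map_zero]
  refine ⟨n, φ.toMonoidHom.comp (of ℚ G), fun g hg => ?_⟩
  rw [LinearMap.isUnit_iff_ker_eq_bot, LinearMap.ker_eq_bot']
  intro v hv
  have hv' : φ (of ℚ G g) v = v := sub_eq_zero.mp hv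
  have h1 : ∀ i : ℕ, (φ (of ℚ G g) ^ i) v = v := by
    intro i
    induction i with
    | zero => simp
    | succ i ih => rw [pow_succ, Module.End.mul_apply, hv', ih]
  have h2 := congrArg (· v) (hφ g hg)
  simp only [nrm_eq, map_sum, map_pow, LinearMap.sum_apply, h1, Finset.sum_const,
    Finset.card_range, LinearMap.zero_apply] at h2
  exact (smul_eq_zero.mp h2).resolve_left (orderOf_pos g).ne'

/-- A finite group acting fixed-point-freely on a non-zero vector space over `ZMod p`,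
`p ∤ |G|`, has a fixed-point-free complex representation. -/
theorem isFPF_of_zmod [Finite G] {p : ℕ} (hp : p.Prime) (hG : ¬ p ∣ Nat.card G) {V : Type*}
    [AddCommGroup V] [Module (ZMod p) V] [Nontrivial V] (ρ : G →* Module.End (ZMod p) V)
    (hρ : ∀ g : G, g ≠ 1 → ∀ v : V, ρ g v = v → v = 0) : IsFPF G := by
  apply isFPF_of_one_notMem
  intro h
  obtain ⟨m, hm, h'⟩ := natCast_mem_of_one_mem h
  exact one_notMem_nrmIdeal ρ hρ (one_mem_zmod_of_natCast_mem hp hG hm h')

end CL.FPF
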