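import Cfsg.Agent.Base
import Cfsg.Agent.Perm.FPFLift
import Cfsg.Agent.Solv.UniqueSubgroupP

/-!
# Groups with a fixed-point-free representation: Sylow structure
-/

set_option autoImplicit false

namespace CL.FPF

open Finset

variable {G : Type*} [Group G] {R : Type*} [Ring R]

/-- `ρ` is fixed-point-free: `ρ g - 1` is invertible for `g ≠ 1`. -/
def Reg (ρ : G →* R) : Prop := ∀ g : G, g ≠ 1 → IsUnit (ρ g - 1)

namespace Reg

variable {ρ : G →* R}

theorem sum_pow (h : Reg ρ) {g : G} (hg : g ≠ 1) {n : ℕ} (hn : g ^ n = 1) :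
    ∑ i ∈ range n, ρ g ^ i = 0 := by
  have h1 := mul_geom_sum (ρ g) n
  rw [← map_pow, hn, map_one, sub_self] at h1
  exact ((h g hg).mul_right_eq_zero).mp h1

theorem eq_one (h : Reg ρ) [Nontrivial R] {g : G} (hg : ρ g = 1) : g = 1 := by
  by_contra hne
  have := h g hne
  rw [hg, sub_self] at this
  exact not_isUnit_zero this

theorem injective (h : Reg ρ) [Nontrivial R] : Function.Injective ρ := by
  intro g g' hgg
  have : ρ (g'⁻¹ * g) = 1 := by rw [map_mul, hgg, ← map_mul, inv_mul_cancel, map_one]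
  exact (inv_mul_eq_one.mp (h.eq_one this)).symm

theorem mem_zpowers (h : Reg ρ) [CharZero R] {p : ℕ} (hp : p.Prime) {x y : G} (hc : Commute x y)
    (hx : x ^ p = 1) (hy : y ^ p = 1) (hx1 : x ≠ 1) : y ∈ Subgroup.zpowers x := by
  by_contra hn
  have := Fact.mk hp
  have h1 : ∀ i : ℕ, ∑ j ∈ range p, ρ (x ^ i * y) ^ j = 0 := by
    intro i
    refine h.sum_pow (fun h0 => hn ?_) ?_
    · rw [eq_inv_of_mul_eq_one_right h0]
      exact Subgroup.inv_mem _ (Subgroup.npow_mem_zpowers x i)
    · rw [(hc.pow_left i).mul_pow, ← pow_mul, mul_comm, pow_mul, hx, hy, one_pow, one_mul]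
  have h2 : ∑ i ∈ range p, ∑ j ∈ range p, ρ (x ^ i * y) ^ j = 0 :=
    sum_eq_zero fun i _ => h1 i
  rw [sum_comm, sum_eq_single 0] at h2
  · simp only [pow_zero, sum_const, card_range, nsmul_eq_mul, mul_one] at h2
    exact hp.ne_zero (by exact_mod_cast h2)
  · intro j hj hj0
    have hxj : x ^ j ≠ 1 := by
      intro h0
      have hd := orderOf_dvd_of_pow_eq_one h0
      rw [orderOf_eq_prime hx hx1] at hd
      exact absurd (Nat.le_of_dvd (Nat.pos_of_ne_zero hj0) hd) (by simpa using hj)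
    have h3 := h.sum_pow hxj (n := p) (by rw [← pow_mul, mul_comm, pow_mul, hx, one_pow])
    have : ∀ i : ℕ, ρ (x ^ i * y) ^ j = ρ (x ^ j) ^ i * ρ (y ^ j) := by
      intro i
      rw [← map_pow, ← map_pow, ← map_mul, (hc.pow_left i).mul_pow, ← pow_mul, ← pow_mul,
        mul_comm i j]
    simp only [this, ← sum_mul, h3, zero_mul]
  · intro h0
    exact absurd (mem_range.mpr hp.pos) h0

theorem eq_neg_one (h : Reg ρ) {z : G} (hz : z ^ 2 = 1) (hz1 : z ≠ 1) : ρ z = -1 := by
  have := h.sum_pow hz1 hz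
  simp only [sum_range_succ, range_zero, sum_empty, pow_zero, zero_add, pow_one] at this
  exact eq_neg_of_add_eq_zero_right this

theorem involution_central (h : Reg ρ) [Nontrivial R] {z : G} (hz : z ^ 2 = 1) (hz1 : z ≠ 1)
    (g : G) : g * z = z * g :=
  h.injective (by rw [map_mul, map_mul, h.eq_neg_one hz hz1, mul_neg_one, neg_one_mul])

theorem cube (h : Reg ρ) {a : G} (ha : a ^ 3 = 1) (ha1 : a ≠ 1) :
    ρ a * ρ a + ρ a + 1 = 0 := by
  have := h.sum_pow ha1 ha
  simp only [sum_range_succ, range_zero, sum_empty, pow_zero, zero_add, pow_one] at this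
  rw [← this, sq]; abel

end Reg

theorem IsFPF.exists_reg (h : IsFPF G) :
    ∃ (n : ℕ) (ρ : G →* Module.End ℂ (Fin (n + 1) → ℂ)), Reg ρ := h

theorem charZero_end (n : ℕ) : CharZero (Module.End ℂ (Fin (n + 1) → ℂ)) :=
  algebraRat.charZero _

theorem IsFPF.mem_zpowers (h : IsFPF G) {p : ℕ} (hp : p.Prime) {x y : G} (hc : Commute x y)
    (hx : x ^ p = 1) (hy : y ^ p = 1) (hx1 : x ≠ 1) : y ∈ Subgroup.zpowers x := by
  obtain ⟨n, ρ, hρ⟩ := h.exists_reg
  have := charZero_end n
  exact hρ.mem_zpowers hp hc hx hy hx1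

theorem IsFPF.involution_unique (h : IsFPF G) {z w : G} (hz : z ^ 2 = 1) (hz1 : z ≠ 1)
    (hw : w ^ 2 = 1) (hw1 : w ≠ 1) : z = w := by
  obtain ⟨n, ρ, hρ⟩ := h.exists_reg
  exact hρ.injective (by rw [hρ.eq_neg_one hz hz1, hρ.eq_neg_one hw hw1])

theorem IsFPF.involution_central (h : IsFPF G) {z : G} (hz : z ^ 2 = 1) (g : G) :
    g * z = z * g := by
  by_cases hz1 : z = 1
  · simp [hz1]
  obtain ⟨n, ρ, hρ⟩ := h.exists_reg
  exact hρ.involution_central hz hz1 g

theorem IsFPF.isCyclic_or_quaternion (h : IsFPF G) {p : ℕ} [hp : Fact p.Prime] {P : Subgroup G}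
    [Finite P] (hP : IsPGroup p P) :
    IsCyclic P ∨ (p = 2 ∧ ∃ n : ℕ, 1 ≤ n ∧ Nonempty (P ≃* QuaternionGroup (2 ^ n))) :=
  CL.isCyclic_or_quaternion_of_commute hP fun _ _ hc hx hy hx1 =>
    (h.subgroup P).mem_zpowers hp.out hc hx hy hx1

theorem IsFPF.isCyclic_of_odd (h : IsFPF G) {p : ℕ} [hp : Fact p.Prime] (hp2 : p ≠ 2)
    {P : Subgroup G} [Finite P] (hP : IsPGroup p P) : IsCyclic P :=
  (h.isCyclic_or_quaternion hP).resolve_right fun hh => hp2 hh.1

theorem IsFPF.isZGroup (h : IsFPF G) [Finite G] (h2 : ∀ P : Sylow 2 G, IsCyclic P) :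
    IsZGroup G := by
  refine ⟨fun p hp P => ?_⟩
  have := Fact.mk hp
  by_cases hp2 : p = 2
  · subst hp2; exact h2 P
  · exact h.isCyclic_of_odd hp2 P.isPGroup'

theorem IsFPF.isZGroup_of_odd (h : IsFPF G) [Finite G] (h2 : ¬ 2 ∣ Nat.card G) :
    IsZGroup G := by
  refine h.isZGroup fun P => ?_
  have : (P : Subgroup G) = ⊥ := by
    obtain ⟨k, hk⟩ := IsPGroup.iff_card.mp P.isPGroup'
    rcases Nat.eq_zero_or_pos k with rfl | hk0
    · exact Subgroup.card_eq_one.mp hk
    · exact absurd ((hk ▸ dvd_pow_self 2 hk0.ne').trans (Subgroup.card_subgroup_dvd_card _)) h2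
  rw [this]
  infer_instance

theorem IsFPF.isCyclic_of_comm (h : IsFPF G) [Finite G] [hc : IsMulCommutative G] :
    IsCyclic G := by
  have : IsZGroup G := by
    refine ⟨fun p hp P => ?_⟩
    have := Fact.mk hp
    exact CL.isCyclic_of_isMulCommutative_of_unique P.isPGroup' fun x y hx hy hx1 =>
      (h.subgroup P).mem_zpowers hp (mul_comm' x y) hx hy hx1
  have : Group.IsNilpotent G := by
    let _ : CommGroup G := { ‹Group G› with mul_comm := mul_comm' }
    infer_instance
  infer_instance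

theorem isFPF_of_rep [Finite G] {p : ℕ} (hp : p.Prime) {V : Type*} [AddCommGroup V]
    [Module (ZMod p) V] [Finite V] [Nontrivial V] (ρ : G →* Module.End (ZMod p) V)
    (hρ : ∀ g : G, g ≠ 1 → ∀ v : V, ρ g v = v → v = 0) : IsFPF G := by
  have := Fact.mk hp
  refine isFPF_of_zmod hp ?_ ρ hρ
  intro hd
  obtain ⟨g, hg⟩ := exists_prime_orderOf_dvd_card' (G := G) p hd
  have hg1 : g ≠ 1 := by
    rintro rfl
    rw [orderOf_one] at hg
    exact hp.one_lt.ne hg
  have : CharP (Module.End (ZMod p) V) p := charP_of_injective_algebraMap' (ZMod p) p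
  have hn : (ρ g - 1) ^ p = 0 := by
    rw [sub_pow_char_of_commute _ (Commute.one_right _), ← map_pow,
      show g ^ p = 1 from hg ▸ pow_orderOf_eq_one g, map_one, one_pow, sub_self]
  have hu : IsUnit (ρ g - 1) := by
    rw [LinearMap.isUnit_iff_ker_eq_bot, LinearMap.ker_eq_bot']
    intro x hx
    exact hρ g hg1 x (sub_eq_zero.mp hx)
  exact not_isUnit_zero (hn ▸ hu.pow p)

theorem isFPF_of_zmod_action [Finite G] {p : ℕ} (hp : p.Prime) {V : Type*} [AddCommGroup V]
    [Module (ZMod p) V] [Finite V] [Nontrivial V] [DistribMulAction G V]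
    (h : ∀ g : G, g ≠ 1 → ∀ v : V, g • v = v → v = 0) : IsFPF G := by
  let ρ : G →* Module.End (ZMod p) V :=
    { toFun := fun g => (DistribSMul.toAddMonoidHom V g).toZModLinearMap p
      map_one' := LinearMap.ext fun x => one_smul G x
      map_mul' := fun g g' => LinearMap.ext fun x => mul_smul g g' x }
  exact isFPF_of_rep hp ρ h

/-- A finite group acting fixed-point-freely on a non-trivial finite abelian group has a
fixed-point-free complex representation (additive form). -/
theorem isFPF_of_distribMulAction [Finite G] {M : Type*} [AddCommGroup M] [Finite M] [Nontrivial M]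
    [DistribMulAction G M] (h : ∀ g : G, g ≠ 1 → ∀ v : M, g • v = v → v = 0) : IsFPF G := by
  classical
  obtain ⟨p, hp, hpM⟩ := Nat.exists_prime_and_dvd (Finite.one_lt_card (α := M)).ne'
  have := Fact.mk hp
  obtain ⟨v, hv⟩ := exists_prime_addOrderOf_dvd_card' (G := M) p hpM
  let V : AddSubgroup M := (nsmulAddMonoidHom p : M →+ M).ker
  have hV : ∀ x : M, x ∈ V ↔ p • x = 0 := fun x => Iff.rfl
  have hvV : v ∈ V := (hV v).mpr (hv ▸ addOrderOf_nsmul_eq_zero v)
  have hv0 : v ≠ 0 := by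
    rintro rfl
    rw [addOrderOf_zero] at hv
    exact hp.one_lt.ne hv
  have : Nontrivial V := ⟨⟨v, hvV⟩, 0, fun hh => hv0 (congrArg Subtype.val hh)⟩
  let i1 : Module (ZMod p) V := AddCommGroup.zmodModule fun x => Subtype.ext x.2
  let i2 : DistribMulAction G V :=
    { smul := fun g x => ⟨g • (x : M), (hV _).mpr (by rw [smul_comm, (hV _).mp x.2, smul_zero])⟩
      one_smul := fun x => Subtype.ext (one_smul G (x : M))
      mul_smul := fun g g' x => Subtype.ext (mul_smul g g' (x : M))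
      smul_zero := fun g => Subtype.ext (smul_zero g)
      smul_add := fun g x y => Subtype.ext (smul_add g (x : M) y) }
  exact @isFPF_of_zmod_action G _ _ p hp V _ i1 _ _ i2 fun g hg x hx =>
    Subtype.ext (h g hg x (congrArg Subtype.val hx))

/-- Multiplicative form. -/
theorem isFPF_of_mulDistribMulAction [Finite G] {M : Type*} [CommGroup M] [Finite M] [Nontrivial M]
    [MulDistribMulAction G M] (h : ∀ g : G, g ≠ 1 → ∀ v : M, g • v = v → v = 1) : IsFPF G := by
  let _ : DistribMulAction G (Additive M) :=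
    { smul := fun g v => Additive.ofMul (g • v.toMul)
      one_smul := fun v => one_smul G v.toMul
      mul_smul := fun g g' v => mul_smul g g' v.toMul
      smul_zero := fun g => smul_one (N := M) g
      smul_add := fun g v w => smul_mul' g v.toMul w.toMul }
  exact isFPF_of_distribMulAction (M := Additive M) fun g hg v hv => h g hg v.toMul hv

end CL.FPF
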