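import Cfsg.Agent.Base

/-!
# Ring identities for elements of order three and four acting fixed-point-freely

All proofs are machine-found certificates in the free algebra.
-/

set_option autoImplicit false
set_option linter.unusedVariables false
set_option linter.unusedSectionVars false

namespace CL.FPF.NC

variable {R : Type*} [Ring R] [Algebra ℚ R]

theorem cancel (n : ℕ) [n.AtLeastTwo] {x : R} (h : (OfNat.ofNat n : R) * x = 0) : x = 0 := by
  have h1 : (n : ℚ) • x = 0 := by
    rw [Nat.cast_smul_eq_nsmul, nsmul_eq_mul]; exact h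
  have h2 : (n : ℚ) ≠ 0 := Nat.cast_ne_zero.mpr (by have := Nat.AtLeastTwo.prop (n := n); omega)
  exact (smul_eq_zero_iff_right h2).mp h1

theorem cancel' (n : ℕ) [n.AtLeastTwo] {x y : R} (h : (OfNat.ofNat n : R) * (x - y) = 0) :
    x = y :=
  sub_eq_zero.mp (cancel n h)

theorem sum_c {A X Y : R} (hA : A * A + A + 1 = 0) (hX2 : X * A + A * X + X + 1 = 0) (hY2 : Y * A + A * Y + Y + 1 = 0) :
    -(X * Y + Y * X) + -(X * (A * Y * (-1 - A)) + (A * Y * (-1 - A)) * X) + -(X * ((-1 - A) * Y * A) + ((-1 - A) * Y * A) * X) = 2 := by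
  linear_combination (norm := (noncomm_ring; try norm_num)) 2 * (hX2 * Y * A) + 2 * (A * hY2 * X) - 2 * (A * X * hY2) + 2 * (A * hX2 * Y) - 2 * (hA * Y * X) - 2 * (hA * X * Y) + hY2 * X - X * hY2 + 2 * (hX2 * Y) - 2 * (hY2)

theorem sum_c_sq {A X Y : R} (hA : A * A + A + 1 = 0) (hX1 : X * X + 1 = 0) (hX2 : X * A + A * X + X + 1 = 0) (hY1 : Y * Y + 1 = 0) (hY2 : Y * A + A * Y + Y + 1 = 0) :
    (-(X * Y + Y * X)) * (-(X * Y + Y * X)) + (-(X * (A * Y * (-1 - A)) + (A * Y * (-1 - A)) * X)) * (-(X * (A * Y * (-1 - A)) + (A * Y * (-1 - A)) * X)) + (-(X * ((-1 - A) * Y * A) + ((-1 - A) * Y * A) * X)) * (-(X * ((-1 - A) * Y * A) + ((-1 - A) * Y * A) * X)) = 4 := by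
  linear_combination (norm := (noncomm_ring; try norm_num)) 2 * (hX2 * Y * A * X * A * Y * A) + 2 * (X * A * Y * hA * Y * A * X) + 2 * (A * Y * A * hX1 * A * Y * A) + 2 * (A * Y * A * hX2 * Y * A * X) - 2 * (A * Y * hA * X * Y * A * X) - 2 * (A * X * Y * A * hX2 * Y * A) + 2 * (A * X * Y * hA * X * Y * A) + Y * A * hX1 * A * Y * A + Y * A * hX2 * Y * A * X - Y * hA * X * Y * A * X - X * Y * A * hX2 * Y * A + X * Y * hA * Y * A * X + X * Y * hA * X * Y * A + hX2 * Y * X * A * Y * A + hX2 * Y * A * X * Y * A + hX2 * Y * A * X * A * Y + X * A * Y * hA * Y * X + A * Y * hX1 * A * Y * A + A * Y * hX2 * Y * A * X + A * Y * A * hX1 * Y * A + A * Y * A * hX1 * A * Y + A * Y * A * hX2 * Y * X - A * Y * hA * X * Y * X - A * X * Y * hX2 * Y * A - A * X * Y * A * hX2 * Y + A * X * Y * hA * X * Y + hY2 * X * Y * A * X + Y * A * hX1 * Y * A - 2 * (Y * A * hX2 * Y * A) + 2 * (Y * hA * X * Y * A) - X * Y * hX2 * Y * A + X * hY2 * X * Y * A - X * Y * A * hX2 * Y + X * Y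 * hA * X * Y - 2 * (hX2 * Y * Y * A * X) - hX2 * Y * X * Y * A + hX2 * Y * X * A * Y + A * Y * hX1 * A * Y + A * Y * hX2 * Y * X - 2 * (A * hY2 * Y * A * X) - A * hY2 * X * Y * X - 2 * (A * Y * hA * Y * A) + 2 * (A * X * hY1 * A * X) - A * X * Y * hX2 * Y + 2 * (A * X * hY2 * Y * A) + A * X * hY2 * X * Y - 2 * (A * hX2 * Y * Y * A) - A * hX2 * Y * X * Y + 2 * (hA * Y * Y * A * X) + hA * Y * X * Y * X + 2 * (hA * X * Y * Y * A) + hA * X * Y * X * Y - Y * hX2 * Y * A - hY2 * Y * A * X - Y * A * hX2 * Y - Y * hA * Y * A + Y * hA * X * Y + X * hY1 * A * X - X * Y * hX2 * Y + X * hY2 * Y * A + X * hY2 * X * Y - hX2 * Y * Y * X - hX2 * Y * Y * A - hX2 * Y * X * Y - A * hY2 * Y * X - A * Y * hA * Y + A * X * hY1 * X + A * X * hY2 * Y - A * hX2 * Y * Y + hA * Y * Y * X + hA * X * Y * Y + hY1 * A * X + Y * hX1 * Y - Y * hX2 * Y + 2 * (hY2 * Y * A) + hY2 * X * Y + 2 * (X * hY1 * X) - X * hY1 * A + X * hY2 * Y - X * hY2 * X - hX1 * Y * A - hX2 * Y * Y + hX2 * Y *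 X - A * hY1 * X + 2 * (A * hY1 * A) + 2 * (A * hY2 * X) + A * X * hY1 - 2 * (A * X * hY2) - A * hX1 * Y + 2 * (A * hX2 * Y) - 2 * (A * hX2 * X) - 2 * (hA * Y * X) - 2 * (hA * X * Y) + 2 * (hA * X * X) + hY1 * A + hY2 * Y + hY2 * X - X * hY2 - hX1 * Y + hX2 * Y - hX2 * X + A * hY1 - hY2 - 2 * (hX1) + hX2 - 2 * (hA)

theorem three_k2 [Nontrivial R] {A X Y Z : R} (hA : A * A + A + 1 = 0) (hX1 : X * X + 1 = 0) (hX2 : X * A + A * X + X + 1 = 0) (hY1 : Y * Y + 1 = 0) (hY2 : Y * A + A * Y + Y + 1 = 0) (hZ1 : Z * Z + 1 = 0) (hZ2 : Z * A + A * Z + Z + 1 = 0) (hXY : -(X * Y + Y * X) = 1) (hXZ : -(X * Z + Z * X) = 1) (hYZ : -(Y * (A * Z * (-1 - A)) + (A * Z * (-1 - A)) * Y) = 1) :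
    False := by
  refine one_ne_zero (α := R) ?_
  have r1 : A * Z * Y - A * Y * Z + Z * Y - Z + Y = (0 : R) := by
    linear_combination (norm := (noncomm_ring; try norm_num)) -(hY2 * Z * A) + hYZ - A * hZ2 * Y + A * Y * hZ2 - A * hY2 * Z + hA * Z * Y + hA * Y * Z + Y * hZ2 - 2 * (hY2 * Z) + hZ2
  have r3 : A * X * Z * Y - A * X * Y * Z - X * Y * Z + Z * Y - Y * Z + X * Z - X * Y = (0 : R) := by
    linear_combination (norm := (noncomm_ring; try norm_num)) hX2 * Z * Y - X * r1 - hX2 * Y * Z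
  have r7 : X * Z * Y + X * Y * Z - Z * Y + Y * Z - 2 * (A * Z) + 2 * (A * Y) - Z + Y = (0 : R) := by
    linear_combination (norm := (noncomm_ring; try norm_num)) r1 * X + A * Z * hXY - A * hXZ * Y - A * Y * hXZ + A * hXY * Z - r3 + Z * hXY - hXZ * Y - hXZ + hXY
  have r2 : A * Y * Z - Z * Y + Y * Z - A * Z + A * Y = (0 : R) := by
    linear_combination (norm := (noncomm_ring; try norm_num)) -(hA * Z * Y) + A * r1 + hA * Y * Z
  have r5 : Y * Z * Y - Z * Y + Y * Z - 2 * (A * Z) + A * Y - Z + Y - A - 1 = (0 : R) := by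
    linear_combination (norm := (noncomm_ring; try norm_num)) -(hY2 * Z * Y) + Y * r1 + hY2 * Y * Z + r2 * Y - A * hY1 * Z + Z * hY1 - hY1 * Z + r1 + r2 - A * hY1 - hY1
  have r8 : 2 * (X * Y * Z) + 2 * (A * X * Z) - 2 * (A * X * Y) - 2 * (Z * Y) + X * Z - X * Y - 2 * (A * Z) + 2 * (A * Y) + Z - Y = (0 : R) := by
    linear_combination (norm := (noncomm_ring; try norm_num)) -(hX1 * Z * Y) + X * r7 - hX1 * Y * Z + r7 + 2 * (hX2 * Z) - 2 * (hX2 * Y)
  have r9 : A * X * Y + Z * Y + X * Z + X * Y - A * Y + A * X + A + 1 = (0 : R) := by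
    linear_combination (norm := (noncomm_ring; try norm_num)) hXY * Z * Y + Y * r7 + hXY * Y * Z + X * r5 + X * hY1 * Z + r5 - hY1 * Z + 2 * (hY2 * Z) - 2 * (hY2 * Y) + r7 - r8 + 2 * (hX2 * Z) - hX2 * Y - 2 * (r2) + 2 * (A * hY1) + hY1 + hX2
  have r10 : A * X * Z - Y * Z - X * Y + A * Z - A * X + Z - X - 1 = (0 : R) := by
    linear_combination (norm := (noncomm_ring; try norm_num)) -(hA * X * Y) + A * r9 - r1 - r2 + hA * Y - hA * X - hA
  have r11 : X * Z + X * Y - Z - Y + 2 * (A) + 2 = (0 : R) := by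
    linear_combination (norm := (noncomm_ring; try norm_num)) -(2 * (hX2 * X * Y)) + 2 * (X * r9) + 2 * (A * hX1 * Y) - 2 * (r7) + r8 - 2 * (hX1 * Z) + 2 * (hX2 * Y) - 2 * (hX2 * X) - 2 * (r10) + 2 * (A * hX1) + 2 * (hX1) - 2 * (hX2)
  have r12 : A * X + Z + Y - A = (0 : R) := cancel 2 (by
    linear_combination (norm := (noncomm_ring; try norm_num)) hX1 * Z - X * r11 + hX1 * Y - r11 + 2 * (hX2))
  have r13 : A * Z + A * Y + Z + Y - X + 1 = (0 : R) := by
    linear_combination (norm := (noncomm_ring; try norm_num)) -(hA * X) + A * r12 + r12 + hA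
  have r14 : Z * Y - Y * Z - X * Y - 2 * (A * Y) - Y + X - A - 2 = (0 : R) := by
    linear_combination (norm := (noncomm_ring; try norm_num)) -(hX2 * Z) + X * r13 - hX2 * Y + r10 + r9 - r11 + hX1 - r13
  have r6 : Z * Y * Z - Z * Y + Y * Z - A * Z + 2 * (A * Y) + Y - A = (0 : R) := by
    linear_combination (norm := (noncomm_ring; try norm_num)) -(hZ2 * Y * Z) + Z * r2 + r1 * Z + A * Y * hZ1 + hZ1 * Y + hZ2 * Z - hZ2 * Y - A * hZ1 + r1 + r2
  have r15 : 2 * (X * Y) - 2 * (A * Y) - 2 * (Z) - 3 * (Y) + 2 * (X) + 2 * (A) + 1 = (0 : R) := cancel 2 (by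
    linear_combination (norm := (noncomm_ring; try norm_num)) -(2 * (hZ1 * Y)) + 2 * (Z * r14) + 2 * (r6) - 2 * (hXZ * Y) + 4 * (hZ2 * Y) - 2 * (r7) + r8 - 4 * (r1) - 4 * (r2) - 2 * (r10) + 2 * (r9) - 2 * (r14) + 2 * (hXZ) + 2 * (hZ2) - r11 - 4 * (r13) - 4 * (r12))
  have r16 : 4 * (Y * Z) + 6 * (A * Y) + 2 * (Z) + 7 * (Y) - 4 * (X) - 2 * (A) + 3 = (0 : R) := by
    linear_combination (norm := (noncomm_ring; try norm_num)) 4 * (hX1 * Y) - 2 * (X * r15) - 4 * (hX2 * Y) + 4 * (r9) - 4 * (r14) - 8 * (r11) - r15 + 4 * (hX1) + 4 * (hX2) - 8 * (r12)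
  have r17 : 6 * (A * Y) - 2 * (Z) + 3 * (Y) - 4 * (X) + 6 * (A) + 3 = (0 : R) := by
    linear_combination (norm := (noncomm_ring; try norm_num)) -(8 * (hY1 * Z)) + 2 * (Y * r16) - 12 * (hY2 * Y) + 12 * (A * hY1) - r16 - 2 * (hY1) - 8 * (hXY) + 4 * (hY2) - 4 * (r15)
  have r18 : 34 * (Z) + 3 * (Y) - 16 * (X) - 36 * (A) - 21 = (0 : R) := by
    linear_combination (norm := (noncomm_ring; try norm_num)) -(36 * (hA * Y)) + 6 * (A * r17) + 12 * (r13) + r17 + 24 * (r12) - 36 * (hA)
  have r19 : 253 * (Y) - 12 * (X) + 75 * (A) + 643 = (0 : R) := cancel 12 (by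
    linear_combination (norm := (noncomm_ring; try norm_num)) 6936 * (hZ1) - 204 * (Z * r18) + 612 * (r14) + 3264 * (hXZ) - 7344 * (hZ2) + 153 * (r16) + 3264 * (r11) - 1326 * (r15) + 7344 * (r13) - 1615 * (r17) - 212 * (r18))
  have r20 : 159 * (X) + 780 * (A) + 10271 = (0 : R) := cancel 68 (by
    linear_combination (norm := (noncomm_ring; try norm_num)) 94622 * (hY1) - 374 * (Y * r19) + 4488 * (hXY) + 28050 * (hY2) + 2244 * (r15) - 3927 * (r17) - 99 * (r18) + 914 * (r19))
  have r21 : 20865 * (A) + 274789 = (0 : R) := cancel 1595858 (by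
    linear_combination (norm := (noncomm_ring; try norm_num)) 108733581 * (hX1) - 683859 * (X * r20) + 533410020 * (hX2) - 533410020 * (r12) + 15688530 * (r18) + 1922310 * (r19) + 42544591 * (r20))
  have r22 : 1 = (0 : R) := cancel 70210870261 (by
    linear_combination (norm := (noncomm_ring; try norm_num)) 435348225 * (hA) - 20865 * (A * r21) + 253924 * (r21))
  linear_combination (norm := (noncomm_ring; try norm_num)) r22

theorem three_k3 [Nontrivial R] {A X Y Z : R} (hA : A * A + A + 1 = 0) (hX1 : X * X + 1 = 0) (hX2 : X * A + A * X + X + 1 = 0) (hY1 : Y * Y + 1 = 0) (hY2 : Y * A + A * Y + Y + 1 = 0) (hZ1 : Z * Z + 1 = 0) (hZ2 : Z * A + A * Z + Z + 1 = 0) (hXY : -(X * Y + Y * X) = 1) (hXZ : -(X * Z + Z * X) = 1) (hYZ : -(Y * ((-1 - A) * Z * A) + ((-1 - A) * Z * A) * Y) = 1) :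
    False := by
  refine one_ne_zero (α := R) ?_
  have r1 : A * Z * Y - A * Y * Z - Y * Z - Z + Y = (0 : R) := by
    linear_combination (norm := (noncomm_ring; try norm_num)) hY2 * Z * A - hYZ + A * hZ2 * Y - A * Y * hZ2 + A * hY2 * Z - hA * Z * Y - hA * Y * Z + hZ2 * Y - hZ2
  have r3 : A * X * Z * Y - A * X * Y * Z + X * Z * Y + Z * Y - Y * Z + X * Z - X * Y = (0 : R) := by
    linear_combination (norm := (noncomm_ring; try norm_num)) hX2 * Z * Y - X * r1 - hX2 * Y * Z
  have r7 : X * Z * Y + X * Y * Z + Z * Y - Y * Z + 2 * (A * Z) - 2 * (A * Y) + Z - Y = (0 : R) := by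
    linear_combination (norm := (noncomm_ring; try norm_num)) -(r1 * X) - A * Z * hXY + A * hXZ * Y + A * Y * hXZ - A * hXY * Z + r3 + Y * hXZ - hXY * Z + hXZ - hXY
  have r2 : A * Y * Z + Z * Y + A * Z - A * Y + Z - Y = (0 : R) := by
    linear_combination (norm := (noncomm_ring; try norm_num)) hA * Z * Y - A * r1 - hA * Y * Z - r1
  have r5 : Y * Z * Y + Z * Y - Y * Z + 2 * (A * Z) - A * Y + Z - A = (0 : R) := by
    linear_combination (norm := (noncomm_ring; try norm_num)) hY2 * Z * Y - Y * r1 - hY2 * Y * Z - r2 * Y + A * hY1 * Z + Z * hY1 + r1 + r2 - A * hY1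
  have r8 : 2 * (X * Y * Z) + 2 * (A * X * Z) - 2 * (A * X * Y) + 2 * (Z * Y) + X * Z - X * Y + 2 * (A * Z) - 2 * (A * Y) + 3 * (Z) - 3 * (Y) = (0 : R) := by
    linear_combination (norm := (noncomm_ring; try norm_num)) hX1 * Z * Y - X * r7 + hX1 * Y * Z + r7 + 2 * (hX2 * Z) - 2 * (hX2 * Y)
  have r9 : A * X * Y - Z * Y - X * Z + A * Y - A * X + Y - X + A = (0 : R) := by
    linear_combination (norm := (noncomm_ring; try norm_num)) -(hXY * Z * Y) - Y * r7 - hXY * Y * Z - X * r5 - X * hY1 * Z + r5 - hY1 * Z + 2 * (hY2 * Z) - 2 * (hY2 * Y) + r7 - r8 + 2 * (hX2 * Z) - hX2 * Y - 2 * (r2) + 2 * (A * hY1) + hY1 - hX2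
  have r10 : A * X * Z + Y * Z + X * Z + X * Y - A * Z + A * X + 1 = (0 : R) := by
    linear_combination (norm := (noncomm_ring; try norm_num)) hA * X * Y - A * r9 - r1 - r2 - r9 + hA * Y - hA * X + hA
  have r11 : X * Z + X * Y + Z + Y - 2 * (A) = (0 : R) := by
    linear_combination (norm := (noncomm_ring; try norm_num)) -(2 * (hX2 * X * Y)) + 2 * (X * r9) + 2 * (A * hX1 * Y) + 2 * (r7) - r8 + 2 * (hX1 * Z) + 2 * (hX1 * Y) - 2 * (hX2 * Y) + 2 * (hX2 * X) + 2 * (r10) - 2 * (A * hX1) - 2 * (hX2)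
  have r12 : A * X - Z - Y + X + A + 1 = (0 : R) := cancel 2 (by
    linear_combination (norm := (noncomm_ring; try norm_num)) -(hX1 * Z) + X * r11 - hX1 * Y - r11 + 2 * (hX2))
  have r13 : A * Z + A * Y + X + 1 = (0 : R) := by
    linear_combination (norm := (noncomm_ring; try norm_num)) hA * X - A * r12 + hA
  have r14 : Z * Y - Y * Z - X * Y - 2 * (A * Y) - Y - X + A - 1 = (0 : R) := by
    linear_combination (norm := (noncomm_ring; try norm_num)) hX2 * Z - X * r13 + hX2 * Y - r10 - r9 - r11 + hX1 - r13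
  have r6 : Z * Y * Z + Z * Y - Y * Z + A * Z - 2 * (A * Y) + Z - Y - A - 1 = (0 : R) := by
    linear_combination (norm := (noncomm_ring; try norm_num)) hZ2 * Y * Z - Z * r2 - r1 * Z - A * Y * hZ1 + hZ1 * Y + hZ2 * Z - hZ2 * Y - Y * hZ1 - A * hZ1 + r1 + r2 - hZ1
  have r15 : 2 * (X * Y) - 2 * (A * Y) + 2 * (Z) + Y - 2 * (X) - 2 * (A) - 1 = (0 : R) := cancel 2 (by
    linear_combination (norm := (noncomm_ring; try norm_num)) 2 * (hZ1 * Y) - 2 * (Z * r14) - 2 * (r6) + 2 * (hXZ * Y) - 4 * (hZ2 * Y) + 2 * (r7) - r8 + 4 * (r1) + 4 * (r2) + 2 * (r10) - 2 * (r9) - 2 * (r14) + 2 * (hXZ) + 2 * (hZ2) - r11 - 4 * (r13) - 4 * (r12))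
  have r16 : 4 * (Y * Z) + 6 * (A * Y) - 2 * (Z) - Y + 4 * (X) + 2 * (A) + 5 = (0 : R) := by
    linear_combination (norm := (noncomm_ring; try norm_num)) -(4 * (hX1 * Y)) + 2 * (X * r15) + 4 * (hX2 * Y) - 4 * (r9) - 4 * (r14) - 8 * (r11) - r15 + 4 * (hX1) + 4 * (hX2) - 8 * (r12)
  have r17 : 6 * (A * Y) + 2 * (Z) + 3 * (Y) + 4 * (X) - 6 * (A) - 3 = (0 : R) := by
    linear_combination (norm := (noncomm_ring; try norm_num)) 8 * (hY1 * Z) - 2 * (Y * r16) + 12 * (hY2 * Y) - 12 * (A * hY1) - r16 - 14 * (hY1) - 8 * (hXY) + 4 * (hY2) - 4 * (r15)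
  have r18 : 34 * (Z) + 3 * (Y) - 16 * (X) - 36 * (A) - 15 = (0 : R) := by
    linear_combination (norm := (noncomm_ring; try norm_num)) -(36 * (hA * Y)) + 6 * (A * r17) - 12 * (r13) + 5 * (r17) - 24 * (r12) + 36 * (hA)
  have r19 : 253 * (Y) - 12 * (X) + 75 * (A) - 568 = (0 : R) := cancel 12 (by
    linear_combination (norm := (noncomm_ring; try norm_num)) -(6936 * (hZ1)) + 204 * (Z * r18) - 612 * (r14) - 3264 * (hXZ) + 7344 * (hZ2) - 153 * (r16) - 3264 * (r11) + 1326 * (r15) - 7344 * (r13) + 1615 * (r17) - 212 * (r18))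
  have r20 : 159 * (X) + 780 * (A) - 9491 = (0 : R) := cancel 68 (by
    linear_combination (norm := (noncomm_ring; try norm_num)) -(94622 * (hY1)) + 374 * (Y * r19) - 4488 * (hXY) - 28050 * (hY2) - 2244 * (r15) + 3927 * (r17) - 99 * (r18) + 914 * (r19))
  have r21 : 20865 * (A) - 253924 = (0 : R) := cancel 1595858 (by
    linear_combination (norm := (noncomm_ring; try norm_num)) -(108733581 * (hX1)) + 683859 * (X * r20) - 533410020 * (hX2) + 533410020 * (r12) + 15688530 * (r18) + 1922310 * (r19) + 42544591 * (r20))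
  have r22 : 1 = (0 : R) := cancel 70210870261 (by
    linear_combination (norm := (noncomm_ring; try norm_num)) 435348225 * (hA) - 20865 * (A * r21) - 274789 * (r21))
  linear_combination (norm := (noncomm_ring; try norm_num)) r22

theorem three_e1 [Nontrivial R] {A X Y Z : R} (hA : A * A + A + 1 = 0) (hX1 : X * X + 1 = 0) (hX2 : X * A + A * X + X + 1 = 0) (hY1 : Y * Y + 1 = 0) (hY2 : Y * A + A * Y + Y + 1 = 0) (hZ1 : Z * Z + 1 = 0) (hZ2 : Z * A + A * Z + Z + 1 = 0) (hXY : -(X * Y + Y * X) = 1) (hXZ : -(X * Z + Z * X) = 1) (hYZ : -(Y * Z + Z * Y) = 1) (hE : Z * (X * Y) * (-Z) = A) :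
    False := by
  refine one_ne_zero (α := R) ?_
  have r1 : Y * Z - X * Z + X * Y - A = (0 : R) := by
    linear_combination (norm := (noncomm_ring; try norm_num)) -(hXZ * Y * Z) + hE + X * hYZ * Z + X * Y * hZ1
  have r2 : A * Y - A * X - Z + Y = (0 : R) := by
    linear_combination (norm := (noncomm_ring; try norm_num)) -(hY1 * Z) + Y * r1 - hXY * Z + hXY * Y - X * r1 + X * hY1 - hX1 * Z + hX1 * Y + hY2 - hX2
  have r3 : A * Z - A * X + Y - X = (0 : R) := by
    linear_combination (norm := (noncomm_ring; try norm_num)) hA * Y - A * r2 - hA * X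
  have r6 : 2 * (A * X) + Z - Y + X + 1 = (0 : R) := by
    linear_combination (norm := (noncomm_ring; try norm_num)) -(r1 * Z) + Y * hZ1 - X * hZ1 + X * r1 + hX1 * Z - hX1 * Y + hX2 - r3
  have r7 : Z + Y + X - 2 * (A) - 1 = (0 : R) := by
    linear_combination (norm := (noncomm_ring; try norm_num)) 4 * (hA * X) - 2 * (A * r6) + 2 * (r3) - 2 * (r2) - r6
  have r8 : 3 * (X * Y) + 3 * (Y) + 3 * (X) - 5 * (A) - 4 = (0 : R) := by
    linear_combination (norm := (noncomm_ring; try norm_num)) -(hZ1) + Z * r7 + hYZ + hXZ + 2 * (hZ2) + r1 + 2 * (X * r7) - 2 * (hX1) + 4 * (hX2) - 2 * (r3) - 3 * (r6) + 2 * (r7)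
  have r9 : 1 = (0 : R) := cancel 2 (by
    linear_combination (norm := (noncomm_ring; try norm_num)) hZ1 - r7 * Z + r1 + 2 * (X * r7) - r8 - 2 * (hX1) + 4 * (hX2) - 2 * (r3) - 3 * (r6) + 2 * (r7))
  linear_combination (norm := (noncomm_ring; try norm_num)) r9

theorem three_e2 [Nontrivial R] {A X Y Z : R} (hA : A * A + A + 1 = 0) (hX1 : X * X + 1 = 0) (hX2 : X * A + A * X + X + 1 = 0) (hY1 : Y * Y + 1 = 0) (hY2 : Y * A + A * Y + Y + 1 = 0) (hZ1 : Z * Z + 1 = 0) (hZ2 : Z * A + A * Z + Z + 1 = 0) (hXY : -(X * Y + Y * X) = 1) (hXZ : -(X * Z + Z * X) = 1) (hYZ : -(Y * Z + Z * Y) = 1) (hE : Z * (X * Y) * (-Z) = -1 - A) :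
    False := by
  refine one_ne_zero (α := R) ?_
  have r1 : Y * Z - X * Z + X * Y + A + 1 = (0 : R) := by
    linear_combination (norm := (noncomm_ring; try norm_num)) -(hXZ * Y * Z) + hE + X * hYZ * Z + X * Y * hZ1
  have r2 : A * Y - A * X + Z - X = (0 : R) := by
    linear_combination (norm := (noncomm_ring; try norm_num)) hY1 * Z - Y * r1 + hXY * Z - hXY * Y + X * r1 - X * hY1 + hX1 * Z - hX1 * Y + hY2 - hX2
  have r3 : A * Z - A * X + Z - Y = (0 : R) := by
    linear_combination (norm := (noncomm_ring; try norm_num)) -(hA * Y) + A * r2 + hA * X + r2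
  have r6 : 2 * (A * X) - Z + Y + X + 1 = (0 : R) := by
    linear_combination (norm := (noncomm_ring; try norm_num)) r1 * Z - Y * hZ1 + X * hZ1 - X * r1 - hX1 * Z + hX1 * Y + hX2 - r3
  have r7 : Z + Y + X - 2 * (A) - 1 = (0 : R) := by
    linear_combination (norm := (noncomm_ring; try norm_num)) 4 * (hA * X) - 2 * (A * r6) - 2 * (r3) + 2 * (r2) - r6
  have r8 : 3 * (X * Y) - 3 * (Y) - 3 * (X) + 5 * (A) + 1 = (0 : R) := by
    linear_combination (norm := (noncomm_ring; try norm_num)) -(hZ1) + Z * r7 + hYZ + hXZ + 2 * (hZ2) + r1 + 2 * (X * r7) - 2 * (hX1) + 4 * (hX2) - 2 * (r3) - 3 * (r6) - 2 * (r7)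
  have r9 : 1 = (0 : R) := cancel 2 (by
    linear_combination (norm := (noncomm_ring; try norm_num)) hZ1 - r7 * Z + r1 + 2 * (X * r7) - r8 - 2 * (hX1) + 4 * (hX2) - 2 * (r3) - 3 * (r6) - 2 * (r7))
  linear_combination (norm := (noncomm_ring; try norm_num)) r9

theorem three_comm {A X Y Z : R} (hX1 : X * X + 1 = 0) (hX2 : X * A + A * X + X + 1 = 0) (hY1 : Y * Y + 1 = 0) (hY2 : Y * A + A * Y + Y + 1 = 0) (hZ1 : Z * Z + 1 = 0) (hZ2 : Z * A + A * Z + Z + 1 = 0) (hXZ : -(X * Z + Z * X) = 1) (hYZ : -(Y * Z + Z * Y) = 1) :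
    Z * (X * Y) * (-Z) * A = A * (Z * (X * Y) * (-Z)) := by
  linear_combination (norm := (noncomm_ring; try norm_num)) -(Z * X * Y * hZ2) + Z * X * hY2 * Z - Z * hX2 * Y * Z + hZ2 * X * Y * Z - hYZ * Z + hXZ * Z - hXZ * Y - Y * hZ1 + X * hZ1 + X * hYZ

theorem partner_cube {X Y : R} (hX1 : X * X + 1 = 0) (hY1 : Y * Y + 1 = 0) (hXY : -(X * Y + Y * X) = 1) :
    X * Y * (X * Y) + X * Y + 1 = 0 := by
  linear_combination (norm := (noncomm_ring; try norm_num)) -(X * hXY * Y) - hX1 * Y * Y + hY1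

theorem same_orbit2 [Nontrivial R] {A X Y : R} (hA : A * A + A + 1 = 0) (hX1 : X * X + 1 = 0) (hX2 : X * A + A * X + X + 1 = 0) (hY1 : Y * Y + 1 = 0) (hY2 : Y * A + A * Y + Y + 1 = 0) (hXY : -(X * Y + Y * X) = 1) (h2 : -(X * (A * Y * (-1 - A)) + (A * Y * (-1 - A)) * X) = 1) :
    False := by
  refine one_ne_zero (α := R) ?_
  have r1 : 2 * (A * X * Y) + X * Y + Y - X + A + 1 = (0 : R) := by
    linear_combination (norm := (noncomm_ring; try norm_num)) hX2 * Y * A - h2 + A * hY2 * X - A * X * hY2 + A * hX2 * Y - hA * Y * X - hA * X * Y - X * hY2 + 2 * (hX2 * Y) - A * hXY - hXY - hY2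
  have r2 : 3 * (X * Y) - 2 * (A * Y) + 2 * (A * X) - Y + X - A + 1 = (0 : R) := by
    linear_combination (norm := (noncomm_ring; try norm_num)) 4 * (hA * X * Y) - 2 * (A * r1) - r1 + 2 * (hA)
  have r3 : A * X - 2 * (Y) + X + A + 1 = (0 : R) := by
    linear_combination (norm := (noncomm_ring; try norm_num)) -(3 * (hX1 * Y)) + X * r2 + 2 * (hX2 * Y) - 2 * (hX2 * X) - r1 + 2 * (A * hX1) + hX1 + hX2
  have r4 : 2 * (A * Y) + X + 1 = (0 : R) := by
    linear_combination (norm := (noncomm_ring; try norm_num)) hA * X - A * r3 + hA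
  have r5 : 1 = (0 : R) := cancel 6 (by
    linear_combination (norm := (noncomm_ring; try norm_num)) -(6 * (hY2 * X)) + 6 * (Y * r3) - 6 * (A * hXY) - 3 * (r1) + 12 * (hY1) - 6 * (hY2) + r2 + 4 * (r4) - 2 * (r3))
  linear_combination (norm := (noncomm_ring; try norm_num)) r5

theorem same_orbit3 [Nontrivial R] {A X Y : R} (hA : A * A + A + 1 = 0) (hX1 : X * X + 1 = 0) (hX2 : X * A + A * X + X + 1 = 0) (hY1 : Y * Y + 1 = 0) (hY2 : Y * A + A * Y + Y + 1 = 0) (hXY : -(X * Y + Y * X) = 1) (h3 : -(X * ((-1 - A) * Y * A) + ((-1 - A) * Y * A) * X) = 1) :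
    False := by
  refine one_ne_zero (α := R) ?_
  have r1 : 2 * (A * X * Y) + X * Y + Y - X + A = (0 : R) := by
    linear_combination (norm := (noncomm_ring; try norm_num)) -(hX2 * Y * A) + h3 - A * hY2 * X + A * X * hY2 - A * hX2 * Y + hA * Y * X + hA * X * Y - hY2 * X - A * hXY + hY2
  have r2 : 3 * (X * Y) - 2 * (A * Y) + 2 * (A * X) - Y + X + A + 2 = (0 : R) := by
    linear_combination (norm := (noncomm_ring; try norm_num)) 4 * (hA * X * Y) - 2 * (A * r1) - r1 + 2 * (hA)
  have r3 : A * X + 2 * (Y) - A = (0 : R) := by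
    linear_combination (norm := (noncomm_ring; try norm_num)) 3 * (hX1 * Y) - X * r2 - 2 * (hX2 * Y) + 2 * (hX2 * X) + r1 - 2 * (A * hX1) - hX1 + hX2
  have r4 : 2 * (A * Y) + 2 * (Y) - X + 1 = (0 : R) := by
    linear_combination (norm := (noncomm_ring; try norm_num)) -(hA * X) + A * r3 + r3 + hA
  have r5 : 1 = (0 : R) := cancel 6 (by
    linear_combination (norm := (noncomm_ring; try norm_num)) 6 * (hY2 * X) - 6 * (Y * r3) + 6 * (A * hXY) + 3 * (r1) + 12 * (hY1) + 6 * (hXY) - 6 * (hY2) + r2 + 4 * (r4) - 2 * (r3))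
  linear_combination (norm := (noncomm_ring; try norm_num)) r5

theorem of_tr_zero1 {A B : R} (hA : A * A + A + 1 = 0) (hB : B * B + B + 1 = 0) (h : A * B + (-1 - B) * (-1 - A) = 0) :
    (-1 - B) * (-1 - A) * ((-1 - B) * (-1 - A)) + 1 = 0 := by
  linear_combination (norm := (noncomm_ring; try norm_num)) h * B * A - A * hB * A + h * B + B * hA - A * hB + A * h - hA * B + h + hA

theorem of_tr_zero2 {A B : R} (hA : A * A + A + 1 = 0) (hB : B * B + B + 1 = 0) (h : A * B + (-1 - B) * (-1 - A) = 0) :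
    (-1 - B) * (-1 - A) * A + A * ((-1 - B) * (-1 - A)) + (-1 - B) * (-1 - A) + 1 = 0 := by
  linear_combination (norm := (noncomm_ring; try norm_num)) B * hA + A * h - hA * B + h + hA

theorem nbr_cube {A X : R} (hA : A * A + A + 1 = 0) (hX1 : X * X + 1 = 0) (hX2 : X * A + A * X + X + 1 = 0) :
    (-1 - A) * (-X) * ((-1 - A) * (-X)) + (-1 - A) * (-X) + 1 = 0 := by
  linear_combination (norm := (noncomm_ring; try norm_num)) A * hX2 * X - hA * X * X + hX2 * X + hX1

theorem tr_comm_of_phi {A B : R} (hA : A * A + A + 1 = 0) (hB : B * B + B + 1 = 0) (h : (-A - B - A * B - B * A) * (-A - B - A * B - B * A) = (-A - B - A * B - B * A) + 1) :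
    A * (B * A * (-1 - B)) + B * (-1 - A) * (-1 - B) * (-1 - A) = 0 := by
  linear_combination (norm := (noncomm_ring; try norm_num)) -(h) + B * hA * B + A * hB * A + A * hB + hA * B - hB

theorem partner_of_phi {A B : R} (hA : A * A + A + 1 = 0) (hB : B * B + B + 1 = 0) (h : (-A - B - A * B - B * A) * (-A - B - A * B - B * A) = (-A - B - A * B - B * A) + 1) :
    B * (-1 - A) * (-1 - B) * ((-1 - B) * A * B) + (-1 - B) * (-1 - A) * B * (B * A * (-1 - B)) = 1 := by
  linear_combination (norm := (noncomm_ring; try norm_num)) -(2 * (B * A * hB * A * B)) - 2 * (hB * B * A * B) - B * A * hB * A - A * hB * A * B - hB * B * A - hB * A * B + h - 2 * (A * hB * A) - hB * A - A * hB - hB + hA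

theorem partner_inverts {A X Y : R} (hA : A * A + A + 1 = 0) (hX1 : X * X + 1 = 0) (hX2 : X * A + A * X + X + 1 = 0) (hY1 : Y * Y + 1 = 0) (hY2 : Y * A + A * Y + Y + 1 = 0) (hXY : -(X * Y + Y * X) = 1) :
    X * Y * (-X) * A * (X * (-Y) * (-X)) = -1 - A := by
  linear_combination (norm := (noncomm_ring; try norm_num)) -(X * Y * hX2 * X * Y * X) + X * Y * A * hX1 * Y * X + X * Y * hX1 * Y * X - X * hXY * Y * X - X * hY2 * Y * X - hX1 * Y * Y * X + hX2 * Y * Y * X - A * X * hY1 * X - X * hY1 * X + A * hX1 + hX1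

theorem c_orbit2 {A X : R} (hA : A * A + A + 1 = 0) (hX1 : X * X + 1 = 0) (hX2 : X * A + A * X + X + 1 = 0) :
    -(X * (A * X * (-1 - A)) + (A * X * (-1 - A)) * X) = 0 := by
  linear_combination (norm := (noncomm_ring; try norm_num)) hX2 * X * A - A * hX1 * A + A * hX2 * X - hA * X * X - hX1 * A + hX2 * X - hX2 + hA

theorem c_orbit3 {A X : R} (hA : A * A + A + 1 = 0) (hX1 : X * X + 1 = 0) (hX2 : X * A + A * X + X + 1 = 0) :
    -(X * ((-1 - A) * X * A) + ((-1 - A) * X * A) * X) = 0 := by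
  linear_combination (norm := (noncomm_ring; try norm_num)) hX2 * X * A - A * hX1 * A + A * hX2 * X - hA * X * X + hX2 * X - A * hX1 - hX2 + hA

theorem quat_jj {A X : R} (hA : A * A + A + 1 = 0) (hX1 : X * X + 1 = 0) (hX2 : X * A + A * X + X + 1 = 0) :
    ((-1 - A) * X * A) * ((-1 - A) * X * A) = -1 := by
  linear_combination (norm := (noncomm_ring; try norm_num)) A * X * hA * X * A + X * hA * X * A - A * hX1 * A - hX1 * A + hA

theorem quat_ij {A X : R} (hA : A * A + A + 1 = 0) (hX1 : X * X + 1 = 0) (hX2 : X * A + A * X + X + 1 = 0) :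
    X * ((-1 - A) * X * A) = (A * X * (-1 - A)) := by
  linear_combination (norm := (noncomm_ring; try norm_num)) -(hX2 * X * A) + A * hX1 * A + A * hX2 - hA * X + hX2 - hA

theorem quat_ji {A X : R} (hA : A * A + A + 1 = 0) (hX1 : X * X + 1 = 0) (hX2 : X * A + A * X + X + 1 = 0) :
    ((-1 - A) * X * A) * X = -(A * X * (-1 - A)) := by
  linear_combination (norm := (noncomm_ring; try norm_num)) -(A * hX2 * X) + hA * X * X - hX2 * X + A * hX1 - A * hX2 + hA * X

theorem quat_a {A X : R} (hA : A * A + A + 1 = 0) (hX1 : X * X + 1 = 0) (hX2 : X * A + A * X + X + 1 = 0) :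
    2 * A = -1 + X + ((-1 - A) * X * A) + (A * X * (-1 - A)) := by
  linear_combination (norm := (noncomm_ring; try norm_num)) 2 * (A * hX2) - 2 * (hA * X) + hX2

theorem phi_sq {A X Y : R} (hA : A * A + A + 1 = 0) (hX1 : X * X + 1 = 0) (hX2 : X * A + A * X + X + 1 = 0) (hY1 : Y * Y + 1 = 0) (hY2 : Y * A + A * Y + Y + 1 = 0) (hXY : -(X * Y + Y * X) = 1) :
    (-(X * (A * Y * (-1 - A)) + (A * Y * (-1 - A)) * X)) * (-(X * (A * Y * (-1 - A)) + (A * Y * (-1 - A)) * X)) = (-(X * (A * Y * (-1 - A)) + (A * Y * (-1 - A)) * X)) + 1 := by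
  linear_combination (norm := (noncomm_ring; try norm_num)) hX2 * Y * A * X * A * Y * A + X * A * Y * hA * Y * A * X + A * Y * A * hX1 * A * Y * A + A * Y * A * hX2 * Y * A * X - A * Y * hA * X * Y * A * X - A * X * Y * A * hX2 * Y * A + A * X * Y * hA * X * Y * A - X * Y * A * hX2 * Y * A + X * Y * hA * X * Y * A + hX2 * Y * X * A * Y * A + hX2 * Y * A * X * A * Y + X * A * Y * hA * Y * X + A * Y * hX1 * A * Y * A + A * Y * hX2 * Y * A * X - A * hY2 * X * Y * A * X + A * Y * A * hX1 * A * Y + A * Y * A * hX2 * Y * X - A * Y * hA * X * Y * X - A * X * Y * hX2 * Y * A + A * X * hY2 * X * Y * A - A * X * Y * A * hX2 * Y + A * X * Y * hA * X * Y - A * hX2 * Y * X * Y * A + hA * Y * X * Y * A * X + hA * X * Y * X * Y * A - Y * A * hX2 * Y * A + Y * hA * X * Y * A - X * Y * hX2 * Y * A + X * hY2 * X * Y * A - X * Y * A * hX2 * Y + X * Y * hA * X * Y - hX2 * Y * Y * A * X - hX2 * Y * X * Y * A + hX2 * Y * X * A * Y + A * Y * hX1 * A * Y + A * Y * hX2 * Y * X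 - A * hY2 * Y * A * X - A * hY2 * X * Y * X - A * Y * hA * Y * A + A * X * hY1 * A * X - A * X * Y * hX2 * Y + A * X * hY2 * Y * A + A * X * hY2 * X * Y - A * hX2 * Y * Y * A - A * hX2 * Y * X * Y + hA * Y * Y * A * X + hA * Y * X * Y * X + hA * X * Y * Y * A + hA * X * Y * X * Y - Y * X * hY2 * X + Y * hX2 * Y * X - Y * hX2 * Y * A - hY2 * X * Y * X + hY2 * X * Y * A - Y * A * hX2 * Y + Y * hA * X * Y + X * hY1 * A * X - X * Y * X * hY2 + X * hY2 * Y * A - hX2 * Y * Y * X - hX2 * Y * Y * A - A * hY1 * A * X - A * hXY * Y * X - A * hY2 * Y * X - A * Y * hA * Y + A * X * hY1 * A + A * X * hXY * Y + A * X * hY2 * Y + A * X * hY2 * X + A * hX1 * Y * Y - A * hX1 * Y * A - A * hX2 * Y * Y - A * hX2 * Y * X + hA * Y * Y * X + hA * X * Y * Y + hA * X * Y * X - Y * hX2 * Y + hY2 * Y * A + hY2 * X * Y + X * hY1 * X + X * hXY * Y + X * hY2 * Y + hX1 * Y * Y - hX1 * Y * A - hX2 * Y * Y - hX2 * Y * A - A * hY1 * X + A * hY1 * A + A * X * hY1 - A * hX1 * Y - A * hX2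 * X + hA * X * X - hY1 * X + hY1 * A + hXY * Y + Y * hX1 + hY2 * Y - X * hXY - X * hY2 - hX1 * Y - hX2 * X + A * hY2 - A * hX2 - hA * Y + 2 * (hA * X) + hY2 - hX1 - hA

theorem phi_comm_a {A X Y : R} (hA : A * A + A + 1 = 0) (hX1 : X * X + 1 = 0) (hX2 : X * A + A * X + X + 1 = 0) (hY1 : Y * Y + 1 = 0) (hY2 : Y * A + A * Y + Y + 1 = 0) :
    (-(X * (A * Y * (-1 - A)) + (A * Y * (-1 - A)) * X)) * A = A * (-(X * (A * Y * (-1 - A)) + (A * Y * (-1 - A)) * X)) := by
  linear_combination (norm := (noncomm_ring; try norm_num)) X * A * Y * hA + A * Y * A * hX2 - A * Y * hA * X - A * hX2 * Y * A - hA * Y * A * X + hA * X * Y * A + A * Y * hX2 - A * hX2 * Y - hA * Y * X + hA * X * Y + hY2 * X - X * hY2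

theorem phi_comm_x {A X Y : R} (hX1 : X * X + 1 = 0) :
    (-(X * (A * Y * (-1 - A)) + (A * Y * (-1 - A)) * X)) * X = X * (-(X * (A * Y * (-1 - A)) + (A * Y * (-1 - A)) * X)) := by
  linear_combination (norm := (noncomm_ring; try norm_num)) -(hX1 * A * Y * A) + A * Y * A * hX1 - hX1 * A * Y + A * Y * hX1

theorem quat_y {A X Y : R} (hA : A * A + A + 1 = 0) (hX1 : X * X + 1 = 0) (hX2 : X * A + A * X + X + 1 = 0) (hY1 : Y * Y + 1 = 0) (hY2 : Y * A + A * Y + Y + 1 = 0) (hXY : -(X * Y + Y * X) = 1) :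
    2 * Y = X + (-(X * (A * Y * (-1 - A)) + (A * Y * (-1 - A)) * X)) * ((-1 - A) * X * A) + (1 - (-(X * (A * Y * (-1 - A)) + (A * Y * (-1 - A)) * X))) * (A * X * (-1 - A)) := by
  linear_combination (norm := (noncomm_ring; try norm_num)) hX2 * Y * A * X * A - X * A * Y * hA * X + A * Y * A * hX1 * A - A * Y * A * hX2 * X + A * Y * hA * X * X - A * X * Y * A * hX2 + A * X * Y * hA * X - X * Y * A * hX2 + X * Y * hA * X + hX2 * Y * X * A + A * Y * hX1 * A - A * Y * hX2 * X + A * Y * A * hX1 - A * X * Y * hX2 + A * X * hY2 * X - A * hX2 * Y * X + hA * X * Y * X - Y * A * hX2 + Y * hA * X - X * Y * hX2 + X * hY2 * X + A * hY2 * X - A * Y * hA + A * X * hXY + A * X * hY2 + A * hX1 * Y - A * hX2 * Y - hA * Y * X + hA * X * Y - Y * hX2 + hY2 * X + 2 * (X * hXY) + X * hY2 + 2 * (hX1 * Y) - hX2 * Y - A * hXY - A * hY2 - A * hX1 + A * hX2 + hA * Y - hA * X + hY2 - hX1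

theorem tri_cases [Nontrivial R] {c d e : R} (h1 : c = -1 ∨ c = 0 ∨ c * c = c + 1)
    (h2 : d = -1 ∨ d = 0 ∨ d * d = d + 1) (h3 : e = -1 ∨ e = 0 ∨ e * e = e + 1)
    (hs : c + d + e = 2) (hq : c * c + d * d + e * e = 4) : False := by
  refine one_ne_zero (α := R) ?_
  rcases h1 with h1 | h1 | h1 <;> rcases h2 with h2 | h2 | h2 <;> rcases h3 with h3 | h3 | h3
  · have r1 : 1 = (0 : R) := cancel 5 (by
      linear_combination (norm := (noncomm_ring; try norm_num)) h3 - hs + h2 + h1)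
    linear_combination (norm := (noncomm_ring; try norm_num)) r1
  · have r1 : 1 = (0 : R) := cancel 4 (by
      linear_combination (norm := (noncomm_ring; try norm_num)) h3 - hs + h2 + h1)
    linear_combination (norm := (noncomm_ring; try norm_num)) r1
  · have r1 : 1 = (0 : R) := cancel 11 (by
      linear_combination (norm := (noncomm_ring; try norm_num)) h3 - e * hs + e * h2 + e * h1 - 3 * (hs) + 3 * (h2) + 3 * (h1))
    linear_combination (norm := (noncomm_ring; try norm_num)) r1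
  · have r1 : 1 = (0 : R) := cancel 4 (by
      linear_combination (norm := (noncomm_ring; try norm_num)) h3 - hs + h2 + h1)
    linear_combination (norm := (noncomm_ring; try norm_num)) r1
  · have r1 : 1 = (0 : R) := cancel 3 (by
      linear_combination (norm := (noncomm_ring; try norm_num)) h3 - hs + h2 + h1)
    linear_combination (norm := (noncomm_ring; try norm_num)) r1
  · have r1 : 1 = (0 : R) := cancel 5 (by
      linear_combination (norm := (noncomm_ring; try norm_num)) h3 - e * hs + e * h2 + e * h1 - 2 * (hs) + 2 * (h2) + 2 * (h1))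
    linear_combination (norm := (noncomm_ring; try norm_num)) r1
  · have r1 : d - 4 = (0 : R) := by
      linear_combination (norm := (noncomm_ring; try norm_num)) -(h3) + hs - h1
    have r2 : 1 = (0 : R) := cancel 11 (by
      linear_combination (norm := (noncomm_ring; try norm_num)) h2 - d * r1 - 3 * (r1))
    linear_combination (norm := (noncomm_ring; try norm_num)) r2
  · have r1 : d - 3 = (0 : R) := by
      linear_combination (norm := (noncomm_ring; try norm_num)) -(h3) + hs - h1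
    have r2 : 1 = (0 : R) := cancel 5 (by
      linear_combination (norm := (noncomm_ring; try norm_num)) h2 - d * r1 - 2 * (r1))
    linear_combination (norm := (noncomm_ring; try norm_num)) r2
  · have r1 : 2 * (d) - 3 = (0 : R) := cancel 2 (by
      linear_combination (norm := (noncomm_ring; try norm_num)) -(h3) + e * hs - hs * d - e * h1 + h2 + h1 * d + 2 * (hs) - 2 * (h1))
    have r2 : 1 = (0 : R) := by
      linear_combination (norm := (noncomm_ring; try norm_num)) -(4 * (h2)) + 2 * (d * r1) + r1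
    linear_combination (norm := (noncomm_ring; try norm_num)) r2
  · have r1 : 1 = (0 : R) := cancel 4 (by
      linear_combination (norm := (noncomm_ring; try norm_num)) h3 - hs + h2 + h1)
    linear_combination (norm := (noncomm_ring; try norm_num)) r1
  · have r1 : 1 = (0 : R) := cancel 3 (by
      linear_combination (norm := (noncomm_ring; try norm_num)) h3 - hs + h2 + h1)
    linear_combination (norm := (noncomm_ring; try norm_num)) r1
  · have r1 : 1 = (0 : R) := cancel 5 (by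
      linear_combination (norm := (noncomm_ring; try norm_num)) h3 - e * hs + e * h2 + e * h1 - 2 * (hs) + 2 * (h2) + 2 * (h1))
    linear_combination (norm := (noncomm_ring; try norm_num)) r1
  · have r1 : 1 = (0 : R) := cancel 3 (by
      linear_combination (norm := (noncomm_ring; try norm_num)) h3 - hs + h2 + h1)
    linear_combination (norm := (noncomm_ring; try norm_num)) r1
  · have r1 : 1 = (0 : R) := cancel 2 (by
      linear_combination (norm := (noncomm_ring; try norm_num)) h3 - hs + h2 + h1)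
    linear_combination (norm := (noncomm_ring; try norm_num)) r1
  · have r1 : 1 = (0 : R) := by
      linear_combination (norm := (noncomm_ring; try norm_num)) h3 - e * hs + e * h2 + e * h1 - hs + h2 + h1
    linear_combination (norm := (noncomm_ring; try norm_num)) r1
  · have r1 : d - 3 = (0 : R) := by
      linear_combination (norm := (noncomm_ring; try norm_num)) -(h3) + hs - h1
    have r2 : 1 = (0 : R) := cancel 5 (by
      linear_combination (norm := (noncomm_ring; try norm_num)) h2 - d * r1 - 2 * (r1))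
    linear_combination (norm := (noncomm_ring; try norm_num)) r2
  · have r1 : d - 2 = (0 : R) := by
      linear_combination (norm := (noncomm_ring; try norm_num)) -(h3) + hs - h1
    have r2 : 1 = (0 : R) := by
      linear_combination (norm := (noncomm_ring; try norm_num)) h2 - d * r1 - r1
    linear_combination (norm := (noncomm_ring; try norm_num)) r2
  · have r1 : d - 1 = (0 : R) := cancel 2 (by
      linear_combination (norm := (noncomm_ring; try norm_num)) -(h3) + e * hs - hs * d - e * h1 + h2 + h1 * d + hs - h1)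
    have r2 : 1 = (0 : R) := by
      linear_combination (norm := (noncomm_ring; try norm_num)) -(h2) + d * r1
    linear_combination (norm := (noncomm_ring; try norm_num)) r2
  · have r1 : c - 4 = (0 : R) := by
      linear_combination (norm := (noncomm_ring; try norm_num)) -(h3) + hs - h2
    have r2 : 1 = (0 : R) := cancel 11 (by
      linear_combination (norm := (noncomm_ring; try norm_num)) h1 - c * r1 - 3 * (r1))
    linear_combination (norm := (noncomm_ring; try norm_num)) r2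
  · have r1 : c - 3 = (0 : R) := by
      linear_combination (norm := (noncomm_ring; try norm_num)) -(h3) + hs - h2
    have r2 : 1 = (0 : R) := cancel 5 (by
      linear_combination (norm := (noncomm_ring; try norm_num)) h1 - c * r1 - 2 * (r1))
    linear_combination (norm := (noncomm_ring; try norm_num)) r2
  · have r1 : 2 * (c) - 3 = (0 : R) := cancel 2 (by
      linear_combination (norm := (noncomm_ring; try norm_num)) -(h3) + e * hs - e * h2 - hs * c + h2 * c + h1 + 2 * (hs) - 2 * (h2))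
    have r2 : 1 = (0 : R) := by
      linear_combination (norm := (noncomm_ring; try norm_num)) -(4 * (h1)) + 2 * (c * r1) + r1
    linear_combination (norm := (noncomm_ring; try norm_num)) r2
  · have r1 : c - 3 = (0 : R) := by
      linear_combination (norm := (noncomm_ring; try norm_num)) -(h3) + hs - h2
    have r2 : 1 = (0 : R) := cancel 5 (by
      linear_combination (norm := (noncomm_ring; try norm_num)) h1 - c * r1 - 2 * (r1))
    linear_combination (norm := (noncomm_ring; try norm_num)) r2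
  · have r1 : c - 2 = (0 : R) := by
      linear_combination (norm := (noncomm_ring; try norm_num)) -(h3) + hs - h2
    have r2 : 1 = (0 : R) := by
      linear_combination (norm := (noncomm_ring; try norm_num)) h1 - c * r1 - r1
    linear_combination (norm := (noncomm_ring; try norm_num)) r2
  · have r1 : c - 1 = (0 : R) := cancel 2 (by
      linear_combination (norm := (noncomm_ring; try norm_num)) -(h3) + e * hs - e * h2 - hs * c + h2 * c + h1 + hs - h2)
    have r2 : 1 = (0 : R) := by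
      linear_combination (norm := (noncomm_ring; try norm_num)) -(h1) + c * r1
    linear_combination (norm := (noncomm_ring; try norm_num)) r2
  · have r1 : d + c - 3 = (0 : R) := by
      linear_combination (norm := (noncomm_ring; try norm_num)) -(h3) + hs
    have r2 : 2 * (c) - 3 = (0 : R) := cancel 2 (by
      linear_combination (norm := (noncomm_ring; try norm_num)) -(h2) + d * r1 - r1 * c + h1 + 2 * (r1))
    have r3 : 1 = (0 : R) := by
      linear_combination (norm := (noncomm_ring; try norm_num)) -(4 * (h1)) + 2 * (c * r2) + r2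
    linear_combination (norm := (noncomm_ring; try norm_num)) r3
  · have r1 : d + c - 2 = (0 : R) := by
      linear_combination (norm := (noncomm_ring; try norm_num)) -(h3) + hs
    have r2 : c - 1 = (0 : R) := cancel 2 (by
      linear_combination (norm := (noncomm_ring; try norm_num)) -(h2) + d * r1 - r1 * c + h1 + r1)
    have r3 : 1 = (0 : R) := by
      linear_combination (norm := (noncomm_ring; try norm_num)) -(h1) + c * r2
    linear_combination (norm := (noncomm_ring; try norm_num)) r3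
  · have r2 : 1 = (0 : R) := by
      linear_combination (norm := (noncomm_ring; try norm_num)) -(h3) + hq - h2 - h1 - hs
    linear_combination (norm := (noncomm_ring; try norm_num)) r2

end CL.FPF.NC
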