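import Cfsg.Agent.Base
import Cfsg.Agent.Perm.FPFRing

/-!
# The icosians: a homomorphism from `SL(2,5)` into any ring with quaternion units and a golden ratio
-/

set_option autoImplicit false

namespace CL.FPF.Ico

open MatrixGroups Quaternion

/-- Table of the 120 icosians (in units of `1/4`), indexed by their reductions modulo `√5`. -/
def tbl : ℕ :=
  0x8688797700000000000000000000000000000000000000008a8a8a8a000000000000000000000000000000000000000079778688000000000000000000000000000000000000000088999786978688990000000000000000000000000000000000000000000000008a868a8a0000000000000000000000000000000000000000000000007988778600000000888a9997000000000000000000000000000000000000000000000000977786880000000086998879000000000000000000000000000000000000000000000000000000007999868800000000000000008886999700000000000000000000000000000000000000000000000000000000978877860000000000000000868a8a8a00000000000000008a7788790000000000000000000000000000000000000000000000000000000000000000887797860000000000000000000000009799868800000000000000000000000086868a8a0000000000000000000000008a887977000000000000000000000000798a889900000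000000000000000000000000000978a88990000000000000000000000000000000086778879000000000000000000000000000000008a998879000000000000000000000000000000007986889900000000000000000000000000000000888888840000000000000000000000000000000086889777000000000000000000000000000000000000000000000000000000008a8a8a8600000000000000009997888a000000000000000000000000000000000000000000000000000000008879869900000000000000007786798800000000000000000000000000000000000000008a868a86000000000000000000000000000000000000000099888679888a779700000000000000000000000000000000000000007797888a0000000000000000000000000000000000000000867999880000000000000000000000009979888a00000000000000000000000088867797000000000000000000000000000000000000000000000000000000000000000077888679000000000000000000000000868a8a860000000000000000000000008a97998800000000000000000000000000000000000000000000000088978699000000007779888a00000000000000000000000000000000000000000000000086868a86000000008a889777000000000000000000000000000000000000000000000000998a798800000000000000000000000000000000778a79880000000000000000000000000000000086979988000000000000000000000000000000008a7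9998800000000000000000000000000000000998679880000000000000000000000000000000088888488000000000000000000000000000000000000000086887999000000008a8a868a0000000000000000000000000000000000000000000000009997888600000000000000000000000000000000000000000000000088798a7700000000778697880000000000000000000000008a86868a000000000000000000000000000000000000000000000000000000000000000099888a97000000000000000000000000888a99790000000000000000000000007797888600000000000000000000000086797788000000000000000000000000000000000000000099798886000000000000000000000000000000000000000088869979000000000000000000000000000000000000000077888a97868a868a00000000000000000000000000000000000000008a9777880000000000000000000000000000000000000000000000000000000088978a7700000000000000007779888600000000000000008686868a000000000000000000000000000000000000000000000000000000008a8879990000000000000000998a978800000000000000000000000000000000778a97880000000000000000000000000000000086977788000000000000000000000000000000008a79778800000000000000000000000000000000998697880000000000000000000000000000000088888c880000000000000000000000000000000000000000868897990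000000000000000000000008a8a868600000000000000000000000079778a8800000000000000000000000000000000000000000000000000000000000000008899798a0000000000000000000000009786887700000000000000008a868686000000000000000000000000000000000000000000000000000000007988998a0000000000000000888a7779000000000000000097778a8800000000000000000000000000000000000000000000000000000000869988970000000079998a88000000000000000000000000000000000000000000000000888677790000000000000000000000000000000000000000000000009788998a00000000868a86860000000000000000000000000000000000000000000000008a77889700000000000000000000000000000000000000008877798a97998a8800000000000000000000000000000000000000008686868600000000000000000000000000000000000000008a8897990000000000000000000000000000000000000000798a887700000000000000000000000000000000978a88770000000000000000000000000000000086778897000000000000000000000000000000008a9988970000000000000000000000000000000079868877000000000000000000000000000000008888888c000000000000000000000000000000000000000000000000000000000000000000000000000000000000000000000000000000000000000000000000000000008899798688798a99887986778899978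a88848888000000000000000000000000000000000000000000000000000000000000000000000000000000007988998699888a79998886977988778a84888888000000000000000000000000000000000000000000000000000000000000000000000000000000000000000000000000000000000000000000000000000000000000000000000000000000000000000000000000000000000000000000000000000000009788998677888a79778886979788778a8c888888000000000000000000000000000000000000000000000000000000000000000000000000000000008877798688978a99889786778877978a888c8888000000000000000000000000000000000000000000000000000000000000000000000000000000000000000000000000000000000000000000000000000000000000000000000000000000000000000000000000000000000000000000000000000000000000000000000000000000000000000000000000000000000000000000000000000000000000000000000000000000000000000000000000000000000000000000000000000000000000000000000000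

/-- One digit of the table. -/
def dig (i k : ℕ) : ℤ := (((tbl >>> (4 * (8 * i + k))) % 16 : ℕ) : ℤ) - 8

/-- Four times the icosian reducing to the matrix `!![a, b; c, d]`. -/
def ico (a b c d : ZMod 5) : ℍ[ℤ√5,-1,0,-1] :=
  let i := a.val * 125 + b.val * 25 + c.val * 5 + d.val
  ⟨⟨dig i 0, dig i 1⟩, ⟨dig i 2, dig i 3⟩, ⟨dig i 4, dig i 5⟩, ⟨dig i 6, dig i 7⟩⟩

/-- Decidable equality of quaternions over `ℤ√5`. -/
@[reducible] def decEqQuat : DecidableEq ℍ[ℤ√5,-1,0,-1] := fun _ _ =>
  decidable_of_iff _ QuaternionAlgebra.ext_iff.symm

attribute [local instance] decEqQuat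

theorem ico_mul_upper : ∀ a b c d : ZMod 5, a * d - b * c = 1 → ∀ t : ZMod 5,
    ico a b c d * ico 1 t 0 1 = (4 : ℤ√5) • ico a (a * t + b) c (c * t + d) := by
  decide +kernel

theorem ico_mul_lower : ∀ a b c d : ZMod 5, a * d - b * c = 1 → ∀ t : ZMod 5,
    ico a b c d * ico 1 0 t 1 = (4 : ℤ√5) • ico (a + b * t) b (c + d * t) d := by
  decide +kernel

theorem ico_norm : ∀ a b c d : ZMod 5, a * d - b * c = 1 → (a = 1 ∧ b = 0 ∧ c = 0 ∧ d = 1) ∨
    Zsqrtd.norm ((ico a b c d - ico 1 0 0 1) * star (ico a b c d - ico 1 0 0 1)).re ≠ 0 := by
  decide +kernel

theorem ico_one : ico 1 0 0 1 = (4 : ℤ√5) • 1 := by decide +kernel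

/-- The icosian attached to an element of `SL(2,5)`. -/
def icoSL (s : SL(2, ZMod 5)) : ℍ[ℤ√5,-1,0,-1] := ico (s 0 0) (s 0 1) (s 1 0) (s 1 1)

theorem det_eq (s : SL(2, ZMod 5)) : s 0 0 * s 1 1 - s 0 1 * s 1 0 = 1 := by
  have := s.det_coe
  rwa [Matrix.det_fin_two] at this

/-- `5` is prime. -/
theorem fact_five : Fact (Nat.Prime 5) := ⟨by norm_num⟩

attribute [local instance] fact_five

theorem icoSL_mul (s t : SL(2, ZMod 5)) : icoSL s * icoSL t = (4 : ℤ√5) • icoSL (s * t) := by
  have h4 : ∀ x y : ℍ[ℤ√5,-1,0,-1], (4 : ℤ√5) • x = (4 : ℤ√5) • y → x = y := by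
    intro x y h
    have h0 : (4 : ℤ√5) ≠ 0 := by decide
    have : IsDomain (ℤ√5) := Zsqrtd.instIsDomainCastInt (d := 5) (dnsq := ⟨fun n hn => by
      have : n < 3 := by nlinarith
      interval_cases n <;> omega⟩)
    rw [QuaternionAlgebra.ext_iff] at h ⊢
    exact ⟨mul_left_cancel₀ h0 h.1, mul_left_cancel₀ h0 h.2.1, mul_left_cancel₀ h0 h.2.2.1,
      mul_left_cancel₀ h0 h.2.2.2⟩
  revert s
  refine Matrix.SL2.transvection_induction
    (fun t => ∀ s : SL(2, ZMod 5), icoSL s * icoSL t = (4 : ℤ√5) • icoSL (s * t)) ?_ ?_ t
  · intro i j h c s
    fin_cases i <;> fin_cases j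
    · exact absurd rfl h
    · have := ico_mul_upper _ _ _ _ (det_eq s) c
      simpa [icoSL, Matrix.SpecialLinearGroup.transvection_coe, Matrix.mul_apply,
        Fin.sum_univ_two] using this
    · have := ico_mul_lower _ _ _ _ (det_eq s) c
      simpa [icoSL, Matrix.SpecialLinearGroup.transvection_coe, Matrix.mul_apply,
        Fin.sum_univ_two] using this
    · exact absurd rfl h
  · intro A B hA hB s
    apply h4
    rw [← mul_smul_comm, ← hB, ← mul_assoc, hA, smul_mul_assoc, hB, mul_assoc]

/-- The element of order three. -/
def sa : SL(2, ZMod 5) := ⟨!![3, 4; 3, 1], by decide +kernel⟩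
/-- The first element of order four. -/
def sx : SL(2, ZMod 5) := ⟨!![2, 0; 0, 3], by decide +kernel⟩
/-- The second element of order four. -/
def sy : SL(2, ZMod 5) := ⟨!![1, 2; 4, 4], by decide +kernel⟩

theorem icoSL_sa : icoSL sa = ⟨-2, 2, 2, 2⟩ := by decide +kernel
theorem icoSL_sx : icoSL sx = ⟨0, 4, 0, 0⟩ := by decide +kernel
theorem icoSL_sy : icoSL sy = ⟨0, 2, 1 + Zsqrtd.sqrtd, 1 - Zsqrtd.sqrtd⟩ := by decide +kernel

theorem closure_eq_top : Subgroup.closure ({sa, sx, sy} : Set SL(2, ZMod 5)) = ⊤ := by
  rw [eq_top_iff]
  intro A _
  set K := Subgroup.closure ({sa, sx, sy} : Set SL(2, ZMod 5))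
  have ha : sa ∈ K := Subgroup.subset_closure (by simp)
  have hx : sx ∈ K := Subgroup.subset_closure (by simp)
  have hy : sy ∈ K := Subgroup.subset_closure (by simp)
  refine Matrix.SL2.transvection_induction (· ∈ K) ?_ (fun _ _ => K.mul_mem) A
  intro i j h c
  fin_cases i <;> fin_cases j
  · exact absurd rfl h
  · have e : ∀ c : ZMod 5, Matrix.SpecialLinearGroup.transvection (show (0 : Fin 2) ≠ 1 by decide) c
        = (sa * sx * sa * sy * sx) ^ c.val := by decide +kernel
    exact (e c) ▸ K.pow_mem (mul_mem (mul_mem (mul_mem (mul_mem ha hx) ha) hy) hx) _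
  · have e : ∀ c : ZMod 5, Matrix.SpecialLinearGroup.transvection (show (1 : Fin 2) ≠ 0 by decide) c
        = (sx * sa * sy * sa * sa) ^ c.val := by decide +kernel
    exact (e c) ▸ K.pow_mem (mul_mem (mul_mem (mul_mem (mul_mem hx ha) hy) ha) ha) _
  · exact absurd rfl h

theorem exists_hom_aux {A : Type*} [Ring A] [Algebra ℚ A] [Nontrivial A] [Algebra (ℤ√5) A]
    (q : QuaternionAlgebra.Basis A (-1 : ℤ√5) 0 (-1)) :
    ∃ Θ : SL(2, ZMod 5) →* A, (∀ s, Θ s = 1 → s = 1) ∧ ∀ s, 4 * Θ s = q.liftHom (icoSL s) := by
  have h4 : ∀ x : A, (4 : ℤ√5) • x = (4 : ℚ) • x := by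
    intro x
    rw [show (4 : ℤ√5) = ((4 : ℕ) : ℤ√5) from rfl, show (4 : ℚ) = ((4 : ℕ) : ℚ) from rfl,
      Nat.cast_smul_eq_nsmul, Nat.cast_smul_eq_nsmul]
  have h4' : ∀ x : A, 4 * x = (4 : ℚ) • x := by
    intro x
    rw [show (4 : ℚ) = ((4 : ℕ) : ℚ) from rfl, Nat.cast_smul_eq_nsmul, nsmul_eq_mul]
    rfl
  have h1 : icoSL 1 = (4 : ℤ√5) • 1 := ico_one
  let Θ : SL(2, ZMod 5) →* A :=
    { toFun := fun s => (4⁻¹ : ℚ) • q.liftHom (icoSL s)
      map_one' := by rw [h1, map_smul, map_one, h4, smul_smul]; norm_num
      map_mul' := fun s t => by
        rw [smul_mul_smul_comm, ← map_mul, icoSL_mul, map_smul, h4, smul_smul]; norm_num }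
  have hΘ : ∀ s, 4 * Θ s = q.liftHom (icoSL s) := by
    intro s
    change 4 * ((4⁻¹ : ℚ) • q.liftHom (icoSL s)) = _
    rw [h4', smul_smul]; norm_num
  refine ⟨Θ, fun s hs => ?_, hΘ⟩
  rcases ico_norm _ _ _ _ (det_eq s) with ⟨e1, e2, e3, e4⟩ | hn
  · ext i j
    fin_cases i <;> fin_cases j <;> assumption
  · exfalso
    have h0 : q.liftHom (icoSL s - icoSL 1) = 0 := by
      rw [map_sub, ← hΘ, ← hΘ, hs, map_one, sub_self]
    set w : ℍ[ℤ√5,-1,0,-1] := icoSL s - icoSL 1 with hw
    change Zsqrtd.norm (w * star w).re ≠ 0 at hn
    have h2 : q.liftHom (w * star w) = 0 := by rw [map_mul, h0, zero_mul]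
    rw [QuaternionAlgebra.mul_star_eq_coe, ← QuaternionAlgebra.coe_algebraMap,
      AlgHom.commutes] at h2
    have h3 : algebraMap (ℤ√5) A ((w * star w).re * star (w * star w).re) = 0 := by
      rw [map_mul, h2, zero_mul]
    rw [← Zsqrtd.norm_eq_mul_conj, map_intCast] at h3
    have : CharZero A := algebraRat.charZero A
    exact hn (by exact_mod_cast h3)

theorem exists_hom {R : Type*} [Ring R] [Algebra ℚ R] [Nontrivial R] {I J K φ : R}
    (hI : I * I = -1) (hJ : J * J = -1) (hIJ : I * J = K) (hJI : J * I = -K)
    (hφ : φ * φ = φ + 1) (hφI : φ * I = I * φ) (hφJ : φ * J = J * φ) :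
    ∃ Θ : SL(2, ZMod 5) →* R, (∀ s, Θ s = 1 → s = 1) ∧ 2 * Θ sa = -1 + I + J + K ∧ Θ sx = I ∧
      2 * Θ sy = I + φ * J + (1 - φ) * K := by
  let A := Subalgebra.centralizer ℚ ({φ} : Set R)
  have hmem : ∀ x : R, φ * x = x * φ → x ∈ A := by
    intro x hx
    rw [Subalgebra.mem_centralizer_iff]
    rintro _ rfl
    exact hx
  have hφK : φ * K = K * φ := by rw [← hIJ, ← mul_assoc, hφI, mul_assoc, hφJ, mul_assoc]
  let φ' : A := ⟨φ, hmem φ rfl⟩
  have hc : 2 * φ' - 1 ∈ Subring.center A := by
    rw [Subring.mem_center_iff]
    rintro ⟨x, hx⟩
    apply Subtype.ext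
    have := (Subalgebra.mem_centralizer_iff ℚ).mp hx φ rfl
    change x * (2 * φ - 1) = (2 * φ - 1) * x
    linear_combination (norm := noncomm_ring) -(2 * this)
  let f : ℤ√5 →+* Subring.center A := Zsqrtd.lift ⟨⟨_, hc⟩, by
    apply Subtype.ext
    apply Subtype.ext
    change (2 * φ - 1) * (2 * φ - 1) = ((5 : ℤ) : R)
    push_cast
    linear_combination (norm := (noncomm_ring; try norm_num)) 4 * hφ⟩
  let _ : Algebra (ℤ√5) A := ((Subring.center A).subtype.comp f).toAlgebra'
    fun c x => (Subring.mem_center_iff.mp (f c).2 x).symm
  have hs : (algebraMap (ℤ√5) A Zsqrtd.sqrtd : R) = 2 * φ - 1 := by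
    change (((f Zsqrtd.sqrtd : Subring.center A) : A) : R) = _
    simp only [f, Zsqrtd.lift_apply_apply, Zsqrtd.re_sqrtd, Zsqrtd.im_sqrtd, Int.cast_zero,
      Int.cast_one, zero_add, one_mul]
    rfl
  let q : QuaternionAlgebra.Basis A (-1 : ℤ√5) 0 (-1) :=
    { i := ⟨I, hmem I hφI⟩
      j := ⟨J, hmem J hφJ⟩
      k := ⟨K, hmem K hφK⟩
      i_mul_i := by rw [zero_smul, add_zero, neg_smul, one_smul]; exact Subtype.ext hI
      j_mul_j := by rw [neg_smul, one_smul]; exact Subtype.ext hJ
      i_mul_j := Subtype.ext hIJ
      j_mul_i := by rw [zero_smul, zero_sub]; exact Subtype.ext hJI }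
  obtain ⟨Θ, h1, h2⟩ := exists_hom_aux q
  refine ⟨A.val.toMonoidHom.comp Θ, fun s hs => h1 s (Subtype.ext hs), ?_, ?_, ?_⟩
  · have := congrArg Subtype.val (h2 sa)
    rw [icoSL_sa] at this
    simp only [QuaternionAlgebra.Basis.liftHom_apply, QuaternionAlgebra.Basis.lift,
      Algebra.smul_def, map_neg, map_ofNat] at this
    change 4 * (Θ sa : R) = -2 + 2 * I + 2 * J + 2 * K at this
    change 2 * (Θ sa : R) = _
    exact NC.cancel' 2 (by linear_combination (norm := (noncomm_ring; try norm_num)) this)
  · have := congrArg Subtype.val (h2 sx)
    rw [icoSL_sx] at this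
    simp only [QuaternionAlgebra.Basis.liftHom_apply, QuaternionAlgebra.Basis.lift,
      Algebra.smul_def, map_zero, map_ofNat] at this
    change 4 * (Θ sx : R) = 0 + 4 * I + 0 * J + 0 * K at this
    change (Θ sx : R) = _
    exact NC.cancel' 4 (by linear_combination (norm := (noncomm_ring; try norm_num)) this)
  · have := congrArg Subtype.val (h2 sy)
    rw [icoSL_sy] at this
    simp only [QuaternionAlgebra.Basis.liftHom_apply, QuaternionAlgebra.Basis.lift,
      Algebra.smul_def, map_zero, map_ofNat, map_add, map_sub, map_one] at this
    change 4 * (Θ sy : R) = 0 + 2 * I + (1 + (algebraMap (ℤ√5) A Zsqrtd.sqrtd : R)) * J +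
      (1 - (algebraMap (ℤ√5) A Zsqrtd.sqrtd : R)) * K at this
    rw [hs] at this
    change 2 * (Θ sy : R) = _
    exact NC.cancel' 2 (by linear_combination (norm := (noncomm_ring; try norm_num)) this)

end CL.FPF.Ico
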