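import Cfsg.Agent.Base
import Cfsg.Agent.Perm.FPFBasic

/-!
# Pairs of elements of order three in a group with a fixed-point-free representation

For elements `a, b` of order three, `c = a b⁻¹ + b a⁻¹` commutes with `a` and `b`, and
`c ∈ {2, -1, 0, 1}` or `c² = c + 1`.
-/

set_option autoImplicit false

namespace CL.FPF

open Finset

theorem add_inv_eq_two_mul_re {z : ℂ} {N : ℕ} (hN : N ≠ 0) (hz : z ^ N = 1) :
    ∃ r : ℝ, -2 ≤ r ∧ r ≤ 2 ∧ z + z⁻¹ = r := by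
  have h1 : ‖z‖ = 1 := Complex.norm_eq_one_of_pow_eq_one hz hN
  have h2 : |z.re| ≤ 1 := h1 ▸ Complex.abs_re_le_norm z
  rw [abs_le] at h2
  refine ⟨2 * z.re, by linarith, by linarith, ?_⟩
  rw [Complex.inv_eq_conj h1, Complex.add_conj]

theorem roots_of_unity_sum_eq_one {ζ η : ℂ} {N : ℕ} (hN : N ≠ 0) (hζ : ζ ^ N = 1) (hη : η ^ N = 1)
    (h : ζ + ζ⁻¹ + (η + η⁻¹) = 1) :
    ζ + ζ⁻¹ = 2 ∨ ζ + ζ⁻¹ = -1 ∨ ζ + ζ⁻¹ = 0 ∨ ζ + ζ⁻¹ = 1 ∨
      (ζ + ζ⁻¹) * (ζ + ζ⁻¹) = (ζ + ζ⁻¹) + 1 := by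
  have hint : ∀ z : ℂ, z ^ N = 1 → IsIntegral ℚ z := fun z hz =>
    IsIntegral.of_pow (Nat.pos_of_ne_zero hN) (hz ▸ isIntegral_one)
  let K := IntermediateField.adjoin ℚ ({ζ, η} : Set ℂ)
  have : FiniteDimensional ℚ K := IntermediateField.finiteDimensional_adjoin (by
    rintro x (rfl | rfl)
    · exact hint _ hζ
    · exact hint _ hη)
  have : NumberField K := {}
  let z : K := ⟨ζ, IntermediateField.subset_adjoin _ _ (by simp)⟩
  let e : K := ⟨η, IntermediateField.subset_adjoin _ _ (by simp)⟩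
  have hz : z ^ N = 1 := Subtype.ext hζ
  have he : e ^ N = 1 := Subtype.ext hη
  have hze : z + z⁻¹ + (e + e⁻¹) = 1 := Subtype.ext h
  have hzi : IsIntegral ℤ z := IsIntegral.of_pow (Nat.pos_of_ne_zero hN) (hz ▸ isIntegral_one)
  have hzi' : IsIntegral ℤ z⁻¹ :=
    IsIntegral.of_pow (Nat.pos_of_ne_zero hN) (by rw [inv_pow, hz, inv_one]; exact isIntegral_one)
  set g := z + z⁻¹ with hg
  have hgi : IsIntegral ℤ g := hzi.add hzi'
  have hyi : IsIntegral ℤ (g * g - g) := (hgi.mul hgi).sub hgi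
  have hα : IsIntegral ℤ ((g * g - g) * (g * g - g - 1) * (g * g - g - 1 - 1)) :=
    (hyi.mul (hyi.sub isIntegral_one)).mul ((hyi.sub isIntegral_one).sub isIntegral_one)
  have h0 : (g * g - g) * (g * g - g - 1) * (g * g - g - 1 - 1) = 0 := by
    by_contra hne
    obtain ⟨σ, hσ⟩ := NumberField.exists_conjugate_one_le_norm (K := K) (α := ⟨_, hα⟩)
      (fun h0 => hne (congrArg Subtype.val h0))
    obtain ⟨r, hr1, hr2, hr⟩ := add_inv_eq_two_mul_re (z := σ z) hN (by rw [← map_pow, hz, map_one])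
    obtain ⟨s, hs1, hs2, hs⟩ := add_inv_eq_two_mul_re (z := σ e) hN (by rw [← map_pow, he, map_one])
    have hσg : σ g = r := by rw [hg, map_add, map_inv₀, hr]
    have hrs : r + s = 1 := by
      have := congrArg σ hze
      rw [map_add, hσg, map_add, map_inv₀, hs, map_one] at this
      exact_mod_cast this
    have : σ ((g * g - g) * (g * g - g - 1) * (g * g - g - 1 - 1)) =
        (((r * r - r) * (r * r - r - 1) * (r * r - r - 1 - 1) : ℝ) : ℂ) := by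
      simp only [map_mul, map_sub, map_one, hσg]
      push_cast
      ring
    change 1 ≤ ‖σ ((g * g - g) * (g * g - g - 1) * (g * g - g - 1 - 1))‖ at hσ
    rw [this, Complex.norm_real, Real.norm_eq_abs] at hσ
    have hy1 : -1 / 4 ≤ r * r - r := by nlinarith [sq_nonneg (r - 1 / 2)]
    have hy2 : r * r - r ≤ 2 := by nlinarith
    generalize r * r - r = y at hσ hy1 hy2
    rcases le_abs.mp hσ with h1 | h1
    · nlinarith [sq_nonneg (y - 1 / 2), mul_nonneg (sub_nonneg.mpr hy2) (sq_nonneg (y - 1 / 2)),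
        mul_nonneg (sub_nonneg.mpr hy1) (sub_nonneg.mpr hy2)]
    · nlinarith [sq_nonneg (y - 3 / 2), mul_nonneg (sub_nonneg.mpr hy1) (sq_nonneg (y - 3 / 2)),
        mul_nonneg (sub_nonneg.mpr hy1) (sub_nonneg.mpr hy2)]
  have h1 : ((ζ + ζ⁻¹) * (ζ + ζ⁻¹) - (ζ + ζ⁻¹)) * ((ζ + ζ⁻¹) * (ζ + ζ⁻¹) - (ζ + ζ⁻¹) - 1) *
      ((ζ + ζ⁻¹) * (ζ + ζ⁻¹) - (ζ + ζ⁻¹) - 1 - 1) = 0 := congrArg Subtype.val h0
  generalize ζ + ζ⁻¹ = γ at h1 ⊢
  have h2 : (γ - 2) * ((γ + 1) * (γ * ((γ - 1) * (γ * γ - (γ + 1))))) = 0 := by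
    linear_combination h1
  simp only [mul_eq_zero, sub_eq_zero, add_eq_zero_iff_eq_neg] at h2
  exact h2

theorem exists_common_eigenvector {W : Type*} [AddCommGroup W] [Module ℂ W] [FiniteDimensional ℂ W]
    {S T : Module.End ℂ W} (hST : Commute S T) {γ : ℂ} (hγ : S.HasEigenvalue γ) :
    ∃ (v : W) (ζ : ℂ), v ≠ 0 ∧ S v = γ • v ∧ T v = ζ • v := by
  have hmap : ∀ x ∈ S.eigenspace γ, T x ∈ S.eigenspace γ := by
    intro x hx
    rw [Module.End.mem_eigenspace_iff] at hx ⊢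
    rw [← Module.End.mul_apply, hST.eq, Module.End.mul_apply, hx, map_smul]
  have : Nontrivial (S.eigenspace γ) := Submodule.nontrivial_iff_ne_bot.mpr hγ
  obtain ⟨ζ, hζ⟩ := Module.End.exists_eigenvalue (T.restrict hmap)
  obtain ⟨v, hv⟩ := hζ.exists_hasEigenvector
  refine ⟨v, ζ, fun h0 => hv.2 (Subtype.ext h0), Module.End.mem_eigenspace_iff.mp v.2, ?_⟩
  exact congrArg Subtype.val hv.apply_eq_smul

variable {G : Type*} [Group G] {R : Type*} [Ring R]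

/-- The "trace" `g + g⁻¹`. -/
def tr (ρ : G →* R) (g : G) : R := ρ g + ρ g⁻¹

theorem tr_inv (ρ : G →* R) (g : G) : tr ρ g⁻¹ = tr ρ g := by
  rw [tr, tr, inv_inv, add_comm]

theorem map_mul_map_inv (ρ : G →* R) (g : G) : ρ g * ρ g⁻¹ = 1 := by
  rw [← map_mul, mul_inv_cancel, map_one]

theorem map_inv_mul_map (ρ : G →* R) (g : G) : ρ g⁻¹ * ρ g = 1 := by
  rw [← map_mul, inv_mul_cancel, map_one]

theorem tr_conj (ρ : G →* R) (g h : G) : tr ρ (h * g * h⁻¹) = ρ h * tr ρ g * ρ h⁻¹ := by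
  simp only [tr, mul_inv_rev, inv_inv, map_mul, mul_add, add_mul, mul_assoc]

namespace Reg

variable {ρ : G →* R}

theorem inv_cube (h : Reg ρ) {a : G} (ha : a ^ 3 = 1) (ha1 : a ≠ 1) : ρ a⁻¹ = -1 - ρ a := by
  have h1 : a⁻¹ = a * a := by
    rw [inv_eq_iff_mul_eq_one, ← ha, pow_succ', sq]
  rw [h1, map_mul]
  linear_combination (norm := noncomm_ring) h.cube ha ha1

theorem tr_cube (h : Reg ρ) {a : G} (ha : a ^ 3 = 1) (ha1 : a ≠ 1) : tr ρ a = -1 := by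
  rw [tr, h.inv_cube ha ha1]; abel

theorem tr_mul_inv_eq (h : Reg ρ) {a b : G} (ha : a ^ 3 = 1) (ha1 : a ≠ 1) (hb : b ^ 3 = 1)
    (hb1 : b ≠ 1) : tr ρ (a * b⁻¹) = -ρ a - ρ b - ρ a * ρ b - ρ b * ρ a := by
  simp only [tr, mul_inv_rev, inv_inv, map_mul, h.inv_cube ha ha1, h.inv_cube hb hb1]
  noncomm_ring

theorem tr_mul_eq (h : Reg ρ) {a b : G} (ha : a ^ 3 = 1) (ha1 : a ≠ 1) (hb : b ^ 3 = 1)
    (hb1 : b ≠ 1) : tr ρ (a * b) = 1 - tr ρ (a * b⁻¹) := by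
  rw [h.tr_mul_inv_eq ha ha1 hb hb1]
  simp only [tr, mul_inv_rev, map_mul, h.inv_cube ha ha1, h.inv_cube hb hb1]
  noncomm_ring

theorem commute_tr_left (h : Reg ρ) {a b : G} (ha : a ^ 3 = 1) (ha1 : a ≠ 1) (hb : b ^ 3 = 1)
    (hb1 : b ≠ 1) : Commute (tr ρ (a * b⁻¹)) (ρ a) := by
  rw [h.tr_mul_inv_eq ha ha1 hb hb1, Commute, SemiconjBy]
  have h1 := h.cube ha ha1
  linear_combination (norm := noncomm_ring) h1 * ρ b - ρ b * h1

theorem commute_tr_right (h : Reg ρ) {a b : G} (ha : a ^ 3 = 1) (ha1 : a ≠ 1) (hb : b ^ 3 = 1)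
    (hb1 : b ≠ 1) : Commute (tr ρ (a * b⁻¹)) (ρ b) := by
  rw [h.tr_mul_inv_eq ha ha1 hb hb1, Commute, SemiconjBy]
  have h1 := h.cube hb hb1
  linear_combination (norm := noncomm_ring) h1 * ρ a - ρ a * h1

theorem isUnit_add_one (h : Reg ρ) {g : G} (hg : g ^ 2 ≠ 1) {x : R} (hx : (ρ g + 1) * x = 0) :
    x = 0 := by
  have h1 := h _ hg
  have : (ρ (g ^ 2) - 1) * x = 0 := by
    rw [map_pow]
    linear_combination (norm := noncomm_ring) (ρ g - 1) * hx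
  exact h1.mul_right_eq_zero.mp this

theorem tr_of_pow_four (h : Reg ρ) {g : G} (h4 : g ^ 4 = 1) (h2 : g ^ 2 ≠ 1) : tr ρ g = 0 := by
  have h1 := h.eq_neg_one (z := g ^ 2) (by rw [← pow_mul]; exact h4) h2
  rw [map_pow] at h1
  have h3 := map_mul_map_inv ρ g
  rw [tr]
  linear_combination (norm := noncomm_ring) h1 * ρ g⁻¹ - ρ g * h3

theorem tr_of_pow_six (h : Reg ρ) {g : G} (h6 : g ^ 6 = 1) (h3 : g ^ 3 ≠ 1) (h2 : g ^ 2 ≠ 1) :
    tr ρ g = 1 := by
  have h1 := h.eq_neg_one (z := g ^ 3) (by rw [← pow_mul]; exact h6) h3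
  rw [map_pow] at h1
  have h4 := h.isUnit_add_one h2 (x := ρ g * ρ g - ρ g + 1) (by
    linear_combination (norm := noncomm_ring) h1)
  have h5 := map_mul_map_inv ρ g
  rw [tr]
  linear_combination (norm := noncomm_ring) h4 * ρ g⁻¹ - ρ g * h5 + h5

theorem tr_of_pow_ten (h : Reg ρ) {g : G} (h10 : g ^ 10 = 1) (h5 : g ^ 5 ≠ 1) (h2 : g ^ 2 ≠ 1) :
    tr ρ g * tr ρ g = tr ρ g + 1 := by
  have h1 := h.eq_neg_one (z := g ^ 5) (by rw [← pow_mul]; exact h10) h5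
  rw [map_pow] at h1
  have h4 := h.isUnit_add_one h2 (x := ρ g ^ 4 - ρ g ^ 3 + ρ g ^ 2 - ρ g + 1) (by
    linear_combination (norm := noncomm_ring) h1)
  have h6 := map_mul_map_inv ρ g
  have h7 := map_inv_mul_map ρ g
  rw [tr]
  generalize ρ g = x at *
  generalize ρ g⁻¹ = y at *
  linear_combination (norm := noncomm_ring) h4 * y * y - x * x * x * h6 * y - x * x * h6
    + x * x * h6 * y + x * h6 - x * h6 * y + h6 * y + h7

end Reg

/-- The five possibilities for a pair of elements of order three. -/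
def Tri (ρ : G →* R) : Prop :=
  ∀ a b : G, a ^ 3 = 1 → a ≠ 1 → b ^ 3 = 1 → b ≠ 1 →
    tr ρ (a * b⁻¹) = 2 ∨ tr ρ (a * b⁻¹) = -1 ∨ tr ρ (a * b⁻¹) = 0 ∨ tr ρ (a * b⁻¹) = 1 ∨
      tr ρ (a * b⁻¹) * tr ρ (a * b⁻¹) = tr ρ (a * b⁻¹) + 1

theorem eigen_facts {W : Type*} [AddCommGroup W] [Module ℂ W] {ρ : G →* Module.End ℂ W}
    (h : Reg ρ) {g : G} {v : W} {ζ : ℂ} (hv : v ≠ 0) (hg : ρ g v = ζ • v) :
    (∀ k : ℕ, g ^ k = 1 ↔ ζ ^ k = 1) ∧ ζ ≠ 0 ∧ tr ρ g v = (ζ + ζ⁻¹) • v := by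
  have hk : ∀ k : ℕ, ρ (g ^ k) v = ζ ^ k • v := by
    intro k
    induction k with
    | zero => simp
    | succ k ih => rw [pow_succ, map_mul, Module.End.mul_apply, hg, map_smul, ih, smul_smul, pow_succ']
  have h1 : ζ • ρ g⁻¹ v = v := by
    rw [← map_smul, ← hg, ← Module.End.mul_apply, map_inv_mul_map, Module.End.one_apply]
  have h0 : ζ ≠ 0 := by
    rintro rfl
    rw [zero_smul] at h1
    exact hv h1.symm
  refine ⟨fun k => ⟨fun hh => ?_, fun hh => ?_⟩, h0, ?_⟩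
  · have := hk k
    rw [hh, map_one, Module.End.one_apply] at this
    have h2 : (ζ ^ k - 1) • v = 0 := by rw [sub_smul, ← this, one_smul, sub_self]
    exact sub_eq_zero.mp ((smul_eq_zero.mp h2).resolve_right hv)
  · by_contra hne
    have hu := h _ hne
    rw [Module.End.isUnit_iff] at hu
    apply hv
    apply hu.1
    rw [LinearMap.sub_apply, hk, hh, one_smul, Module.End.one_apply, sub_self, map_zero]
  · rw [tr, LinearMap.add_apply, hg, add_smul]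
    congr 1
    rw [eq_inv_smul_iff₀ h0, h1]

theorem Reg.tri [Finite G] {W : Type*} [AddCommGroup W] [Module ℂ W] [FiniteDimensional ℂ W]
    [Nontrivial W] {ρ : G →* Module.End ℂ W} (h : Reg ρ) : Tri ρ := by
  intro a b ha ha1 hb hb1
  have hca := h.commute_tr_left ha ha1 hb hb1
  have hcb := h.commute_tr_right ha ha1 hb hb1
  have hcb' : Commute (tr ρ (a * b⁻¹)) (ρ b⁻¹) := by
    rw [h.inv_cube hb hb1]
    exact (Commute.neg_one_right _).sub_right hcb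
  obtain ⟨γ, hγ⟩ := Module.End.exists_eigenvalue (tr ρ (a * b⁻¹))
  obtain ⟨v, ζ, hv, hv1, hv2⟩ := exists_common_eigenvector (T := ρ (a * b⁻¹))
    (by rw [map_mul]; exact hca.mul_right hcb') hγ
  obtain ⟨w, η, hw, hw1, hw2⟩ := exists_common_eigenvector (T := ρ (a * b))
    (by rw [map_mul]; exact hca.mul_right hcb) hγ
  obtain ⟨hζ, hζ0, hζ1⟩ := eigen_facts h hv hv2
  obtain ⟨hη, -, hη1⟩ := eigen_facts h hw hw2
  have e1 : ζ + ζ⁻¹ = γ := smul_left_injective ℂ hv (hζ1.symm.trans hv1)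
  have e2 : η + η⁻¹ = 1 - γ := by
    apply smul_left_injective ℂ hw
    simp only
    rw [← hη1, h.tr_mul_eq ha ha1 hb hb1, LinearMap.sub_apply, hw1, sub_smul, one_smul,
      Module.End.one_apply]
  have hN : Nat.card G ≠ 0 := Nat.card_pos.ne'
  have hi : ζ * ζ⁻¹ = 1 := mul_inv_cancel₀ hζ0
  generalize a * b⁻¹ = g at *
  rcases roots_of_unity_sum_eq_one hN ((hζ _).mp pow_card_eq_one') ((hη _).mp pow_card_eq_one')
    (by rw [e1, e2]; ring) with h1 | h1 | h1 | h1 | h1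
  · left
    have : (ζ - 1) ^ 2 = 0 := by linear_combination ζ * h1 - hi
    have hg : g = 1 := by
      rw [← pow_one g, hζ, pow_one]
      exact sub_eq_zero.mp (pow_eq_zero_iff two_ne_zero |>.mp this)
    rw [hg, tr, inv_one, map_one, one_add_one_eq_two]
  · right; left
    have h2 : ζ ^ 2 + ζ + 1 = 0 := by linear_combination ζ * h1 - hi
    refine h.tr_cube ((hζ _).mpr (by linear_combination (ζ - 1) * h2)) fun hg => ?_
    rw [← pow_one g, hζ, pow_one] at hg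
    rw [hg] at h2
    norm_num at h2
  · right; right; left
    have h2 : ζ ^ 2 = -1 := by linear_combination ζ * h1 - hi
    refine h.tr_of_pow_four ((hζ _).mpr (by linear_combination (ζ ^ 2 - 1) * h2)) fun hg => ?_
    rw [hζ, h2] at hg
    norm_num at hg
  · right; right; right; left
    have h2 : ζ ^ 2 - ζ + 1 = 0 := by linear_combination ζ * h1 - hi
    have h3 : ζ ^ 3 = -1 := by linear_combination (ζ + 1) * h2
    refine h.tr_of_pow_six ((hζ _).mpr (by linear_combination (ζ ^ 3 - 1) * h3)) (fun hg => ?_)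
      fun hg => ?_
    · rw [hζ, h3] at hg
      norm_num at hg
    · rw [hζ] at hg
      have h4 : ζ = 2 := by linear_combination hg - h2
      rw [h4] at hg
      norm_num at hg
  · right; right; right; right
    have h2 : ζ ^ 4 - ζ ^ 3 + ζ ^ 2 - ζ + 1 = 0 := by
      linear_combination ζ ^ 2 * h1 - (2 * ζ ^ 2 + ζ * ζ⁻¹ + 1 - ζ) * hi
    have h3 : ζ ^ 5 = -1 := by linear_combination (ζ + 1) * h2
    refine h.tr_of_pow_ten ((hζ _).mpr (by linear_combination (ζ ^ 5 - 1) * h3)) (fun hg => ?_)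
      fun hg => ?_
    · rw [hζ, h3] at hg
      norm_num at hg
    · rw [hζ] at hg
      have h4 : 2 * ζ = 3 := by linear_combination (ζ ^ 2 - ζ + 2) * hg - h2
      have h5 : (4 : ℂ) = 9 := by linear_combination (2 * ζ + 3) * h4 - 4 * hg
      norm_num at h5

end CL.FPF
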