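import Cfsg.Agent.Base
import Cfsg.Agent.Perm.FPFTrace
import Cfsg.Agent.Perm.FPFIcosian

/-!
# Elements of order three in a group with a fixed-point-free representation
-/

set_option autoImplicit false

namespace CL.FPF

open MatrixGroups

variable {G : Type*} [Group G] {R : Type*} [Ring R]

/-- `x` is an element of order four such that `a` and `x` generate a copy of `SL(2,3)`. -/
def InX (ρ : G →* R) (a x : G) : Prop :=
  ρ x * ρ x + 1 = 0 ∧ ρ x * ρ a + ρ a * ρ x + ρ x + 1 = 0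

variable {ρ : G →* R}

theorem InX.map_inv {a x : G} (hx : InX ρ a x) : ρ x⁻¹ = -ρ x := by
  have h1 := map_mul_map_inv ρ x
  linear_combination (norm := noncomm_ring) hx.1 * ρ x⁻¹ - ρ x * h1

theorem InX.tr_eq {a x y : G} (hx : InX ρ a x) (hy : InX ρ a y) :
    tr ρ (x * y⁻¹) = -(ρ x * ρ y + ρ y * ρ x) := by
  simp only [tr, mul_inv_rev, inv_inv, map_mul, hx.map_inv, hy.map_inv]
  noncomm_ring

theorem InX.conj {a x : G} (hx : InX ρ a x) (g : G) : InX ρ (g * a * g⁻¹) (g * x * g⁻¹) := by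
  have h1 := map_inv_mul_map ρ g
  have h2 := map_mul_map_inv ρ g
  simp only [InX, map_mul]
  constructor
  · linear_combination (norm := noncomm_ring) ρ g * hx.1 * ρ g⁻¹ - h2 +
      ρ g * ρ x * h1 * ρ x * ρ g⁻¹
  · linear_combination (norm := noncomm_ring) ρ g * hx.2 * ρ g⁻¹ - h2 +
      ρ g * ρ x * h1 * ρ a * ρ g⁻¹ + ρ g * ρ a * h1 * ρ x * ρ g⁻¹

theorem InX.conj_of_commute {a x g : G} (hx : InX ρ a x) (hg : g * a * g⁻¹ = a) :
    InX ρ a (g * x * g⁻¹) := by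
  have := hx.conj g
  rwa [hg] at this

theorem InX.conj2 {a x : G} (hx : InX ρ a x) : InX ρ a (a * x * a⁻¹) :=
  hx.conj_of_commute (by group)

theorem InX.conj3 {a x : G} (hx : InX ρ a x) : InX ρ a (a⁻¹ * x * a) := by
  have := hx.conj_of_commute (g := a⁻¹) (by group)
  rwa [inv_inv] at this

theorem tr_conj_of_eq {g : G} {c : R} (hc : ∀ x, c * x = x * c) (h : tr ρ g = c) (k : G) :
    tr ρ (k * g * k⁻¹) = c := by
  rw [tr_conj, h, ← hc, mul_assoc, map_mul_map_inv, mul_one]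

theorem tr_mul_comm_of_eq {g k : G} {c : R} (hc : ∀ x, c * x = x * c) (h : tr ρ (g * k) = c) :
    tr ρ (k * g) = c := by
  have := tr_conj_of_eq hc h k
  rwa [show k * (g * k) * k⁻¹ = k * g by group] at this

theorem tr_symm (x y : G) : tr ρ (y * x⁻¹) = tr ρ (x * y⁻¹) := by
  rw [← tr_inv, mul_inv_rev, inv_inv]

namespace Reg

theorem eq_one_of_tr (h : Reg ρ) [Nontrivial R] {g : G} (hg : tr ρ g = 2) : g = 1 := by
  by_contra hne
  have hu := h g hne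
  have h1 := map_mul_map_inv ρ g
  have h2 : (ρ g - 1) * (ρ g - 1) = 0 := by
    rw [tr] at hg
    linear_combination (norm := noncomm_ring) ρ g * hg - h1
  exact not_isUnit_zero (h2 ▸ hu.mul hu)

theorem map_conj2 (h : Reg ρ) {a : G} (ha : a ^ 3 = 1) (ha1 : a ≠ 1) (y : G) :
    ρ (a * y * a⁻¹) = ρ a * ρ y * (-1 - ρ a) := by
  rw [map_mul, map_mul, h.inv_cube ha ha1]

theorem map_conj3 (h : Reg ρ) {a : G} (ha : a ^ 3 = 1) (ha1 : a ≠ 1) (y : G) :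
    ρ (a⁻¹ * y * a) = (-1 - ρ a) * ρ y * ρ a := by
  rw [map_mul, map_mul, h.inv_cube ha ha1]

theorem inX_of_tr (h : Reg ρ) [Algebra ℚ R] {a b : G} (ha : a ^ 3 = 1) (ha1 : a ≠ 1)
    (hb : b ^ 3 = 1) (hb1 : b ≠ 1) (ht : tr ρ (a * b) = 0) : InX ρ a (a * b)⁻¹ := by
  have e : ρ (a * b)⁻¹ = (-1 - ρ b) * (-1 - ρ a) := by
    rw [mul_inv_rev, map_mul, h.inv_cube ha ha1, h.inv_cube hb hb1]
  rw [tr, e, map_mul] at ht
  rw [InX, e]
  exact ⟨NC.of_tr_zero1 (h.cube ha ha1) (h.cube hb hb1) ht,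
    NC.of_tr_zero2 (h.cube ha ha1) (h.cube hb hb1) ht⟩

variable [Algebra ℚ R] [Nontrivial R]

theorem ord3_of_cube (h : Reg ρ) {g : G} (hg : ρ g * ρ g + ρ g + 1 = 0) : g ^ 3 = 1 ∧ g ≠ 1 := by
  constructor
  · apply h.eq_one
    rw [map_pow]
    linear_combination (norm := noncomm_ring) (ρ g - 1) * hg
  · rintro rfl
    rw [map_one] at hg
    exact one_ne_zero (NC.cancel 3 (x := (1 : R))
      (by linear_combination (norm := (noncomm_ring; try norm_num)) hg))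

theorem nbr (h : Reg ρ) {a x : G} (ha : a ^ 3 = 1) (ha1 : a ≠ 1) (hx : InX ρ a x) :
    (x * a) ^ 3 = 1 ∧ x * a ≠ 1 := by
  have := h.ord3_of_cube (g := a⁻¹ * x⁻¹) (by
    rw [map_mul, h.inv_cube ha ha1, hx.map_inv]
    exact NC.nbr_cube (h.cube ha ha1) hx.1 hx.2)
  rw [← mul_inv_rev, inv_pow, inv_eq_one, ne_eq, inv_eq_one] at this
  exact this

theorem tri_inX (h : Reg ρ) (ht : Tri ρ) {a x y : G} (ha : a ^ 3 = 1) (ha1 : a ≠ 1)
    (hx : InX ρ a x) (hy : InX ρ a y) :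
    (x = y ∨ tr ρ (x * y⁻¹) = 1) ∨ tr ρ (x * y⁻¹) = -1 ∨ tr ρ (x * y⁻¹) = 0 ∨
      tr ρ (x * y⁻¹) * tr ρ (x * y⁻¹) = tr ρ (x * y⁻¹) + 1 := by
  have := ht _ _ (h.nbr ha ha1 hx).1 (h.nbr ha ha1 hx).2 (h.nbr ha ha1 hy).1 (h.nbr ha ha1 hy).2
  rw [show x * a * (y * a)⁻¹ = x * y⁻¹ by group] at this
  rcases this with h1 | h1 | h1 | h1 | h1
  · exact Or.inl (Or.inl (mul_inv_eq_one.mp (h.eq_one_of_tr h1)))
  all_goals tauto

/-- Some conjugate of `y` under `a` equals `x` or is a partner of `x`. -/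
theorem exists_conj (h : Reg ρ) (ht : Tri ρ) {a x y : G} (ha : a ^ 3 = 1) (ha1 : a ≠ 1)
    (hx : InX ρ a x) (hy : InX ρ a y) :
    (x = y ∨ tr ρ (x * y⁻¹) = 1) ∨ (x = a * y * a⁻¹ ∨ tr ρ (x * (a * y * a⁻¹)⁻¹) = 1) ∨
      (x = a⁻¹ * y * a ∨ tr ρ (x * (a⁻¹ * y * a)⁻¹) = 1) := by
  rcases h.tri_inX ht ha ha1 hx hy with h1 | h1
  · exact Or.inl h1
  rcases h.tri_inX ht ha ha1 hx hy.conj2 with h2 | h2
  · exact Or.inr (Or.inl h2)
  rcases h.tri_inX ht ha ha1 hx hy.conj3 with h3 | h3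
  · exact Or.inr (Or.inr h3)
  exfalso
  refine NC.tri_cases h1 h2 h3 ?_ ?_ <;>
    rw [hx.tr_eq hy, hx.tr_eq hy.conj2, hx.tr_eq hy.conj3, h.map_conj2 ha ha1, h.map_conj3 ha ha1]
  · exact NC.sum_c (h.cube ha ha1) hx.2 hy.2
  · exact NC.sum_c_sq (h.cube ha ha1) hx.1 hx.2 hy.1 hy.2

theorem eq_or_eq_inv (h : Reg ρ) {a b : G} (ha : a ^ 3 = 1) (ha1 : a ≠ 1) (hb : b ^ 3 = 1)
    (hb1 : b ≠ 1) (hc : Commute a b) : b = a ∨ b = a⁻¹ := by
  classical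
  have : CharZero R := algebraRat.charZero R
  have := Fact.mk Nat.prime_three
  have h1 := h.mem_zpowers Nat.prime_three hc ha hb ha1
  rw [(isOfFinOrder_iff_pow_eq_one.mpr ⟨3, by norm_num, ha⟩).mem_zpowers_iff_mem_range_orderOf,
    orderOf_eq_prime ha ha1] at h1
  obtain ⟨i, hi, rfl⟩ := Finset.mem_image.mp h1
  have hi' := Finset.mem_range.mp hi
  interval_cases i
  · exact absurd (pow_zero a) hb1
  · exact Or.inl (pow_one a)
  · exact Or.inr (eq_inv_of_mul_eq_one_left (by rw [← pow_succ, ha]))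

theorem partner_unique (h : Reg ρ) (ht : Tri ρ) {a x y z : G} (ha : a ^ 3 = 1) (ha1 : a ≠ 1)
    (hx : InX ρ a x) (hy : InX ρ a y) (hz : InX ρ a z) (hxy : tr ρ (x * y⁻¹) = 1)
    (hxz : tr ρ (x * z⁻¹) = 1) : y = z := by
  have hA := h.cube ha ha1
  have hxy' := hxy
  have hxz' := hxz
  rw [hx.tr_eq hy] at hxy'
  rw [hx.tr_eq hz] at hxz'
  rcases h.exists_conj ht ha ha1 hy hz with (h1 | h1) | (h1 | h1) | (h1 | h1)
  · exact h1
  · exfalso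
    rw [hy.tr_eq hz] at h1
    have e : ρ (z * (x * y) * z⁻¹) = ρ z * (ρ x * ρ y) * (-ρ z) := by
      rw [map_mul, map_mul, map_mul, hz.map_inv]
    have h3 := h.ord3_of_cube (g := x * y) (by rw [map_mul]; exact NC.partner_cube hx.1 hy.1 hxy')
    have hc : Commute a (z * (x * y) * z⁻¹) := h.injective (by
      rw [map_mul, map_mul _ _ a, e]
      exact (NC.three_comm hx.1 hx.2 hy.1 hy.2 hz.1 hz.2 hxz' h1).symm)
    rcases h.eq_or_eq_inv ha ha1 (by rw [conj_pow, h3.1, mul_one, mul_inv_cancel])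
      (fun h0 => h3.2 (conj_eq_one_iff.mp h0)) hc with h4 | h4
    · exact NC.three_e1 hA hx.1 hx.2 hy.1 hy.2 hz.1 hz.2 hxy' hxz' h1 (by rw [← e, h4])
    · exact NC.three_e2 hA hx.1 hx.2 hy.1 hy.2 hz.1 hz.2 hxy' hxz' h1
        (by rw [← e, h4, h.inv_cube ha ha1])
  · exfalso
    rw [h1, h.map_conj2 ha ha1] at hxy'
    exact NC.same_orbit2 hA hx.1 hx.2 hz.1 hz.2 hxz' hxy'
  · exfalso
    rw [hy.tr_eq hz.conj2, h.map_conj2 ha ha1] at h1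
    exact NC.three_k2 hA hx.1 hx.2 hy.1 hy.2 hz.1 hz.2 hxy' hxz' h1
  · exfalso
    rw [h1, h.map_conj3 ha ha1] at hxy'
    exact NC.same_orbit3 hA hx.1 hx.2 hz.1 hz.2 hxz' hxy'
  · exfalso
    rw [hy.tr_eq hz.conj3, h.map_conj3 ha ha1] at h1
    exact NC.three_k3 hA hx.1 hx.2 hy.1 hy.2 hz.1 hz.2 hxy' hxz' h1

/-- With a partner pair `x, y`, every element of `X(a)` is conjugate under `a` to `x` or `y`. -/
theorem exists_zpow_conj (h : Reg ρ) (ht : Tri ρ) {a x y z : G} (ha : a ^ 3 = 1) (ha1 : a ≠ 1)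
    (hx : InX ρ a x) (hy : InX ρ a y) (hxy : tr ρ (x * y⁻¹) = 1) (hz : InX ρ a z) :
    ∃ i : ℤ, a ^ i * z * (a ^ i)⁻¹ = x ∨ a ^ i * z * (a ^ i)⁻¹ = y := by
  rcases h.exists_conj ht ha ha1 hx hz with (h1 | h1) | (h1 | h1) | (h1 | h1)
  · exact ⟨0, Or.inl (by rw [h1]; group)⟩
  · exact ⟨0, Or.inr (by rw [h.partner_unique ht ha ha1 hx hy hz hxy h1]; group)⟩
  · exact ⟨1, Or.inl (by rw [h1]; group)⟩
  · exact ⟨1, Or.inr (by rw [h.partner_unique ht ha ha1 hx hy hz.conj2 hxy h1]; group)⟩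
  · exact ⟨-1, Or.inl (by rw [h1]; group)⟩
  · exact ⟨-1, Or.inr (by rw [h.partner_unique ht ha ha1 hx hy hz.conj3 hxy h1]; group)⟩

theorem partner_inverts (h : Reg ρ) {a x y : G} (ha : a ^ 3 = 1) (ha1 : a ≠ 1)
    (hx : InX ρ a x) (hy : InX ρ a y) (hxy : tr ρ (x * y⁻¹) = 1) :
    (x * y * x⁻¹) * a * (x * y * x⁻¹)⁻¹ = a⁻¹ := by
  apply h.injective
  rw [hx.tr_eq hy] at hxy
  rw [show (x * y * x⁻¹)⁻¹ = x * y⁻¹ * x⁻¹ by group]
  simp only [map_mul, hx.map_inv, hy.map_inv, h.inv_cube ha ha1]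
  exact NC.partner_inverts (h.cube ha ha1) hx.1 hx.2 hy.1 hy.2 hxy

theorem tr_conj_of_phi (h : Reg ρ) {a b : G} (ha : a ^ 3 = 1) (ha1 : a ≠ 1) (hb : b ^ 3 = 1)
    (hb1 : b ≠ 1) (hp : tr ρ (a * b⁻¹) * tr ρ (a * b⁻¹) = tr ρ (a * b⁻¹) + 1) :
    tr ρ (a * (b * a * b⁻¹)) = 0 := by
  rw [h.tr_mul_inv_eq ha ha1 hb hb1] at hp
  rw [tr, show (a * (b * a * b⁻¹))⁻¹ = b * a⁻¹ * b⁻¹ * a⁻¹ by group]
  simp only [map_mul, h.inv_cube ha ha1, h.inv_cube hb hb1]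
  exact NC.tr_comm_of_phi (h.cube ha ha1) (h.cube hb hb1) hp

theorem exists_partner_of_phi (h : Reg ρ) {a b : G} (ha : a ^ 3 = 1) (ha1 : a ≠ 1)
    (hb : b ^ 3 = 1) (hb1 : b ≠ 1)
    (hp : tr ρ (a * b⁻¹) * tr ρ (a * b⁻¹) = tr ρ (a * b⁻¹) + 1) :
    ∃ x y : G, InX ρ a x ∧ InX ρ a y ∧ tr ρ (x * y⁻¹) = 1 := by
  have hb' : b⁻¹ ^ 3 = 1 := by rw [inv_pow, hb, inv_one]
  have hb1' : b⁻¹ ≠ 1 := inv_ne_one.mpr hb1
  have h1 := h.tr_conj_of_phi ha ha1 hb hb1 hp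
  have h2 := h.tr_conj_of_phi ha ha1 hb' hb1' (by
    rw [inv_inv, h.tr_mul_eq ha ha1 hb hb1]
    linear_combination (norm := (noncomm_ring; try norm_num)) hp)
  have hc : ∀ g : G, (g * a * g⁻¹) ^ 3 = 1 := fun g => by
    rw [conj_pow, ha, mul_one, mul_inv_cancel]
  have hc1 : ∀ g : G, g * a * g⁻¹ ≠ 1 := fun g h0 => ha1 (conj_eq_one_iff.mp h0)
  refine ⟨_, _, h.inX_of_tr ha ha1 (hc b) (hc1 b) h1, h.inX_of_tr ha ha1 (hc b⁻¹) (hc1 b⁻¹) h2, ?_⟩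
  rw [h.tr_mul_inv_eq ha ha1 hb hb1] at hp
  rw [tr, show (a * (b * a * b⁻¹))⁻¹ * (a * (b⁻¹ * a * b⁻¹⁻¹))⁻¹⁻¹ =
      b * a⁻¹ * b⁻¹ * (b⁻¹ * a * b) by group,
    show (b * a⁻¹ * b⁻¹ * (b⁻¹ * a * b))⁻¹ = b⁻¹ * a⁻¹ * b * (b * a * b⁻¹) by
      simp only [mul_inv_rev, inv_inv, mul_assoc]]
  simp only [map_mul, h.inv_cube ha ha1, h.inv_cube hb hb1]
  exact NC.partner_of_phi (h.cube ha ha1) (h.cube hb hb1) hp

/-- A partner pair gives an embedding of `SL(2,5)`. -/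
theorem exists_hom (h : Reg ρ) {a x y : G} (ha : a ^ 3 = 1) (ha1 : a ≠ 1)
    (hx : InX ρ a x) (hy : InX ρ a y) (hxy : tr ρ (x * y⁻¹) = 1) :
    ∃ θ : SL(2, ZMod 5) →* G, Function.Injective θ ∧ θ.range = Subgroup.closure {a, x, y} := by
  have hA := h.cube ha ha1
  rw [hx.tr_eq hy] at hxy
  have hφa := NC.phi_comm_a hA hx.1 hx.2 hy.1 hy.2
  have hφx := NC.phi_comm_x (A := ρ a) (Y := ρ y) hx.1
  obtain ⟨Θ, h1, h2, h3, h4⟩ := Ico.exists_hom (eq_neg_of_add_eq_zero_left hx.1)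
    (NC.quat_jj hA hx.1 hx.2) (NC.quat_ij hA hx.1 hx.2) (NC.quat_ji hA hx.1 hx.2)
    (NC.phi_sq hA hx.1 hx.2 hy.1 hy.2 hxy) hφx
    (((Commute.neg_one_right _).sub_right hφa).mul_right hφx |>.mul_right hφa)
  rw [← NC.quat_a hA hx.1 hx.2] at h2
  rw [← NC.quat_y hA hx.1 hx.2 hy.1 hy.2 hxy] at h4
  have h2' : Θ Ico.sa = ρ a := NC.cancel' 2 (by rw [mul_sub, h2, sub_self])
  have h4' : Θ Ico.sy = ρ y := NC.cancel' 2 (by rw [mul_sub, h4, sub_self])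
  have hex : ∀ s, ∃ g, ρ g = Θ s := by
    intro s
    have hs : s ∈ Subgroup.closure ({Ico.sa, Ico.sx, Ico.sy} : Set SL(2, ZMod 5)) := by
      rw [Ico.closure_eq_top]; trivial
    induction hs using Subgroup.closure_induction with
    | mem s hs =>
      rcases hs with rfl | rfl | rfl
      · exact ⟨a, h2'.symm⟩
      · exact ⟨x, h3.symm⟩
      · exact ⟨y, h4'.symm⟩
    | one => exact ⟨1, by rw [map_one, map_one]⟩
    | mul s t _ _ hs ht =>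
      obtain ⟨g, hg⟩ := hs
      obtain ⟨k, hk⟩ := ht
      exact ⟨g * k, by rw [map_mul, map_mul, hg, hk]⟩
    | inv s _ hs =>
      obtain ⟨g, hg⟩ := hs
      refine ⟨g⁻¹, ?_⟩
      rw [← mul_one (ρ g⁻¹), ← map_mul_map_inv Θ s, ← hg, ← mul_assoc, map_inv_mul_map, one_mul]
  choose f hf using hex
  let θ : SL(2, ZMod 5) →* G := MonoidHom.mk' f fun s t =>
    h.injective (by rw [map_mul, hf, hf, hf, map_mul])
  have hθ : ∀ s, ρ (θ s) = Θ s := hf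
  refine ⟨θ, (injective_iff_map_eq_one θ).mpr fun s hs => h1 s (by rw [← hθ, hs, map_one]), ?_⟩
  rw [MonoidHom.range_eq_map, ← Ico.closure_eq_top, MonoidHom.map_closure]
  simp only [Set.image_insert_eq, Set.image_singleton]
  rw [h.injective ((hθ _).trans h2'), h.injective ((hθ _).trans h3), h.injective ((hθ _).trans h4')]

end Reg

end CL.FPF
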