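import Cfsg.Agent.Base
import Cfsg.Agent.Perm.FPFOrder3
import Cfsg.Agent.Transfer.AbSylow
import Cfsg.Agent.S0106

/-!
# Zassenhaus' theorem on non-solvable groups with a fixed-point-free representation
-/

set_option autoImplicit false

namespace CL.FPF

open MatrixGroups Subgroup

variable {G : Type*} [Group G]

/-- The subgroup generated by the elements of order three. -/
def T3 (G : Type*) [Group G] : Subgroup G := closure {g : G | g ^ 3 = 1}

theorem mem_T3 {g : G} (hg : g ^ 3 = 1) : g ∈ T3 G := subset_closure hg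

theorem conj_cube {a : G} (ha : a ^ 3 = 1) (g : G) : (g * a * g⁻¹) ^ 3 = 1 := by
  rw [conj_pow, ha, mul_one, mul_inv_cancel]

theorem conj_ne_one {a : G} (ha : a ≠ 1) (g : G) : g * a * g⁻¹ ≠ 1 :=
  fun h => ha (conj_eq_one_iff.mp h)

instance instNormalT3 : (T3 G).Normal := by
  refine ⟨fun n hn g => ?_⟩
  have : (T3 G).map (MulAut.conj g).toMonoidHom ≤ T3 G := by
    rw [T3, MonoidHom.map_closure, closure_le]
    rintro _ ⟨a, ha, rfl⟩
    exact mem_T3 (conj_cube ha g)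
  exact this ⟨n, hn, rfl⟩

theorem IsFPF.exists_conj_commute [Finite G] (h : IsFPF G) {K : Subgroup G} {a b : G}
    (haK : a ∈ K) (hbK : b ∈ K) (ha : a ^ 3 = 1) (hb : b ^ 3 = 1) :
    ∃ g ∈ K, Commute (g * a * g⁻¹) b := by
  have := Fact.mk Nat.prime_three
  have hp : ∀ c : K, (c : G) ^ 3 = 1 → IsPGroup 3 (zpowers c) := fun c hc =>
    IsPGroup.of_card_dvd_pow (n := 1) (by
      rw [Nat.card_zpowers, pow_one]
      exact orderOf_dvd_of_pow_eq_one (Subtype.ext hc))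
  obtain ⟨P, hP⟩ := (hp ⟨a, haK⟩ ha).exists_le_sylow
  obtain ⟨Q, hQ⟩ := (hp ⟨b, hbK⟩ hb).exists_le_sylow
  obtain ⟨g, rfl⟩ := MulAction.exists_smul_eq K P Q
  have hc : IsCyclic (g • P : Sylow 3 K) :=
    (h.subgroup K).isCyclic_of_odd (by norm_num) (g • P).isPGroup'
  have h1 : g * ⟨a, haK⟩ * g⁻¹ ∈ ((g • P : Sylow 3 K) : Subgroup K) := by
    rw [Sylow.coe_subgroup_smul]
    exact smul_mem_pointwise_smul _ (MulAut.conj g) _ (hP (Subgroup.mem_zpowers _))
  have h2 := hc.isMulCommutative.is_comm.comm ⟨_, h1⟩ ⟨_, hQ (Subgroup.mem_zpowers _)⟩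
  exact ⟨g, g.2, congrArg (fun z : (g • P : Sylow 3 K) => ((z : K) : G)) h2⟩

theorem IsFPF.isSolvable_of_not_three_dvd [Finite G] (h : IsFPF G) (h3 : ¬ 3 ∣ Nat.card G) :
    Group.IsSolvable G := by
  obtain ⟨P⟩ : Nonempty (Sylow 2 G) := inferInstance
  rcases h.isCyclic_or_quaternion P.isPGroup' with hc | ⟨-, n, hn, e⟩
  · have := h.isZGroup fun Q => (P.equiv Q).isCyclic.mp hc
    infer_instance
  rcases Cfsg.Agent.S0106.result P n hn e with ⟨Q, N, hN, hc⟩ | ⟨H, K, hK, ⟨e'⟩⟩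
  · have h1 := (h.subgroup N).isZGroup_of_odd (by
      rw [← hc.index_eq_card]
      exact Q.not_dvd_index)
    have h2 : IsPGroup 2 (G ⧸ N) := by
      obtain ⟨k, hk⟩ := IsPGroup.iff_card.mp Q.isPGroup'
      exact IsPGroup.of_card (n := k) (by rw [← index_eq_card, hc.symm.index_eq_card, hk])
    have := h2.isNilpotent
    exact Group.isSolvable_of_ker_le_range N.subtype (QuotientGroup.mk' N) (by simp)
  · exfalso
    refine h3 (dvd_trans ?_ ((card_quotient_dvd_card (K.subgroupOf H)).trans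
      (card_subgroup_dvd_card H)))
    rw [Nat.card_congr e'.toEquiv]
    let u : SL(2, ZMod 3) := ⟨!![1, 1; 0, 1], by decide⟩
    have : orderOf u = 3 := orderOf_eq_prime (by decide) fun h0 =>
      absurd (congrArg (fun m : SL(2, ZMod 3) => m 0 1) h0) (by decide)
    exact (dvd_of_eq this.symm).trans (_root_.orderOf_dvd_natCard u)

section

variable {R : Type*} [Ring R] [Algebra ℚ R] [Nontrivial R] {ρ : G →* R}

theorem struct_of_partner [Finite G] (hG : IsFPF G) (h : Reg ρ) (ht : Tri ρ) {a x y : G}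
    (ha : a ^ 3 = 1) (ha1 : a ≠ 1) (hx : InX ρ a x) (hy : InX ρ a y) (hxy : tr ρ (x * y⁻¹) = 1) :
    Nonempty (T3 G ≃* SL(2, ZMod 5)) ∧ (T3 G ⊔ centralizer (T3 G : Set G)).index ∣ 2 ∧
      ¬ 3 ∣ Nat.card (centralizer (T3 G : Set G)) := by
  obtain ⟨θ, hθ, hL⟩ := h.exists_hom ha ha1 hx hy hxy
  set L := closure ({a, x, y} : Set G) with hLdef
  have haL : a ∈ L := subset_closure (by simp)
  have hxL : x ∈ L := subset_closure (by simp)
  have hyL : y ∈ L := subset_closure (by simp)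
  have hm := h.partner_inverts ha ha1 hx hy hxy
  have hmL : x * y * x⁻¹ ∈ L := mul_mem (mul_mem hxL hyL) (inv_mem hxL)
  have hconj : ∀ K : Subgroup G, L ≤ K → ∀ b ∈ K, b ^ 3 = 1 → b ≠ 1 → ∃ g ∈ K, b = g * a * g⁻¹ := by
    intro K hK b hbK hb hb1
    obtain ⟨g, hg, hc⟩ := hG.exists_conj_commute (hK haL) hbK ha hb
    rcases h.eq_or_eq_inv (conj_cube ha g) (conj_ne_one ha1 g) hb hb1 hc with h1 | h1
    · exact ⟨g, hg, h1⟩
    · refine ⟨g * (x * y * x⁻¹), mul_mem hg (hK hmL), ?_⟩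
      rw [h1, show (g * a * g⁻¹)⁻¹ = g * a⁻¹ * g⁻¹ by group, ← hm]
      group
  have hX : ∀ z, InX ρ a z → z ∈ L := by
    intro z hz
    obtain ⟨i, hi⟩ := h.exists_zpow_conj ht ha ha1 hx hy hxy hz
    have : a ^ i * z * (a ^ i)⁻¹ ∈ L := by rcases hi with hi | hi <;> rw [hi] <;> assumption
    rwa [mul_mem_cancel_right (inv_mem (zpow_mem haL i)),
      mul_mem_cancel_left (zpow_mem haL i)] at this
  have hT0 : ∀ b, b ^ 3 = 1 → b ≠ 1 → tr ρ (a * b) = 0 → b ∈ L := by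
    intro b hb hb1 h0
    have := hX _ (h.inX_of_tr ha ha1 hb hb1 h0)
    rwa [inv_mem_iff, mul_mem_cancel_left haL] at this
  have hba : ∀ b, b ^ 3 = 1 → b ≠ 1 → b * a * b⁻¹ ∈ L := by
    intro b hb hb1
    have key : b ∈ L → b * a * b⁻¹ ∈ L := fun hbL => mul_mem (mul_mem hbL haL) (inv_mem hbL)
    have h1 := h.tr_mul_eq ha ha1 hb hb1
    rcases ht a b ha ha1 hb hb1 with h2 | h2 | h2 | h2 | h2
    · exact key (mul_inv_eq_one.mp (h.eq_one_of_tr h2) ▸ haL)
    · rw [h2, show (1 : R) - -1 = 2 by norm_num] at h1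
      exact key (eq_inv_of_mul_eq_one_right (h.eq_one_of_tr h1) ▸ inv_mem haL)
    · exact key (inv_mem_iff.mp (hT0 _ (by rw [inv_pow, hb, inv_one]) (inv_ne_one.mpr hb1) h2))
    · rw [h2, sub_self] at h1
      exact key (hT0 _ hb hb1 h1)
    · exact hT0 _ (conj_cube ha b) (conj_ne_one ha1 b) (h.tr_conj_of_phi ha ha1 hb hb1 h2)
  have hbc : ∀ b, b ^ 3 = 1 → b ≠ 1 → ∀ c ∈ L, c ^ 3 = 1 → c ≠ 1 → b * c * b⁻¹ ∈ L := by
    intro b hb hb1 c hcL hc hc1
    obtain ⟨g, hg, rfl⟩ := hconj L le_rfl c hcL hc hc1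
    have := hba _ (conj_cube hb g⁻¹) (conj_ne_one hb1 g⁻¹)
    have e : b * (g * a * g⁻¹) * b⁻¹ = g * (g⁻¹ * b * g⁻¹⁻¹ * a * (g⁻¹ * b * g⁻¹⁻¹)⁻¹) * g⁻¹ := by
      group
    rw [e]
    exact mul_mem (mul_mem hg this) (inv_mem hg)
  have hnorm : ∀ b, b ^ 3 = 1 → b ≠ 1 → b ∈ normalizer (L : Set G) := by
    intro b hb hb1
    refine mem_normalizer_fintype fun n hn => ?_
    have : L.map (MulAut.conj b).toMonoidHom ≤ L := by
      have hz : ∀ z, InX ρ a z → b * z * b⁻¹ ∈ L := by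
        intro z hz
        have h1 := hbc b hb hb1 _ (mul_mem (hX z hz) haL) (h.nbr ha ha1 hz).1 (h.nbr ha ha1 hz).2
        rwa [show b * (z * a) * b⁻¹ = b * z * b⁻¹ * (b * a * b⁻¹) by group,
          mul_mem_cancel_right (hba b hb hb1)] at h1
      rw [hLdef, MonoidHom.map_closure, closure_le]
      rintro _ ⟨z, rfl | rfl | rfl, rfl⟩
      · exact hba b hb hb1
      · exact hz _ hx
      · exact hz _ hy
    exact this ⟨n, hn, rfl⟩
  have hTL : T3 G = L := by
    apply le_antisymm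
    · rw [T3, closure_le]
      intro b hb
      by_cases hb1 : b = 1
      · rw [hb1]; exact one_mem L
      obtain ⟨g, hg, rfl⟩ := hconj _ le_normalizer b (hnorm b hb hb1) hb hb1
      exact (mem_normalizer_iff.mp hg a).mp haL
    · have hz : ∀ z, InX ρ a z → z ∈ T3 G := fun z hz =>
        (mul_mem_cancel_right (mem_T3 ha)).mp (mem_T3 (h.nbr ha ha1 hz).1)
      rw [hLdef, closure_le]
      rintro z (rfl | rfl | rfl)
      · exact mem_T3 ha
      · exact hz _ hx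
      · exact hz _ hy
  have hN : L.Normal := hTL ▸ instNormalT3
  rw [hTL]
  have hcent : ∀ g, g * a * g⁻¹ = a → g * x * g⁻¹ = x → g * y * g⁻¹ = y →
      g ∈ centralizer (L : Set G) := by
    intro g h1 h2 h3
    rw [hLdef, centralizer_closure]
    rintro z (rfl | rfl | rfl) <;> exact (mul_inv_eq_iff_eq_mul.mp ‹_›).symm
  refine ⟨⟨(MulEquiv.subgroupCongr hL.symm).trans (MonoidHom.ofInjective hθ).symm⟩, ?_, ?_⟩
  · have hone : ∀ r : R, (1 : R) * r = r * 1 := fun r => by rw [one_mul, mul_one]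
    have hpair : ∀ g, tr ρ (g * x * g⁻¹ * (g * y * g⁻¹)⁻¹) = 1 := fun g => by
      rw [show g * x * g⁻¹ * (g * y * g⁻¹)⁻¹ = g * (x * y⁻¹) * g⁻¹ by group]
      exact tr_conj_of_eq hone hxy g
    have hsw : ∀ g, g ∉ L ⊔ centralizer (L : Set G) →
        ∃ l ∈ L, ∃ s, g = l * s ∧ s * a * s⁻¹ = a ∧ s * x * s⁻¹ = y ∧ s * y * s⁻¹ = x := by
      intro g hg
      obtain ⟨l, hl, hla⟩ := hconj L le_rfl _ (hN.conj_mem a haL g) (conj_cube ha g)
        (conj_ne_one ha1 g)
      have h1 : l⁻¹ * g * a * (l⁻¹ * g)⁻¹ = a := by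
        rw [show l⁻¹ * g * a * (l⁻¹ * g)⁻¹ = l⁻¹ * (g * a * g⁻¹) * l by group, hla]; group
      obtain ⟨i, hi⟩ := h.exists_zpow_conj ht ha ha1 hx hy hxy (hx.conj_of_commute h1)
      set s := a ^ i * (l⁻¹ * g) with hs
      have h2 : s * a * s⁻¹ = a := by
        rw [show s * a * s⁻¹ = a ^ i * (l⁻¹ * g * a * (l⁻¹ * g)⁻¹) * (a ^ i)⁻¹ by rw [hs]; group, h1]
        group
      rw [show a ^ i * (l⁻¹ * g * x * (l⁻¹ * g)⁻¹) * (a ^ i)⁻¹ = s * x * s⁻¹ by rw [hs]; group] at hi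
      have hl' : l * (a ^ i)⁻¹ ∈ L := mul_mem hl (inv_mem (zpow_mem haL i))
      have hgs : g = l * (a ^ i)⁻¹ * s := by rw [hs]; group
      have h3 := hpair s
      rcases hi with hi | hi <;> rw [hi] at h3
      · exact absurd (hgs ▸ mul_mem_sup hl' (hcent s h2 hi
          (h.partner_unique ht ha ha1 hx (hy.conj_of_commute h2) hy h3 hxy))) hg
      · exact ⟨_, hl', s, hgs, h2, hi,
          h.partner_unique ht ha ha1 hy (hy.conj_of_commute h2) hx h3 ((tr_symm x y).trans hxy)⟩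
    rw [index_dvd_two_iff]
    by_cases hall : ∀ g, g ∈ L ⊔ centralizer (L : Set G)
    · exact ⟨1, fun b => Or.inr (hall b)⟩
    push Not at hall
    obtain ⟨g, hg⟩ := hall
    refine ⟨g, fun b => or_iff_not_imp_right.mpr fun hb => ?_⟩
    obtain ⟨l, hl, s, rfl, h1, h2, h3⟩ := hsw g hg
    obtain ⟨l', hl', s', rfl, h1', h2', h3'⟩ := hsw b hb
    rw [show l' * s' * (l * s) = l' * (s' * l * s'⁻¹) * (s' * s) by group]
    have e : ∀ z, s' * s * z * (s' * s)⁻¹ = s' * (s * z * s⁻¹) * s'⁻¹ := fun z => by group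
    exact mul_mem_sup (mul_mem hl' (hN.conj_mem l hl s'))
      (hcent _ (by rw [e, h1, h1']) (by rw [e, h2, h3']) (by rw [e, h3, h2']))
  · intro h3
    have := Fact.mk Nat.prime_three
    obtain ⟨⟨b, hbC⟩, hb⟩ := exists_prime_orderOf_dvd_card' 3 h3
    rw [← orderOf_coe] at hb
    have hb3 : b ^ 3 = 1 := hb ▸ pow_orderOf_eq_one b
    have hb1 : b ≠ 1 := by
      rintro rfl
      simp at hb
    have haC : a ∈ centralizer (L : Set G) := by
      rcases h.eq_or_eq_inv ha ha1 hb3 hb1 (hbC a haL) with h1 | h1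
      · exact h1 ▸ hbC
      · exact inv_mem_iff.mp (h1 ▸ hbC)
    rw [haC _ hmL, mul_inv_cancel_right] at hm
    apply ha1
    rw [pow_succ, sq, eq_inv_iff_mul_eq_one.mp hm, one_mul] at ha
    exact ha

theorem eq_top_of_index_dvd_two (hp : _root_.commutator G = ⊤) {H : Subgroup G}
    (hH : H.index ∣ 2) : H = ⊤ := by
  rcases (Nat.dvd_prime Nat.prime_two).mp hH with h1 | h1
  · exact index_eq_one.mp h1
  · rw [eq_top_iff, ← hp, commutator_def, commutator_le]
    intro g _ k _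
    simp only [commutatorElement_def, mul_mem_iff_of_index_two h1, inv_mem_iff]
    tauto

theorem exists_partner [Finite G] [Nontrivial G] (hG : IsFPF G) (h : Reg ρ) (ht : Tri ρ)
    (hp : _root_.commutator G = ⊤) :
    ∃ a x y : G, a ^ 3 = 1 ∧ a ≠ 1 ∧ InX ρ a x ∧ InX ρ a y ∧ tr ρ (x * y⁻¹) = 1 := by
  by_contra hno
  push Not at hno
  have := Fact.mk Nat.prime_three
  have h3 : 3 ∣ Nat.card G := by
    by_contra h3
    have : Group.IsPerfect G := ⟨hp⟩
    exact Group.IsPerfect.not_isSolvable G (hG.isSolvable_of_not_three_dvd h3)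
  obtain ⟨a, hao⟩ := exists_prime_orderOf_dvd_card' 3 h3
  have ha : a ^ 3 = 1 := hao ▸ pow_orderOf_eq_one a
  have ha1 : a ≠ 1 := by
    rintro rfl
    simp at hao
  have hinv : ∀ {b : G}, b ^ 3 = 1 → b⁻¹ ^ 3 = 1 := fun hb => by rw [inv_pow, hb, inv_one]
  have hzero : ∀ r : R, (0 : R) * r = r * 0 := fun r => by rw [zero_mul, mul_zero]
  let rel : G → G → Prop := fun b c => b = c ∨ tr ρ (b * c⁻¹) = 0
  have rsymm : ∀ {b c}, rel b c → rel c b := fun hr =>
    hr.imp Eq.symm fun h0 => (tr_symm _ _).trans h0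
  have rconj : ∀ {b c} (g : G), rel b c → rel (g * b * g⁻¹) (g * c * g⁻¹) := by
    rintro b c g (rfl | h0)
    · exact Or.inl rfl
    · right
      rw [show g * b * g⁻¹ * (g * c * g⁻¹)⁻¹ = g * (b * c⁻¹) * g⁻¹ by group]
      exact tr_conj_of_eq hzero h0 g
  have rinv : ∀ {b c}, rel b c → rel b⁻¹ c⁻¹ := by
    rintro b c (rfl | h0)
    · exact Or.inl rfl
    · right
      rw [inv_inv]
      exact tr_mul_comm_of_eq hzero ((tr_symm _ _).trans h0)
  have rdich : ∀ {b c}, b ^ 3 = 1 → b ≠ 1 → c ^ 3 = 1 → c ≠ 1 → rel b c ∨ rel b c⁻¹ := by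
    intro b c hb hb1 hc hc1
    have h1 := h.tr_mul_eq hb hb1 hc hc1
    rcases ht b c hb hb1 hc hc1 with h2 | h2 | h2 | h2 | h2
    · exact Or.inl (Or.inl (mul_inv_eq_one.mp (h.eq_one_of_tr h2)))
    · rw [h2, show (1 : R) - -1 = 2 by norm_num] at h1
      exact Or.inr (Or.inl (eq_inv_of_mul_eq_one_left (h.eq_one_of_tr h1)))
    · exact Or.inl (Or.inr h2)
    · rw [h2, sub_self] at h1
      exact Or.inr (Or.inr (by rwa [inv_inv]))
    · obtain ⟨x, y, hx, hy, hxy⟩ := h.exists_partner_of_phi hb hb1 hc hc1 h2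
      exact absurd hxy (hno b x y hb hb1 hx hy)
  have rtrans : ∀ {b c d}, b ^ 3 = 1 → b ≠ 1 → c ^ 3 = 1 → c ≠ 1 → d ^ 3 = 1 → d ≠ 1 →
      rel b c → rel b d → rel c d := by
    rintro b c d hb hb1 hc hc1 hd hd1 (rfl | h1) h2
    · exact h2
    rcases h2 with rfl | h2
    · exact rsymm (Or.inr h1)
    have hx := h.inX_of_tr hb hb1 (hinv hc) (inv_ne_one.mpr hc1) h1
    have hy := h.inX_of_tr hb hb1 (hinv hd) (inv_ne_one.mpr hd1) h2
    have e : c * d⁻¹ = (b * c⁻¹)⁻¹ * (b * d⁻¹)⁻¹⁻¹ := by group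
    rcases h.exists_conj ht hb hb1 hx hy with (h4 | h4) | (h4 | h4) | (h4 | h4)
    · exact Or.inl (inv_injective (mul_left_cancel (inv_injective h4)))
    · exact absurd h4 (hno b _ _ hb hb1 hx hy)
    · right
      rw [e, tr_symm, h4, hy.tr_eq hy.conj2, h.map_conj2 hb hb1]
      exact NC.c_orbit2 (h.cube hb hb1) hy.1 hy.2
    · exact absurd h4 (hno b _ _ hb hb1 hx hy.conj2)
    · right
      rw [e, tr_symm, h4, hy.tr_eq hy.conj3, h.map_conj3 hb hb1]
      exact NC.c_orbit3 (h.cube hb hb1) hy.1 hy.2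
    · exact absurd h4 (hno b _ _ hb hb1 hx hy.conj3)
  have hmul : ∀ (g k c : G), c ^ 3 = 1 → c ≠ 1 → rel a (g * c * g⁻¹) → rel c (k * a * k⁻¹) →
      rel a (g * k * a * (g * k)⁻¹) := by
    intro g k c hc hc1 h1 h2
    have h4 := rconj g h2
    rw [show g * (k * a * k⁻¹) * g⁻¹ = g * k * a * (g * k)⁻¹ by group] at h4
    exact rtrans (conj_cube hc g) (conj_ne_one hc1 g) ha ha1 (conj_cube ha _) (conj_ne_one ha1 _)
      (rsymm h1) h4
  let H : Subgroup G :=
    { carrier := {g | rel a (g * a * g⁻¹)}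
      one_mem' := Or.inl (by group)
      mul_mem' := fun {g k} hg hk => hmul g k a ha ha1 hg hk
      inv_mem' := fun {g} hg => by
        have := rsymm (rconj g⁻¹ hg)
        rwa [show g⁻¹ * (g * a * g⁻¹) * g⁻¹⁻¹ = a by group] at this }
  have hH : H = ⊤ := by
    apply eq_top_of_index_dvd_two hp
    rw [index_dvd_two_iff]
    by_cases hall : ∀ g, g ∈ H
    · exact ⟨1, fun b => Or.inr (hall b)⟩
    push Not at hall
    obtain ⟨g, hg⟩ := hall
    refine ⟨g, fun b => or_iff_not_imp_right.mpr fun hb => ?_⟩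
    have h1 := (rdich ha ha1 (conj_cube ha g) (conj_ne_one ha1 g)).resolve_left hg
    have h2 := (rdich ha ha1 (conj_cube ha b) (conj_ne_one ha1 b)).resolve_left hb
    refine hmul b g a⁻¹ (hinv ha) (inv_ne_one.mpr ha1) ?_ ?_
    · rwa [show b * a⁻¹ * b⁻¹ = (b * a * b⁻¹)⁻¹ by group]
    · simpa only [inv_inv] using rinv h1
  have hni : ∀ g : G, g * a * g⁻¹ ≠ a⁻¹ := by
    intro g hg
    have h1 : rel a (g * a * g⁻¹) := (hH ▸ mem_top g : g ∈ H)
    rw [hg] at h1
    rcases h1 with h1 | h1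
    · rw [pow_succ, sq, eq_inv_iff_mul_eq_one.mp h1, one_mul] at ha
      exact ha1 ha
    · rw [inv_inv, eq_inv_of_mul_eq_one_left (show a * a * a = 1 by rw [← ha, pow_succ, sq]),
        tr_inv, h.tr_cube ha ha1] at h1
      exact one_ne_zero (neg_eq_zero.mp h1)
  obtain ⟨P, hP⟩ := (IsPGroup.of_card (n := 1) (G := zpowers a)
    (by rw [Nat.card_zpowers, hao, pow_one])).exists_le_sylow
  have haP : a ∈ (P : Subgroup G) := hP (Subgroup.mem_zpowers a)
  have hc := (hG.isCyclic_of_odd (by norm_num) P.isPGroup').isMulCommutative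
  have h1 := CL.Focal.sylow_inf_centralizer_inf_commutator P hc
  rw [← CL.Focal.commutator_inf_eq_of_abelian_sylow P hc, hp] at h1
  apply ha1
  rw [← mem_bot, ← h1]
  refine ⟨⟨haP, fun n hn => ?_⟩, mem_top _, haP⟩
  have h2 : n * a * n⁻¹ ∈ (P : Subgroup G) := (mem_normalizer_iff.mp hn a).mp haP
  have h4 : Commute a (n * a * n⁻¹) :=
    congrArg Subtype.val (hc.is_comm.comm ⟨a, haP⟩ ⟨_, h2⟩)
  exact mul_inv_eq_iff_eq_mul.mp
    ((h.eq_or_eq_inv ha ha1 (conj_cube ha n) (conj_ne_one ha1 n) h4).resolve_right (hni n))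

end

theorem exists_perfect_of_not_isSolvable [Finite G] (h : ¬ Group.IsSolvable G) :
    ∃ K : Subgroup G, K ≠ ⊥ ∧ _root_.commutator K = ⊤ := by
  obtain ⟨K, hK, hmin⟩ := (wellFounded_lt (α := Subgroup G)).has_min
    {K : Subgroup G | ¬ Group.IsSolvable K} ⟨⊤, fun h1 =>
      h (Group.isSolvable_of_surjective (f := (⊤ : Subgroup G).subtype) fun g => ⟨⟨g, trivial⟩, rfl⟩)⟩
  refine ⟨K, ?_, ?_⟩
  · rintro rfl
    exact hK inferInstance
  · by_contra hne
    apply hK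
    have h1 : Group.IsSolvable ((_root_.commutator K).map K.subtype) := by
      by_contra h1
      exact hmin _ h1 (map_subtype_lt_map_subtype.mpr (lt_top_iff_ne_top.mpr hne) |>.trans_eq
        (by rw [← MonoidHom.range_eq_map, range_subtype]))
    have h2 : Group.IsSolvable (_root_.commutator K) :=
      Group.isSolvable_of_isSolvable_injective
        (f := (equivMapOfInjective _ _ K.subtype_injective).toMonoidHom)
        (MulEquiv.injective _)
    exact Group.isSolvable_of_ker_le_range (_root_.commutator K).subtype Abelianization.of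
      (by rw [Abelianization.ker_of, range_subtype])

/-- Structure of a non-solvable group with a fixed-point-free representation. -/
theorem IsFPF.struct [Finite G] (hG : IsFPF G) (hs : ¬ Group.IsSolvable G) :
    Nonempty (T3 G ≃* SL(2, ZMod 5)) ∧ (T3 G ⊔ centralizer (T3 G : Set G)).index ∣ 2 ∧
      ¬ 3 ∣ Nat.card (centralizer (T3 G : Set G)) := by
  obtain ⟨n, ρ, h⟩ := hG.exists_reg
  obtain ⟨K, hK, hp⟩ := exists_perfect_of_not_isSolvable hs
  have := (nontrivial_iff_ne_bot K).mpr hK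
  have hr : Reg (ρ.comp K.subtype) := fun g hg => h g fun h1 => hg (Subtype.ext h1)
  obtain ⟨a, x, y, ha, ha1, hx, hy, hxy⟩ := exists_partner (hG.subgroup K) hr hr.tri hp
  exact struct_of_partner hG h h.tri (a := a) (x := x) (y := y) (congrArg Subtype.val ha)
    (fun h1 => ha1 (Subtype.ext h1)) hx hy hxy

/-- **Zassenhaus**: a perfect group with a fixed-point-free representation is `SL(2,5)`. -/
theorem IsFPF.perfect [Finite G] [Nontrivial G] (hG : IsFPF G) (hp : _root_.commutator G = ⊤) :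
    Nonempty (G ≃* SL(2, ZMod 5)) := by
  have : Group.IsPerfect G := ⟨hp⟩
  obtain ⟨⟨e⟩, h2, h3⟩ := hG.struct (Group.IsPerfect.not_isSolvable G)
  have h4 := eq_top_of_index_dvd_two hp h2
  have h5 := (hG.subgroup _).isSolvable_of_not_three_dvd h3
  have h6 : Group.IsSolvable (G ⧸ T3 G) := by
    refine Group.isSolvable_of_surjective
      (f := (QuotientGroup.mk' (T3 G)).comp (centralizer (T3 G : Set G)).subtype) fun q => ?_
    obtain ⟨g, rfl⟩ := QuotientGroup.mk_surjective q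
    obtain ⟨l, hl, c, hc, rfl⟩ := mem_sup_of_normal_left.mp (h4 ▸ mem_top g)
    refine ⟨⟨c, hc⟩, ?_⟩
    rw [QuotientGroup.mk_mul, (QuotientGroup.eq_one_iff l).mpr hl, one_mul]
    rfl
  have h7 : T3 G = ⊤ := by
    by_contra hne
    have : Nontrivial (G ⧸ T3 G) := QuotientGroup.nontrivial_iff.mpr hne
    exact Group.IsPerfect.not_isSolvable (G ⧸ T3 G) h6
  exact ⟨(topEquiv.symm.trans (MulEquiv.subgroupCongr h7.symm)).trans e⟩

end CL.FPF
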