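import Cfsg.Agent.Base
import Cfsg.Agent.Perm.Witt

/-!
Passing to the fixed points of a `p`-subgroup of maximal order among those fixing `k + 1` points
in a `k`-transitive group; involutions in groups with odd point stabilisers.
-/

set_option autoImplicit false

namespace CL.Perm

open MulAction Equiv CL.Transfer
open scoped Pointwise

section General

variable {G α : Type*} [Group G] [MulAction G α]

theorem orderOf_dvd_of_induced {q : α → Prop} {σ : Perm {x // q x}} {g : G}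
    (h : ∀ x : {x // q x}, g • (x : α) = σ x) {r : ℕ} (hr : ∀ x, q x → g ^ r • x = x) :
    orderOf σ ∣ r := by
  have key : ∀ (n : ℕ) (x : {x // q x}), g ^ n • (x : α) = (σ ^ n) x := by
    intro n
    induction n with
    | zero => intro x; simp
    | succ n ih => intro x; rw [pow_succ', pow_succ', mul_smul, ih, h]; rfl
  rw [orderOf_dvd_iff_pow_eq_one]
  ext x
  rw [← key, hr x x.2]
  rfl

theorem exists_local [Finite G] [Fintype α] {k : ℕ} (hG : IsMultiplyPretransitive G α k)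
    (hk : k + 1 ≤ Fintype.card α) (p : ℕ) [hp : Fact p.Prime] :
    ∃ (H : Subgroup G) (q : α → Prop), (∀ g ∈ H, ∀ x, q x → q (g • x)) ∧
      k + 1 ≤ Nat.card {x // q x} ∧
      IsMultiplyPretransitive (induced G H q) {x // q x} k ∧
      (∀ σ ∈ induced G H q, ∀ t : Finset {x // q x}, t.card = k + 1 → (∀ x ∈ t, σ x = x) →
        ¬ p ∣ orderOf σ) ∧
      ((∀ σ ∈ induced G H q, ∀ t : Finset {x // q x}, t.card = k → (∀ x ∈ t, σ x = x) →
        ¬ p ∣ orderOf σ) ∨
       (∀ t : Finset {x // q x}, t.card = k →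
        ∃ σ ∈ induced G H q, orderOf σ = p ∧ ∀ x ∈ t, σ x = x)) ∧
      ((∃ g : G, orderOf g = p ∧ ∃ t : Finset α, t.card = k + 1 ∧ ∀ x ∈ t, g • x = x) →
        ∃ u : G, u ≠ 1 ∧ ∀ x, q x → u • x = x) := by
  classical
  let F : Set (Subgroup G) := {R | IsPGroup p R ∧ ∃ t : Finset α, t.card = k + 1 ∧
    ∀ u ∈ R, ∀ x ∈ t, u • x = x}
  have hFne : F.Nonempty := by
    obtain ⟨t, -, ht⟩ := Finset.exists_superset_card_eq (s := (∅ : Finset α)) (n := k + 1)
      (by simp) hk
    exact ⟨⊥, IsPGroup.of_bot, t, ht, fun u hu x _ => by rw [Subgroup.mem_bot.1 hu, one_smul]⟩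
  obtain ⟨Q, ⟨hQ, t₀, ht₀, hQt₀⟩, hmax⟩ := Set.exists_max_image F (fun R => Nat.card R)
    (Set.toFinite F) hFne
  let q : α → Prop := fun x => ∀ u ∈ Q, u • x = x
  let H : Subgroup G := Subgroup.normalizer (Q : Set G)
  have hinv : ∀ g ∈ H, ∀ x, q x → q (g • x) := fun g hg x hx =>
    smul_fixed_of_mem_normalizer hg hx
  have hcard : k + 1 ≤ Nat.card {x // q x} := by
    rw [← ht₀, ← Nat.card_eq_finsetCard]
    exact Nat.card_le_card_of_injective (fun x : t₀ => ⟨x.1, fun u hu => hQt₀ u hu x x.2⟩)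
      fun x y h => Subtype.ext (congrArg (Subtype.val : {x // q x} → α) h)
  -- if `Q` is Sylow in the stabiliser of `t`, induced elements fixing `t` are `p'`-elements
  have hcop : ∀ t : Finset {x // q x},
      IsSylowIn p Q (fixingSubgroup G ((t.map (Function.Embedding.subtype q) : Finset α) : Set α)) →
      ∀ σ ∈ induced G H q, (∀ x ∈ t, σ x = x) → ¬ p ∣ orderOf σ := by
    rintro t hS σ ⟨g, hg, hgσ⟩ hσ
    set K := fixingSubgroup G ((t.map (Function.Embedding.subtype q) : Finset α) : Set α) ⊓ H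
    have hS' : IsSylowIn p Q K := hS.of_le (le_inf hS.le Subgroup.le_normalizer) inf_le_left
    have hgK : g ∈ K := ⟨mem_fixing.2 fun x hx => by
      obtain ⟨y, hy, rfl⟩ := Finset.mem_map.1 hx
      exact (hgσ y).trans (congrArg Subtype.val (hσ y hy)), hg⟩
    have : (Q.subgroupOf K).Normal :=
      Subgroup.normal_subgroupOf_of_le_normalizer inf_le_right
    have h1 : g ^ Q.relIndex K ∈ Q := (Q.subgroupOf K).pow_index_mem ⟨g, hgK⟩
    exact fun hd => hS'.not_dvd (hd.trans (orderOf_dvd_of_induced hgσ fun x hx => hx _ h1))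
  have hle : ∀ t : Finset {x // q x},
      Q ≤ fixingSubgroup G ((t.map (Function.Embedding.subtype q) : Finset α) : Set α) := by
    intro t u hu
    rw [mem_fixing]
    intro x hx
    obtain ⟨y, -, rfl⟩ := Finset.mem_map.1 hx
    exact y.2 u hu
  have hbig : ∀ R : Subgroup G, IsPGroup p R → Q ≤ R → ∀ t : Finset α, t.card = k + 1 →
      (∀ u ∈ R, ∀ x ∈ t, u • x = x) → R = Q := fun R hR hQR t ht hRt =>
    (Subgroup.eq_of_le_of_card_ge hQR (hmax R ⟨hR, t, ht, hRt⟩)).symm
  have hlast : (∃ g : G, orderOf g = p ∧ ∃ t : Finset α, t.card = k + 1 ∧ ∀ x ∈ t, g • x = x) →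
      ∃ u : G, u ≠ 1 ∧ ∀ x, q x → u • x = x := by
    rintro ⟨g, hg, t, ht, hgt⟩
    have h1 := hmax (Subgroup.zpowers g)
      ⟨IsPGroup.of_card (n := 1) (by rw [Nat.card_zpowers, hg, pow_one]), t, ht, fun u hu x hx =>
        mem_fixing.1 ((Subgroup.zpowers_le.2 (mem_fixing.2 hgt) :
          _ ≤ fixingSubgroup G (t : Set α)) hu) x hx⟩
    simp only [Nat.card_zpowers, hg] at h1
    have h2 : Q ≠ ⊥ := by
      rintro rfl
      rw [Subgroup.card_bot] at h1
      exact hp.out.one_lt.not_ge h1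
    obtain ⟨u, hu⟩ := Subgroup.ne_bot_iff_exists_ne_one.1 h2
    exact ⟨u, fun h => hu (Subtype.ext h), fun x hx => hx u u.2⟩
  have hsucc : ∀ σ ∈ induced G H q, ∀ t : Finset {x // q x}, t.card = k + 1 →
      (∀ x ∈ t, σ x = x) → ¬ p ∣ orderOf σ := by
    intro σ hσ t ht hσt
    refine hcop t (isSylowIn_of_maximal hQ (hle t) fun R hR hQR hRt => ?_) σ hσ hσt
    exact (hbig R hR hQR _ (by simpa using ht) fun u hu => mem_fixing.1 (hRt hu)).le
  by_cases hcase : ∃ t : Finset {x // q x}, t.card = k ∧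
      IsSylowIn p Q (fixingSubgroup G ((t.map (Function.Embedding.subtype q) : Finset α) : Set α))
  · obtain ⟨s, hs, hS⟩ := hcase
    refine ⟨H, q, hinv, hcard, witt_induced_multi hG (by simpa using hs) hS, hsucc, Or.inl ?_,
      hlast⟩
    intro σ hσ t ht
    refine hcop t (isSylowIn_fixing_of_card_eq hS (card_fixing_eq_of_multi hG (by simpa using hs)
      (by simpa using ht)) fun u hu => mem_fixing.1 (hle t hu)) σ hσ
  push Not at hcase
  have hR : ∀ t : Finset {x // q x}, t.card = k → ∃ P : Subgroup (induced G H q),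
      IsPGroup p P ∧ ∀ x, (∀ g ∈ P, g • x = x) ↔ x ∈ t := by
    intro t ht
    obtain ⟨S, hS, hQS⟩ := exists_isSylowIn_ge hQ (hle t)
    have hlt : Q < S := lt_of_le_of_ne hQS fun e => hcase t ht (e ▸ hS)
    have hlt' := lt_inf_normalizer hS.isPGroup hlt
    refine ⟨(induced G (S ⊓ H) q).subgroupOf _, ?_, fun x => ⟨fun hx => ?_, fun hx => ?_⟩⟩
    · rintro ⟨⟨σ, hσ⟩, g, hg, hgσ⟩
      obtain ⟨n, hn⟩ := hS.isPGroup ⟨g, hg.1⟩
      have hn' : g ^ p ^ n = 1 := congrArg Subtype.val hn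
      refine ⟨n, Subtype.ext (Subtype.ext ?_)⟩
      exact orderOf_dvd_iff_pow_eq_one.1
        (orderOf_dvd_of_induced hgσ fun x _ => by rw [hn', one_smul])
    · by_contra hxt
      refine hlt'.ne' (hbig _ hS.isPGroup.to_inf_left hlt'.le
        ((insert x t).map (Function.Embedding.subtype q))
        (by rw [Finset.card_map, Finset.card_insert_of_notMem hxt, ht]) fun u hu y hy => ?_)
      obtain ⟨z, hz, rfl⟩ := Finset.mem_map.1 hy
      rcases Finset.mem_insert.1 hz with rfl | hz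
      · obtain ⟨σ, hσ, huσ⟩ := exists_mem_induced' (q := q) hu (hinv u hu.2)
        have := hx ⟨σ, ⟨u, hu.2, huσ⟩⟩ hσ
        exact (huσ z).trans (congrArg Subtype.val this)
      · exact mem_fixing.1 (hS.le hu.1) _ (Finset.mem_map_of_mem _ hz)
    · rintro ⟨σ, hσ⟩ ⟨g, hg, hgσ⟩
      apply Subtype.ext
      exact (hgσ x).symm.trans (mem_fixing.1 (hS.le hg.1) _ (Finset.mem_map_of_mem _ hx))
  have hcard' : k < Fintype.card {x // q x} := by rwa [← Nat.card_eq_fintype_card]
  refine ⟨H, q, hinv, hcard, gleason (p := p) hcard' hR, hsucc, Or.inr fun t ht => ?_, hlast⟩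
  obtain ⟨P, hP, hfix⟩ := hR t ht
  have hP1 : P ≠ ⊥ := by
    rintro rfl
    have : t = Finset.univ := Finset.eq_univ_iff_forall.2 fun x => (hfix x).1 fun g hg => by
      rw [Subgroup.mem_bot.1 hg, one_smul]
    rw [this, Finset.card_univ] at ht
    omega
  have := (Subgroup.nontrivial_iff_ne_bot P).2 hP1
  obtain ⟨n, hn0, hn⟩ := hP.nontrivial_iff_card.1 this
  obtain ⟨σ, hσ⟩ := exists_prime_orderOf_dvd_card' (G := P) p (hn ▸ dvd_pow_self p hn0.ne')
  refine ⟨σ.1.1, σ.1.2, ?_, fun x hx => (hfix x).2 hx σ.1 σ.2⟩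
  rw [Subgroup.orderOf_coe, Subgroup.orderOf_coe, hσ]

/-! ### Involutions -/

theorem pow_odd_smul {g : G} {a : α} (h : g • g • a = a) {o : ℕ} (ho : Odd o) :
    g ^ o • a = g • a := by
  obtain ⟨j, rfl⟩ := ho
  have : (g ^ 2) ^ j • a = a := by
    induction j with
    | zero => simp
    | succ j ih => rw [pow_succ, mul_smul, sq g, mul_smul g g, h, ← sq, ih]
  rw [pow_succ', mul_smul, pow_mul, this]

theorem eq_one_of_mul_self_of_odd {x : G} (hx : x * x = 1) (ho : Odd (orderOf x)) : x = 1 := by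
  have h1 : orderOf x ∣ 2 := orderOf_dvd_of_pow_eq_one (by rw [sq, hx])
  rcases (Nat.dvd_prime Nat.prime_two).1 h1 with h | h
  · exact orderOf_eq_one_iff.1 h
  · rw [h] at ho; exact absurd ho (by decide)

theorem ncard_modEq_of_mul_self [Finite α] {x : G} (hx : x * x = 1) (T : Set α)
    (hT : ∀ a ∈ T, x • a ∈ T) : T.ncard ≡ (T ∩ {a | x • a = a}).ncard [MOD 2] := by
  have : Fact (Nat.Prime 2) := ⟨Nat.prime_two⟩
  have hmem : ∀ g ∈ Subgroup.zpowers x, g = 1 ∨ g = x := by
    intro g hg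
    rw [Subgroup.zpowers_eq_closure] at hg
    induction hg using Subgroup.closure_induction with
    | mem y hy => exact Or.inr hy
    | one => exact Or.inl rfl
    | mul a b _ _ ha hb =>
      rcases ha with rfl | rfl <;> rcases hb with rfl | rfl <;> simp [hx]
    | inv a _ ha =>
      rcases ha with rfl | rfl
      · simp
      · exact Or.inr (inv_eq_of_mul_eq_one_right hx)
  have hP : IsPGroup 2 (Subgroup.zpowers x) := by
    rintro ⟨g, hg⟩
    refine ⟨1, Subtype.ext ?_⟩
    rcases hmem g hg with rfl | rfl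
    · simp
    · simpa [sq] using hx
  have h := ncard_modEq_ncard_inter_fixedPoints hP T (fun g hg a ha => by
    rcases hmem g hg with rfl | rfl
    · rwa [one_smul]
    · exact hT a ha)
  convert h using 3
  ext a
  refine ⟨fun ha g => ?_, fun ha => ha ⟨x, Subgroup.mem_zpowers x⟩⟩
  change (g : G) • a = a
  rcases hmem g g.2 with h | h <;> rw [h]
  · exact one_smul _ _
  · exact ha

variable (G α) in
/-- Elements fixing `k` points have odd order. -/
def OddStab (k : ℕ) : Prop :=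
  ∀ (g : G) (s : Finset α), s.card = k → (∀ x ∈ s, g • x = x) → Odd (orderOf g)

theorem exists_invol_eq {k : ℕ} (hG : IsMultiplyPretransitive G α k) (hodd : OddStab G α k)
    {s : Finset α} (hs : s.card = k) (π : Perm α) (hπ : ∀ a ∈ s, π a ∈ s ∧ π (π a) = a) :
    ∃ x : G, x * x = 1 ∧ ∀ a ∈ s, x • a = π a := by
  obtain ⟨g, hg⟩ := multi_iff_perm.1 hG s hs π
  have h2 : ∀ a ∈ s, g • g • a = a := fun a ha => by
    rw [hg a ha, hg _ (hπ a ha).1, (hπ a ha).2]
  have ho := hodd (g * g) s hs fun a ha => by rw [mul_smul, h2 a ha]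
  refine ⟨g ^ orderOf (g * g), ?_, fun a ha => by rw [pow_odd_smul (h2 a ha) ho, hg a ha]⟩
  rw [← Commute.mul_pow (Commute.refl g), pow_orderOf_eq_one]

theorem exists_invol_commute {k : ℕ} (hG : IsMultiplyPretransitive G α k) (hodd : OddStab G α k)
    {s : Finset α} (hs : s.card = k) (π : Perm α) (hπ : ∀ a ∈ s, π a ∈ s ∧ π (π a) = a)
    {x : G} (hx : x * x = 1) (hxs : ∀ a ∈ s, x • a ∈ s) (hxπ : ∀ a ∈ s, x • π a = π (x • a)) :
    ∃ z : G, z * z = 1 ∧ Commute x z ∧ ∀ a ∈ s, z • a = π a := by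
  obtain ⟨w, hw, hwπ⟩ := exists_invol_eq hG hodd hs π hπ
  have hxx : ∀ a : α, x • x • a = a := fun a => by rw [← mul_smul, hx, one_smul]
  have h2 : ∀ a ∈ s, (x * w) • (x * w) • a = a := fun a ha => by
    rw [mul_smul, mul_smul, hwπ a ha, hwπ _ (hxs _ (hπ a ha).1), ← hxπ _ (hπ a ha).1, hxx,
      (hπ a ha).2]
  have ho := hodd ((x * w) * (x * w)) s hs fun a ha => by rw [mul_smul, h2 a ha]
  set o := orderOf ((x * w) * (x * w))
  have ht : (x * w) ^ o * (x * w) ^ o = 1 := by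
    rw [← Commute.mul_pow (Commute.refl _), pow_orderOf_eq_one]
  have hxi : x⁻¹ = x := inv_eq_of_mul_eq_one_right hx
  have hwi : w⁻¹ = w := inv_eq_of_mul_eq_one_right hw
  have hc : Commute x ((x * w) ^ o) := by
    have h1 : x * (x * w) * x⁻¹ = (x * w)⁻¹ := by
      rw [← mul_assoc, hx, one_mul, mul_inv_rev, hxi, hwi]
    have h3 : x * (x * w) ^ o * x⁻¹ = (x * w) ^ o := by
      rw [← conj_pow, h1, inv_pow, inv_eq_of_mul_eq_one_right ht]
    exact mul_inv_eq_iff_eq_mul.1 h3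
  refine ⟨x * (x * w) ^ o, ?_, (Commute.refl x).mul_right hc, fun a ha => ?_⟩
  · rw [hc.symm.mul_mul_mul_comm, hx, ht, one_mul]
  · rw [mul_smul, pow_odd_smul (h2 a ha) ho, mul_smul, hxx, hwπ a ha]

end General

end CL.Perm
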