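import Cfsg.Agent.Base
import Cfsg.Agent.Perm.Local

/-!
Quadruply transitive groups in which the stabiliser of four points has odd order
(parts of a theorem of Jordan and M. Hall).
-/

set_option autoImplicit false

namespace CL.Perm

open MulAction Equiv CL.Transfer
open scoped Pointwise

section General

variable {G α : Type*} [Group G] [MulAction G α] [DecidableEq α]

theorem card_quad {a b c d : α} (hab : a ≠ b) (hac : a ≠ c) (had : a ≠ d) (hbc : b ≠ c)
    (hbd : b ≠ d) (hcd : c ≠ d) : ({a, b, c, d} : Finset α).card = 4 :=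
  Finset.card_eq_four.2 ⟨a, b, c, d, hab, hac, had, hbc, hbd, hcd, rfl⟩

theorem OddStab.odd_of_four (hodd : OddStab G α 4) {g : G} {a b c d : α} (hab : a ≠ b)
    (hac : a ≠ c) (had : a ≠ d) (hbc : b ≠ c) (hbd : b ≠ d) (hcd : c ≠ d) (ha : g • a = a)
    (hb : g • b = b) (hc : g • c = c) (hd : g • d = d) : Odd (orderOf g) :=
  hodd g _ (card_quad hab hac had hbc hbd hcd) (by simp [ha, hb, hc, hd])

theorem OddStab.eq_one_of_four (hodd : OddStab G α 4) {g : G} (hg : g * g = 1) {a b c d : α}
    (hab : a ≠ b) (hac : a ≠ c) (had : a ≠ d) (hbc : b ≠ c) (hbd : b ≠ d) (hcd : c ≠ d)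
    (ha : g • a = a) (hb : g • b = b) (hc : g • c = c) (hd : g • d = d) : g = 1 :=
  eq_one_of_mul_self_of_odd hg (hodd.odd_of_four hab hac had hbc hbd hcd ha hb hc hd)

theorem four_swap (hG : IsMultiplyPretransitive G α 4) (hodd : OddStab G α 4) {a b c d : α}
    (hab : a ≠ b) (hac : a ≠ c) (had : a ≠ d) (hbc : b ≠ c) (hbd : b ≠ d) (hcd : c ≠ d) :
    ∃ x : G, x * x = 1 ∧ x • a = b ∧ x • b = a ∧ x • c = c ∧ x • d = d := by
  have h1 := swap_apply_of_ne_of_ne hac.symm hbc.symm
  have h2 := swap_apply_of_ne_of_ne had.symm hbd.symm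
  obtain ⟨x, hx, h⟩ := exists_invol_eq hG hodd (card_quad hab hac had hbc hbd hcd) (swap a b)
    (by simp [h1, h2])
  exact ⟨x, hx, by simpa [h1, h2] using h⟩

theorem four_commute (hG : IsMultiplyPretransitive G α 4) (hodd : OddStab G α 4) {a b c d : α}
    (hab : a ≠ b) (hac : a ≠ c) (had : a ≠ d) (hbc : b ≠ c) (hbd : b ≠ d) (hcd : c ≠ d)
    {x : G} (hx : x * x = 1) (hxab : (x • a = a ∧ x • b = b) ∨ (x • a = b ∧ x • b = a))
    (hxc : x • c = d) (hxd : x • d = c) :
    ∃ z : G, z * z = 1 ∧ Commute x z ∧ z • a = b ∧ z • b = a ∧ z • c = c ∧ z • d = d := by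
  have h1 := swap_apply_of_ne_of_ne hac.symm hbc.symm
  have h2 := swap_apply_of_ne_of_ne had.symm hbd.symm
  obtain ⟨z, hz, hc, h⟩ := exists_invol_commute hG hodd (card_quad hab hac had hbc hbd hcd)
    (swap a b) (by simp [h1, h2]) hx
    (by rcases hxab with h | h <;> simp [h.1, h.2, hxc, hxd])
    (by rcases hxab with h | h <;> simp [h.1, h.2, hxc, hxd, h1, h2])
  exact ⟨z, hz, hc, by simpa [h1, h2] using h⟩

omit [DecidableEq α] in
theorem smul_fixed_of_commute {x y : G} (h : Commute x y) {a : α} (ha : x • a = a) :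
    x • y • a = y • a := by
  rw [← mul_smul, h.eq, mul_smul, ha]

omit [DecidableEq α] in
theorem invol_smul_smul {x : G} (hx : x * x = 1) (a : α) : x • x • a = a := by
  rw [← mul_smul, hx, one_smul]

variable [Fintype α]

/-- in even degree a non-trivial involution with two fixed points has no third one -/
theorem OddStab.eq_or_eq_of_even (hodd : OddStab G α 4) (hev : Even (Fintype.card α)) {x : G}
    (hx : x * x = 1) (hx1 : x ≠ 1) {c d e : α} (hcd : c ≠ d) (hc : x • c = c) (hd : x • d = d)
    (he : x • e = e) : e = c ∨ e = d := by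
  by_contra hne
  rw [not_or] at hne
  have h := ncard_modEq_of_mul_self hx (Set.univ : Set α) (fun _ _ => Set.mem_univ _)
  rw [Set.univ_inter, Set.ncard_univ, Nat.card_eq_fintype_card] at h
  have hsub : (({c, d, e} : Finset α) : Set α) ⊆ {a | x • a = a} := by
    intro a ha
    simp only [Finset.coe_insert, Finset.coe_singleton, Set.mem_insert_iff,
      Set.mem_singleton_iff] at ha
    rcases ha with rfl | rfl | rfl <;> assumption
  have h3 : ({c, d, e} : Finset α).card = 3 :=
    Finset.card_eq_three.2 ⟨c, d, e, hcd, Ne.symm hne.1, Ne.symm hne.2, rfl⟩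
  have hss : (({c, d, e} : Finset α) : Set α) ≠ {a | x • a = a} := by
    intro e'
    rw [← e', Set.ncard_coe_finset, h3] at h
    obtain ⟨r, hr⟩ := hev
    unfold Nat.ModEq at h
    omega
  obtain ⟨f, hf, hfn⟩ := Set.exists_of_ssubset (hsub.ssubset_of_ne hss)
  simp only [Finset.coe_insert, Finset.coe_singleton, Set.mem_insert_iff,
    Set.mem_singleton_iff, not_or] at hfn
  exact hx1 (hodd.eq_one_of_four hx hcd (Ne.symm hne.1) (Ne.symm hfn.1) (Ne.symm hne.2)
    (Ne.symm hfn.2.1) (Ne.symm hfn.2.2) hc hd he hf)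

/-- in odd degree an involution with two fixed points has a third one -/
theorem exists_third_fixed_of_odd (hod : Odd (Fintype.card α)) {x : G}
    (hx : x * x = 1) {c d : α} (hcd : c ≠ d) (hc : x • c = c) (hd : x • d = d) :
    ∃ e, e ≠ c ∧ e ≠ d ∧ x • e = e := by
  have h := ncard_modEq_of_mul_self hx (Set.univ : Set α) (fun _ _ => Set.mem_univ _)
  rw [Set.univ_inter, Set.ncard_univ, Nat.card_eq_fintype_card] at h
  by_contra hne
  push Not at hne
  have : {a | x • a = a} = {c, d} := by
    ext a
    simp only [Set.mem_ofPred_eq, Set.mem_insert_iff, Set.mem_singleton_iff]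
    constructor
    · intro ha
      by_contra hh
      rw [not_or] at hh
      exact hne a hh.1 hh.2 ha
    · rintro (rfl | rfl) <;> assumption
  rw [this, Set.ncard_pair hcd] at h
  obtain ⟨r, hr⟩ := hod
  unfold Nat.ModEq at h
  omega

/-- Odd degree, five-point stabilisers trivial: degree at most 11. -/
theorem card_le_eleven_of_odd (hG : IsMultiplyPretransitive G α 4) (hodd : OddStab G α 4)
    (h5 : ∀ (g : G) (s : Finset α), s.card = 5 → (∀ x ∈ s, g • x = x) → g = 1)
    (hod : Odd (Fintype.card α)) : Fintype.card α ≤ 11 := by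
  by_contra hN
  obtain ⟨a, b, c, d, -, -, -, -, hab, hac, had, hbc, hbd, hcd⟩ := Finset.three_lt_card_iff.1
    (show 3 < (Finset.univ : Finset α).card by rw [Finset.card_univ]; omega)
  obtain ⟨x, hx, hxa, hxb, hxc, hxd⟩ := four_swap hG hodd hab hac had hbc hbd hcd
  obtain ⟨e, hec, hed, hxe⟩ := exists_third_fixed_of_odd hod hx hcd hxc hxd
  have hx1 : x ≠ 1 := by rintro rfl; exact hab (by simpa using hxa)
  have hea : e ≠ a := by rintro rfl; exact hab (hxe.symm.trans hxa)
  have heb : e ≠ b := by rintro rfl; exact hab (hxb.symm.trans hxe)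
  have hfix : ∀ f, x • f = f → f = c ∨ f = d ∨ f = e := by
    intro f hf
    by_contra hh
    simp only [not_or] at hh
    exact hx1 (hodd.eq_one_of_four hx hcd hec.symm (Ne.symm hh.1) hed.symm (Ne.symm hh.2.1)
      (Ne.symm hh.2.2) hxc hxd hxe hf)
  set T : Finset α := ({a, b, c, d, e} : Finset α)ᶜ with hT
  have hmemT : ∀ i, i ∈ T ↔ i ≠ a ∧ i ≠ b ∧ i ≠ c ∧ i ≠ d ∧ i ≠ e := by
    intro i; simp [hT]
  have hxT : ∀ i ∈ T, x • i ∈ T ∧ x • i ≠ i := by
    intro i hi
    rw [hmemT] at hi ⊢
    obtain ⟨h1, h2, h3, h4, h5⟩ := hi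
    refine ⟨⟨fun h => h2 ?_, fun h => h1 ?_, fun h => h3 ?_, fun h => h4 ?_, fun h => h5 ?_⟩,
      fun h => ?_⟩
    · exact smul_left_cancel x (h.trans hxb.symm)
    · exact smul_left_cancel x (h.trans hxa.symm)
    · exact smul_left_cancel x (h.trans hxc.symm)
    · exact smul_left_cancel x (h.trans hxd.symm)
    · exact smul_left_cancel x (h.trans hxe.symm)
    · rcases hfix i h with h | h | h <;> contradiction
  have hy : ∀ i ∈ T, ∃ y : G, y * y = 1 ∧ Commute x y ∧ y • a = b ∧ y • b = a ∧ y • i = i ∧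
      y • x • i = x • i := by
    intro i hi
    have h1 := (hmemT i).1 hi
    have h2 := (hmemT _).1 (hxT i hi).1
    exact four_commute hG hodd hab h1.1.symm h2.1.symm h1.2.1.symm h2.2.1.symm (hxT i hi).2.symm
      hx (Or.inr ⟨hxa, hxb⟩) rfl (invol_smul_smul hx i)
  choose! y hy2 hyc hya hyb hyi hyx using hy
  have hy1 : ∀ i ∈ T, y i ≠ 1 := by
    intro i hi h
    have := hya i hi
    rw [h, one_smul] at this
    exact hab this
  -- `y i` fixes at most one of `c, d, e`
  have hone : ∀ i ∈ T, ∀ u v : α, x • u = u → x • v = v → u ≠ v → y i • u = u → y i • v = v →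
      False := by
    intro i hi u v hu hv huv h1 h2
    have hxi := (hxT i hi).2
    have hxi' : x • x • i ≠ x • i := fun h => hxi (smul_left_cancel x h)
    exact hy1 i hi (hodd.eq_one_of_four (hy2 i hi) huv (by rintro rfl; exact hxi hu)
      (by rintro rfl; exact hxi' hu) (by rintro rfl; exact hxi hv) (by rintro rfl; exact hxi' hv)
      hxi.symm h1 h2 (hyi i hi) (hyx i hi))
  have hdet : ∀ i ∈ T, (y i • c = c ∧ y i • d = e ∧ y i • e = d) ∨
      (y i • c = d ∧ y i • d = c ∧ y i • e = e) ∨ (y i • c = e ∧ y i • d = d ∧ y i • e = c) := by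
    intro i hi
    have hinv := invol_smul_smul (α := α) (hy2 i hi)
    have hc := hfix _ (smul_fixed_of_commute (hyc i hi) hxc)
    have hd := hfix _ (smul_fixed_of_commute (hyc i hi) hxd)
    have he := hfix _ (smul_fixed_of_commute (hyc i hi) hxe)
    rcases hc with hc | hc | hc
    · left
      rcases hd with hd | hd | hd
      · exact (hcd (smul_left_cancel _ (hc.trans hd.symm))).elim
      · exact (hone i hi c d hxc hxd hcd hc hd).elim
      · exact ⟨hc, hd, by rw [← hd, hinv]⟩
    · right; left
      have hd' : y i • d = c := by rw [← hc, hinv]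
      rcases he with he | he | he
      · exact (hed (smul_left_cancel _ (he.trans hd'.symm))).elim
      · exact (hec (smul_left_cancel _ (he.trans hc.symm))).elim
      · exact ⟨hc, hd', he⟩
    · right; right
      have he' : y i • e = c := by rw [← hc, hinv]
      rcases hd with hd | hd | hd
      · exact (hed (smul_left_cancel _ (he'.trans hd.symm))).elim
      · exact ⟨hc, hd, he'⟩
      · exact (hcd (smul_left_cancel _ (hc.trans hd.symm))).elim
  have hcard5 : ({a, b, c, d, e} : Finset α).card = 5 := by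
    rw [Finset.card_insert_of_notMem (by simp [hab, hac, had, hea.symm]),
      card_quad hbc hbd heb.symm hcd hec.symm hed.symm]
  have hle := Finset.card_le_mul_card_image_of_maps_to (s := T) (t := {c, d, e})
    (f := fun i => y i • c) (fun i hi => by
      rcases hdet i hi with h | h | h <;> simp [h.1]) 2 (by
      intro u _
      by_contra hlt
      obtain ⟨i, j, l, hi, hj, hl, hij, hil, hjl⟩ := Finset.two_lt_card_iff.1 (not_le.1 hlt)
      simp only [Finset.mem_filter] at hi hj hl
      have key : ∀ j ∈ T, y j • c = y i • c → j = i ∨ j = x • i := by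
        intro j hj hji
        have he : y j * y i = 1 := by
          refine h5 _ _ hcard5 ?_
          have hinv := invol_smul_smul (α := α) (hy2 j hj)
          simp only [Finset.mem_insert, Finset.mem_singleton, forall_eq_or_imp, forall_eq,
            mul_smul, hya i hi.1, hyb i hi.1, hya j hj, hyb j hj, true_and]
          rcases hdet i hi.1 with h | h | h <;> rcases hdet j hj with h' | h' | h' <;>
            simp only [h.1, h.2.1, h.2.2, h'.1, h'.2.1, h'.2.2, and_self] <;>
            rw [h.1, h'.1] at hji <;> simp_all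
        have he' : y j = y i := by
          rw [← mul_one (y j), ← hy2 i hi.1, ← mul_assoc, he, one_mul]
        by_contra hh
        rw [not_or] at hh
        have hxi := (hxT i hi.1).2
        refine hy1 i hi.1 (hodd.eq_one_of_four (hy2 i hi.1) (a := i) (b := x • i) (c := j)
          (d := x • j) hxi.symm (Ne.symm hh.1) ?_ (Ne.symm hh.2) ?_ (hxT j hj).2.symm
          (hyi i hi.1) (hyx i hi.1) (he' ▸ hyi j hj) (he' ▸ hyx j hj))
        · intro h; exact hh.2 (by rw [h, invol_smul_smul hx])
        · intro h; exact hh.1 (smul_left_cancel x h).symm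
      rcases key j hj.1 (hj.2.trans hi.2.symm) with h | h
      · exact hij h.symm
      rcases key l hl.1 (hl.2.trans hi.2.symm) with h' | h'
      · exact hil h'.symm
      · exact hjl (h.trans h'.symm))
  have h3 : ({c, d, e} : Finset α).card ≤ 3 := Finset.card_le_three
  rw [hT, Finset.card_compl, hcard5] at hle
  omega

omit [DecidableEq α] [Fintype α] in
theorem OddStab.odd_card_fixing [Finite G] {k : ℕ} (hodd : OddStab G α k) {s : Finset α}
    (hs : s.card = k) : Odd (Nat.card (fixingSubgroup G (s : Set α))) := by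
  by_contra h
  rw [Nat.not_odd_iff_even] at h
  have : Fact (Nat.Prime 2) := ⟨Nat.prime_two⟩
  obtain ⟨g, hg⟩ := exists_prime_orderOf_dvd_card' 2 h.two_dvd
  have := hodd g s hs (mem_fixing.1 g.2)
  rw [Subgroup.orderOf_coe, hg] at this
  exact absurd this (by decide)

omit [DecidableEq α] [Fintype α] in
theorem OddStab.odd_card_orbit [Finite G] {k : ℕ} (hodd : OddStab G α k) {s : Finset α}
    (hs : s.card = k) (a : α) : Odd (orbit (fixingSubgroup G (s : Set α)) a).ncard := by
  have h := hodd.odd_card_fixing hs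
  rw [← Nat.card_congr (orbitProdStabilizerEquivGroup _ a), Nat.card_prod] at h
  exact Nat.Odd.of_mul_left h

/-- Even degree, five-point stabilisers trivial: degree at most 6. -/
theorem card_le_six_of_even_of_five [Finite G] (hG : IsMultiplyPretransitive G α 4)
    (hodd : OddStab G α 4)
    (h5 : ∀ (g : G) (s : Finset α), s.card = 5 → (∀ x ∈ s, g • x = x) → g = 1)
    (hev : Even (Fintype.card α)) : Fintype.card α ≤ 6 := by
  classical
  by_contra hN
  have := Fintype.ofFinite G
  -- main claim
  have key : ∀ a b c d : α, a ≠ b → a ≠ c → a ≠ d → b ≠ c → b ≠ d → c ≠ d → ∀ x : G, x * x = 1 →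
      x • a = b → x • b = a → x • c = c → x • d = d →
      (∀ δ : G, δ • a = a → δ • b = b → δ • c = c → δ • d = d → Commute x δ) ∧
      Fintype.card α - 4 ≤
        2 * Nat.card (fixingSubgroup G (({a, b, c, d} : Finset α) : Set α)) ∧
      ∃ (i : α) (y : G), i ∉ ({a, b, c, d} : Finset α) ∧ y * y = 1 ∧ Commute x y ∧ y • a = b ∧
        y • b = a ∧ y • c = d ∧ y • d = c ∧ y • i = i ∧ y • x • i = x • i := by
    intro a b c d hab hac had hbc hbd hcd x hx hxa hxb hxc hxd
    have hx1 : x ≠ 1 := by rintro rfl; exact hab (by simpa using hxa)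
    have hfix : ∀ f, x • f = f → f = c ∨ f = d := fun f hf =>
      hodd.eq_or_eq_of_even hev hx hx1 hcd hxc hxd hf
    have hc4 := card_quad hab hac had hbc hbd hcd
    set T : Finset α := ({a, b, c, d} : Finset α)ᶜ with hT
    have hTc : T.card = Fintype.card α - 4 := by rw [hT, Finset.card_compl, hc4]
    have hmemT : ∀ i, i ∈ T ↔ i ≠ a ∧ i ≠ b ∧ i ≠ c ∧ i ≠ d := by
      intro i; simp [hT]
    have hxT : ∀ i ∈ T, x • i ∈ T ∧ x • i ≠ i := by
      intro i hi
      rw [hmemT] at hi ⊢
      obtain ⟨h1, h2, h3, h4⟩ := hi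
      refine ⟨⟨fun h => h2 ?_, fun h => h1 ?_, fun h => h3 ?_, fun h => h4 ?_⟩, fun h => ?_⟩
      · exact smul_left_cancel x (h.trans hxb.symm)
      · exact smul_left_cancel x (h.trans hxa.symm)
      · exact smul_left_cancel x (h.trans hxc.symm)
      · exact smul_left_cancel x (h.trans hxd.symm)
      · rcases hfix i h with h | h <;> contradiction
    have hy : ∀ i ∈ T, ∃ y : G, y * y = 1 ∧ Commute x y ∧ y • a = b ∧ y • b = a ∧
        y • c = d ∧ y • d = c ∧ y • i = i ∧ y • x • i = x • i := by
      intro i hi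
      have h1 := (hmemT i).1 hi
      have h2 := (hmemT _).1 (hxT i hi).1
      obtain ⟨y, hy2, hyc, hya, hyb, hyi, hyx⟩ := four_commute hG hodd hab h1.1.symm h2.1.symm
        h1.2.1.symm h2.2.1.symm (hxT i hi).2.symm hx (Or.inr ⟨hxa, hxb⟩) rfl
        (invol_smul_smul hx i)
      have hc := hfix _ (smul_fixed_of_commute hyc hxc)
      have hd := hfix _ (smul_fixed_of_commute hyc hxd)
      have hc' : y • c = d := by
        refine hc.resolve_left fun hc => ?_
        have hd' : y • d = d :=
          hd.resolve_left fun hd => hcd (smul_left_cancel _ (hc.trans hd.symm))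
        have := hodd.eq_one_of_four hy2 hcd h1.2.2.1.symm h2.2.2.1.symm h1.2.2.2.symm
          h2.2.2.2.symm (hxT i hi).2.symm hc hd' hyi hyx
        rw [this, one_smul] at hya
        exact hab hya
      exact ⟨y, hy2, hyc, hya, hyb, hc', by rw [← hc', invol_smul_smul hy2], hyi, hyx⟩
    choose! y hy2 hyc hya hyb hycd hydc hyi hyx using hy
    obtain ⟨i₀, hi₀⟩ := Finset.card_pos.1 (show 0 < T.card by omega)
    set D : Finset G := Finset.univ.filter
      (· ∈ fixingSubgroup G (({a, b, c, d} : Finset α) : Set α)) with hD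
    have hDc : D.card = Nat.card (fixingSubgroup G (({a, b, c, d} : Finset α) : Set α)) := by
      rw [Nat.card_eq_fintype_card, Fintype.card_subtype]
    have hmemD : ∀ δ, δ ∈ D ↔ δ • a = a ∧ δ • b = b ∧ δ • c = c ∧ δ • d = d := by
      intro δ
      rw [hD, Finset.mem_filter, mem_fixing]
      simp
    have hle := Finset.card_le_mul_card_image_of_maps_to (s := T) (t := D.filter (Commute x ·))
      (f := fun i => y i₀ * y i) (fun i hi => by
        rw [Finset.mem_filter, hmemD]
        refine ⟨?_, (hyc i₀ hi₀).mul_right (hyc i hi)⟩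
        simp only [mul_smul, hya i hi, hyb i hi, hycd i hi, hydc i hi, hya i₀ hi₀, hyb i₀ hi₀,
          hycd i₀ hi₀, hydc i₀ hi₀, and_self]) 2 (by
        intro u _
        by_contra hlt
        obtain ⟨i, j, l, hi, hj, hl, hij, hil, hjl⟩ := Finset.two_lt_card_iff.1 (not_le.1 hlt)
        simp only [Finset.mem_filter] at hi hj hl
        have hy1 : y i ≠ 1 := by
          intro h
          have := hya i hi.1
          rw [h, one_smul] at this
          exact hab this
        have e1 : y j = y i := mul_left_cancel (hj.2.trans hi.2.symm)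
        have e2 : y l = y i := mul_left_cancel (hl.2.trans hi.2.symm)
        rcases hodd.eq_or_eq_of_even hev (hy2 i hi.1) hy1 hij (hyi i hi.1) (e1 ▸ hyi j hj.1)
          (e2 ▸ hyi l hl.1) with h | h
        · exact hil h.symm
        · exact hjl h.symm)
    have hsub : D.filter (Commute x ·) ⊆ D := Finset.filter_subset _ _
    have hle2 := Finset.card_le_card hsub
    -- `2 * |D| ≤ |T|`
    have horb : ∀ i ∈ T, (orbit (fixingSubgroup G (({a, b, c, d} : Finset α) : Set α)) i).ncard
        = D.card ∧ orbit (fixingSubgroup G (({a, b, c, d} : Finset α) : Set α)) i ⊆ T := by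
      intro i hi
      constructor
      · have h1 := card_fixing_eq_card_orbit_mul (G := G) {a, b, c, d} i
        have h2 : fixingSubgroup G ((insert i {a, b, c, d} : Finset α) : Set α) = ⊥ := by
          rw [eq_bot_iff]
          intro g hg
          exact h5 g _ (by rw [Finset.card_insert_of_notMem (Finset.mem_compl.1 hi), hc4])
            (mem_fixing.1 hg)
        rw [h2, Subgroup.card_bot, mul_one, Nat.card_coe_set_eq] at h1
        rw [hDc, h1]
      · rintro _ ⟨g, rfl⟩
        refine Finset.mem_coe.2 (Finset.mem_compl.2 fun hx => Finset.mem_compl.1 hi ?_)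
        have := mem_fixing.1 g.2 _ hx
        exact smul_left_cancel (g : G) this ▸ hx
    have hDodd : Odd D.card := hDc ▸ hodd.odd_card_fixing hc4
    have h2D : 2 * D.card ≤ T.card := by
      obtain ⟨h1, h2⟩ := horb i₀ hi₀
      have hne : orbit (fixingSubgroup G (({a, b, c, d} : Finset α) : Set α)) i₀ ≠ T := by
        intro e
        rw [e, Set.ncard_coe_finset, hTc] at h1
        obtain ⟨r, hr⟩ := hev
        obtain ⟨r', hr'⟩ := hDodd
        omega
      obtain ⟨j, hj, hjn⟩ := Set.exists_of_ssubset (h2.ssubset_of_ne hne)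
      obtain ⟨h3, h4⟩ := horb j hj
      have hdis : Disjoint (orbit (fixingSubgroup G (({a, b, c, d} : Finset α) : Set α)) i₀)
          (orbit (fixingSubgroup G (({a, b, c, d} : Finset α) : Set α)) j) := by
        refine (orbit.eq_or_disjoint _ _).resolve_left fun e => hjn ?_
        rw [e]; exact mem_orbit_self j
      have := Set.ncard_le_ncard (Set.union_subset h2 h4)
      rw [Set.ncard_union_eq hdis, h1, h3, Set.ncard_coe_finset] at this
      omega
    have heq := Finset.eq_of_subset_of_card_le hsub (by omega)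
    refine ⟨fun δ h1 h2 h3 h4 => ?_, by omega, i₀, y i₀, Finset.mem_compl.1 hi₀, hy2 _ hi₀,
      hyc _ hi₀, hya _ hi₀, hyb _ hi₀, hycd _ hi₀, hydc _ hi₀, hyi _ hi₀, hyx _ hi₀⟩
    have : δ ∈ D.filter (Commute x ·) := by rw [heq, hmemD]; exact ⟨h1, h2, h3, h4⟩
    exact (Finset.mem_filter.1 this).2
  obtain ⟨a, b, c, d, -, -, -, -, hab, hac, had, hbc, hbd, hcd⟩ := Finset.three_lt_card_iff.1
    (show 3 < (Finset.univ : Finset α).card by rw [Finset.card_univ]; omega)
  obtain ⟨x, hx, hxa, hxb, hxc, hxd⟩ := four_swap hG hodd hab hac had hbc hbd hcd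
  obtain ⟨hcx, hle, i, y, hi, hy2, hyc, hya, hyb, hycd, hydc, hyi, hyx⟩ :=
    key a b c d hab hac had hbc hbd hcd x hx hxa hxb hxc hxd
  obtain ⟨hcz, -, -⟩ := key c d a b hcd hac.symm hbc.symm had.symm hbd.symm hab (x * y)
    (by rw [hyc.symm.mul_mul_mul_comm, hx, hy2, mul_one]) (by rw [mul_smul, hycd, hxd])
    (by rw [mul_smul, hydc, hxc]) (by rw [mul_smul, hya, hxb]) (by rw [mul_smul, hyb, hxa])
  have hx1 : x ≠ 1 := by rintro rfl; exact hab (by simpa using hxa)
  have hy1 : y ≠ 1 := by rintro rfl; exact hab (by simpa using hya)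
  have hxi : x • i ≠ i := by
    intro h
    rcases hodd.eq_or_eq_of_even hev hx hx1 hcd hxc hxd h with h | h <;> simp [h] at hi
  have hbot : fixingSubgroup G (({a, b, c, d} : Finset α) : Set α) = ⊥ := by
    rw [eq_bot_iff]
    intro δ hδ
    have hδ' := mem_fixing.1 hδ
    simp only [Finset.mem_insert, Finset.mem_singleton, forall_eq_or_imp, forall_eq] at hδ'
    obtain ⟨h1, h2, h3, h4⟩ := hδ'
    have c1 := hcx δ h1 h2 h3 h4
    have c2 : Commute y δ := by
      have := c1.mul_left (hcz δ h3 h4 h1 h2)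
      rwa [← mul_assoc, hx, one_mul] at this
    have hδi : δ • δ • i = i := by
      rcases hodd.eq_or_eq_of_even hev hy2 hy1 hxi.symm hyi hyx (smul_fixed_of_commute c2 hyi)
        with h | h
      · rw [h, h]
      · rw [h, ← mul_smul, ← c1.eq, mul_smul, h, invol_smul_smul hx]
    have := h5 (δ * δ) (insert i {a, b, c, d})
      (by rw [Finset.card_insert_of_notMem hi, card_quad hab hac had hbc hbd hcd])
      (by simp [mul_smul, hδi, h1, h2, h3, h4])
    exact hodd.eq_one_of_four this hab hac had hbc hbd hcd h1 h2 h3 h4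
  rw [hbot, Subgroup.card_bot] at hle
  omega

end General

end CL.Perm
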