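import Cfsg.Agent.Base
import Cfsg.Agent.Perm.Hall4

/-!
Quadruply transitive groups of even degree in which the stabiliser of four points has odd order
have degree at most six (part of a theorem of M. Hall), and the passage to point stabilisers.
-/

set_option autoImplicit false

namespace CL.Perm

open MulAction Equiv CL.Transfer
open scoped Pointwise

section General

variable {G α : Type*} [Group G] [MulAction G α]

theorem exists_smul_four (hG : IsMultiplyPretransitive G α 4) {a b c d a' b' c' d' : α}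
    (hab : a ≠ b) (hac : a ≠ c) (had : a ≠ d) (hbc : b ≠ c) (hbd : b ≠ d) (hcd : c ≠ d)
    (hab' : a' ≠ b') (hac' : a' ≠ c') (had' : a' ≠ d') (hbc' : b' ≠ c') (hbd' : b' ≠ d')
    (hcd' : c' ≠ d') : ∃ g : G, g • a = a' ∧ g • b = b' ∧ g • c = c' ∧ g • d = d' := by
  have h1 : Function.Injective ![a, b, c, d] := by
    intro i j h
    fin_cases i <;> fin_cases j <;> simp_all [eq_comm]
  have h2 : Function.Injective ![a', b', c', d'] := by
    intro i j h
    fin_cases i <;> fin_cases j <;> simp_all [eq_comm]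
  obtain ⟨g, hg⟩ := isMultiplyPretransitive_iff.1 hG ⟨_, h1⟩ ⟨_, h2⟩
  have h := fun i => congrArg (fun f : Fin 4 ↪ α => f i) hg
  exact ⟨g, h 0, h 1, h 2, h 3⟩

theorem smul_mem_orbit_fixing {s : Finset α} {x y : G} (hxy : ∀ a ∈ s, x • a = y • a)
    (hs : ∀ a ∈ s, y⁻¹ • a ∈ s) {e : α} (he : y • e = e) :
    ∀ b ∈ orbit (fixingSubgroup G (s : Set α)) e, x • b ∈ orbit (fixingSubgroup G (s : Set α)) e := by
  rintro _ ⟨k, rfl⟩
  refine ⟨⟨x * k * y⁻¹, mem_fixing.2 fun a ha => ?_⟩, ?_⟩
  · rw [mul_smul, mul_smul, mem_fixing.1 k.2 _ (hs a ha), hxy _ (hs a ha), smul_inv_smul]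
  · change (x * k * y⁻¹) • e = x • (k : G) • e
    rw [mul_smul, mul_smul, inv_smul_eq_iff.2 he.symm]

theorem OddStab.induced {k : ℕ} (hodd : OddStab G α k) (H : Subgroup G) (q : α → Prop) :
    OddStab (induced G H q) {x // q x} k := by
  rintro ⟨σ, g, hg, hgσ⟩ s hs hσ
  have h := hodd g (s.map (Function.Embedding.subtype q)) (by simpa using hs) (by
    intro x hx
    obtain ⟨y, hy, rfl⟩ := Finset.mem_map.1 hx
    exact (hgσ y).trans (congrArg Subtype.val (hσ y hy)))
  rw [← Subgroup.orderOf_coe]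
  exact h.of_dvd_nat (orderOf_dvd_of_induced hgσ fun x _ => by rw [pow_orderOf_eq_one, one_smul])

/-- the key step in even degree: a configuration coming from `A₆` is impossible for large degree -/
theorem card_le_six_of_klein [Finite G] [Fintype α] [DecidableEq α]
    (hG : IsMultiplyPretransitive G α 4) (hodd : OddStab G α 4) (hev : Even (Fintype.card α))
    {a₀ b₀ c₀ d₀ e₀ : α} (hab₀ : a₀ ≠ b₀) (hac₀ : a₀ ≠ c₀) (had₀ : a₀ ≠ d₀) (hbc₀ : b₀ ≠ c₀)
    (hbd₀ : b₀ ≠ d₀) (hcd₀ : c₀ ≠ d₀) {y₀ w₀ : G} (hy₁ : y₀ • a₀ = b₀) (hy₂ : y₀ • b₀ = a₀)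
    (hy₃ : y₀ • c₀ = d₀) (hy₄ : y₀ • d₀ = c₀) (hy₅ : y₀ • e₀ = e₀) (hw₁ : w₀ • a₀ = c₀)
    (hw₂ : w₀ • b₀ = d₀) (hw₃ : w₀ • c₀ = a₀) (hw₄ : w₀ • d₀ = b₀) (hw₅ : w₀ • e₀ = e₀) :
    Fintype.card α ≤ 6 := by
  by_contra hN
  have hN8 : 8 ≤ Fintype.card α := by obtain ⟨r, hr⟩ := hev; omega
  obtain ⟨x, hx, hxa, hxb, hxc, hxd⟩ := four_swap hG hodd hab₀ hac₀ had₀ hbc₀ hbd₀ hcd₀
  obtain ⟨z, hz, hxz, hzc, hzd, hza, hzb⟩ := four_commute hG hodd hcd₀ hac₀.symm hbc₀.symm
    had₀.symm hbd₀.symm hab₀ hx (Or.inl ⟨hxc, hxd⟩) hxa hxb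
  have hx1 : x ≠ 1 := by rintro rfl; exact hab₀ (by simpa using hxa)
  have hz1 : z ≠ 1 := by rintro rfl; exact hcd₀ (by simpa using hzc)
  have hy : (x * z) * (x * z) = 1 := by rw [hxz.symm.mul_mul_mul_comm, hx, hz, mul_one]
  have hy1 : x * z ≠ 1 := by
    intro h
    have : (x * z) • a₀ = b₀ := by rw [mul_smul, hza, hxa]
    rw [h, one_smul] at this
    exact hab₀ this
  have hF : (Finset.univ.filter fun a : α => (x * z) • a = a).card ≤ 3 := by
    by_contra h
    obtain ⟨t, ht, ht4⟩ := Finset.exists_subset_card_eq (n := 4) (not_le.1 h)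
    exact hy1 (eq_one_of_mul_self_of_odd hy
      (hodd _ t ht4 fun a ha => (Finset.mem_filter.1 (ht ha)).2))
  obtain ⟨h, -, hh⟩ := Finset.exists_mem_notMem_of_card_lt_card
    (s := {a₀, b₀, c₀, d₀} ∪ Finset.univ.filter fun a : α => (x * z) • a = a) (t := Finset.univ)
    (by
      have h1 := Finset.card_union_le ({a₀, b₀, c₀, d₀} : Finset α)
        (Finset.univ.filter fun a : α => (x * z) • a = a)
      rw [card_quad hab₀ hac₀ had₀ hbc₀ hbd₀ hcd₀] at h1
      rw [Finset.card_univ]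
      omega)
  simp only [Finset.mem_union, Finset.mem_insert, Finset.mem_singleton, Finset.mem_filter,
    Finset.mem_univ, true_and, not_or] at hh
  obtain ⟨⟨hha, hhb, hhc, hhd⟩, hyh⟩ := hh
  have hxh : x • h ≠ h := fun e => by
    rcases hodd.eq_or_eq_of_even hev hx hx1 hcd₀ hxc hxd e with e | e <;> contradiction
  have hzh : z • h ≠ h := fun e => by
    rcases hodd.eq_or_eq_of_even hev hz hz1 hab₀ hza hzb e with e | e <;> contradiction
  have hxzh : x • z • h = z • x • h := by rw [← mul_smul, hxz.eq, mul_smul]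
  rw [mul_smul] at hyh
  have e1 : x • h ≠ z • h := fun e => hyh (by rw [← e, invol_smul_smul hx])
  have e2 : x • h ≠ x • z • h := fun e => hzh (smul_left_cancel x e).symm
  have e3 : z • h ≠ x • z • h := fun e => hxh (smul_left_cancel z (e.trans hxzh)).symm
  obtain ⟨g, hga, hgb, hgc, hgd⟩ := exists_smul_four hG hab₀ hac₀ had₀ hbc₀ hbd₀ hcd₀
    hxh.symm hzh.symm (Ne.symm hyh) e1 e2 e3
  have hs := card_quad hxh.symm hzh.symm (Ne.symm hyh) e1 e2 e3
  set s : Finset α := {h, x • h, z • h, x • z • h} with hsdef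
  have hmem : ∀ a, a ∈ s ↔ a = g • a₀ ∨ a = g • b₀ ∨ a = g • c₀ ∨ a = g • d₀ := by
    intro a; simp [hsdef, hga, hgb, hgc, hgd]
  have hxO := smul_mem_orbit_fixing (s := s) (x := x) (y := g * y₀ * g⁻¹) (e := g • e₀)
    (by
      intro a ha
      rcases (hmem a).1 ha with rfl | rfl | rfl | rfl <;>
        simp only [mul_smul, inv_smul_smul, hy₁, hy₂, hy₃, hy₄] <;>
        simp only [hga, hgb, hgc, hgd, invol_smul_smul hx])
    (by
      intro a ha
      rw [hmem]
      simp only [inv_smul_eq_iff, mul_smul, inv_smul_smul, hy₁, hy₂, hy₃, hy₄]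
      rcases (hmem a).1 ha with rfl | rfl | rfl | rfl <;> simp)
    (by simp only [mul_smul, inv_smul_smul, hy₅])
  have hzO := smul_mem_orbit_fixing (s := s) (x := z) (y := g * w₀ * g⁻¹) (e := g • e₀)
    (by
      intro a ha
      rcases (hmem a).1 ha with rfl | rfl | rfl | rfl <;>
        simp only [mul_smul, inv_smul_smul, hw₁, hw₂, hw₃, hw₄] <;>
        simp only [hga, hgb, hgc, hgd, invol_smul_smul hz, hxzh])
    (by
      intro a ha
      rw [hmem]
      simp only [inv_smul_eq_iff, mul_smul, inv_smul_smul, hw₁, hw₂, hw₃, hw₄]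
      rcases (hmem a).1 ha with rfl | rfl | rfl | rfl <;> simp)
    (by simp only [mul_smul, inv_smul_smul, hw₅])
  have hO := hodd.odd_card_orbit hs (g • e₀)
  set O := orbit (fixingSubgroup G (s : Set α)) (g • e₀)
  have hmod := ncard_modEq_of_mul_self hx O hxO
  have hfix : ∀ a, x • a = a ↔ a = c₀ ∨ a = d₀ := fun a =>
    ⟨hodd.eq_or_eq_of_even hev hx hx1 hcd₀ hxc hxd, by rintro (rfl | rfl) <;> assumption⟩
  obtain ⟨r, hr⟩ := hO
  by_cases hc : c₀ ∈ O
  · have hd : d₀ ∈ O := hzc ▸ hzO _ hc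
    have : O ∩ {a | x • a = a} = {c₀, d₀} := by
      ext a
      simp only [Set.mem_inter_iff, Set.mem_ofPred_eq, hfix, Set.mem_insert_iff,
        Set.mem_singleton_iff]
      exact ⟨fun h => h.2, fun h => ⟨by rcases h with rfl | rfl <;> assumption, h⟩⟩
    rw [this, Set.ncard_pair hcd₀, hr] at hmod
    unfold Nat.ModEq at hmod
    omega
  · have hd : d₀ ∉ O := fun h => hc (hzd ▸ hzO _ h)
    have : O ∩ {a | x • a = a} = ∅ := by
      ext a
      simp only [Set.mem_inter_iff, Set.mem_ofPred_eq, hfix, Set.mem_empty_iff_false, iff_false,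
        not_and]
      rintro h (rfl | rfl) <;> contradiction
    rw [this, Set.ncard_empty, hr] at hmod
    unfold Nat.ModEq at hmod
    omega

end General

universe u

theorem hall_even_aux (n : ℕ) : ∀ (X : Type u) [Fintype X] [DecidableEq X]
    (G : Subgroup (Perm X)), Fintype.card X = n → IsMultiplyPretransitive G X 4 → OddStab G X 4 →
    Even n → n ≤ 6 := by
  classical
  induction n using Nat.strong_induction_on with
  | _ n ih =>
  intro X _ _ G hn hG hodd hev
  subst hn
  by_cases h5 : ∀ (g : G) (s : Finset X), s.card = 5 → (∀ x ∈ s, g • x = x) → g = 1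
  · exact card_le_six_of_even_of_five hG hodd h5 hev
  push Not at h5
  obtain ⟨g, s, hs, hgs, hg1⟩ := h5
  have hN5 : 4 + 1 ≤ Fintype.card X := by
    have := Finset.card_le_univ s
    omega
  obtain ⟨p, hp, hpg⟩ := Nat.exists_prime_and_dvd (n := orderOf g)
    (fun h => hg1 (orderOf_eq_one_iff.1 h))
  have := Fact.mk hp
  obtain ⟨H, q, hinv, hcard, hM, -, -, hu⟩ := exists_local hG hN5 p
  obtain ⟨u, hu1, hu⟩ := hu ⟨g ^ (orderOf g / p), orderOf_pow_orderOf_div (orderOf_pos g).ne' hpg,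
    s, hs, fun x hx => mem_fixing.1 (Subgroup.pow_mem _ (mem_fixing.2 hgs) _) x hx⟩
  rw [Nat.card_eq_fintype_card] at hcard
  have hlt : Fintype.card {x // q x} < Fintype.card X := by
    by_contra hq
    apply hu1
    ext x
    by_contra hx
    exact hq (Fintype.card_subtype_lt (x := x) fun h => hx (hu x h))
  have hoddM := hodd.induced H q
  obtain ⟨t, -, ht⟩ := Finset.exists_subset_card_eq (s := (Finset.univ : Finset {x // q x}))
    (n := 5) (by rwa [Finset.card_univ])
  obtain ⟨e, t', het, rfl, ht'⟩ := Finset.card_eq_succ.1 ht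
  obtain ⟨a, b, c, d, hab, hac, had, hbc, hbd, hcd, rfl⟩ := Finset.card_eq_four.1 ht'
  simp only [Finset.mem_insert, Finset.mem_singleton, not_or] at het
  obtain ⟨hea, heb, hec, hed⟩ := het
  have hne : ∀ {u v : {x // q x}}, u ≠ v → (u : X) ≠ v := fun h e => h (Subtype.ext e)
  have hevM : Even (Fintype.card {x // q x}) := by
    obtain ⟨⟨σ, w, hw, hwσ⟩, hσ, h1, h2, h3, h4⟩ := four_swap hM hoddM hab hac had hbc hbd hcd
    have hσ' : σ * σ = 1 := congrArg Subtype.val hσ
    have hww : ∀ y : {x // q x}, w • w • (y : X) = y := fun y => by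
      rw [hwσ, hwσ, ← Perm.mul_apply, hσ', Perm.one_apply]
    have ho := hodd.odd_of_four (g := w * w) (hne hab) (hne hac) (hne had) (hne hbc) (hne hbd)
      (hne hcd) (by rw [mul_smul, hww]) (by rw [mul_smul, hww]) (by rw [mul_smul, hww])
      (by rw [mul_smul, hww])
    set x := w ^ orderOf (w * w)
    have hx : x * x = 1 := by rw [← Commute.mul_pow (Commute.refl w), pow_orderOf_eq_one]
    have hxw : ∀ y : {x // q x}, x • (y : X) = σ y := fun y => by
      rw [pow_odd_smul (hww y) ho, hwσ]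
    have hx1 : x ≠ 1 := by
      intro h
      have := hxw a
      rw [h, one_smul] at this
      exact hab (Subtype.ext (this.trans (congrArg Subtype.val h1)))
    have hxc : x • (c : X) = c := (hxw c).trans (congrArg Subtype.val h3)
    have hxd : x • (d : X) = d := (hxw d).trans (congrArg Subtype.val h4)
    have hmod := ncard_modEq_of_mul_self hx {y | q y} (fun y hy => by
      have := hxw ⟨y, hy⟩
      simp only at this
      rw [this]
      exact (σ _).2)
    have : {y | q y} ∩ {a | x • a = a} = {(c : X), (d : X)} := by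
      ext y
      simp only [Set.mem_inter_iff, Set.mem_ofPred_eq, Set.mem_insert_iff, Set.mem_singleton_iff]
      refine ⟨fun h => hodd.eq_or_eq_of_even hev hx hx1 (hne hcd) hxc hxd h.2, ?_⟩
      rintro (rfl | rfl)
      · exact ⟨c.2, hxc⟩
      · exact ⟨d.2, hxd⟩
    rw [this, Set.ncard_pair (hne hcd), ← Nat.card_coe_set_eq] at hmod
    rw [← Nat.card_eq_fintype_card, Nat.even_iff]
    exact hmod
  have h6 := ih _ hlt {x // q x} (induced G H q) rfl hM hoddM hevM
  have h6' : Nat.card {x // q x} - 2 = 4 := by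
    rw [Nat.card_eq_fintype_card]; obtain ⟨r, hr⟩ := hevM; omega
  have hA := IsMultiplyPretransitive.alternatingGroup_le _ (induced G H q) (h6' ▸ hM)
  obtain ⟨y, -, hy⟩ := hA (x := swap a b * swap c d) (by
    simp [Perm.mem_alternatingGroup, Perm.sign_swap hab, Perm.sign_swap hcd])
  obtain ⟨w, -, hw⟩ := hA (x := swap a c * swap b d) (by
    simp [Perm.mem_alternatingGroup, Perm.sign_swap hac, Perm.sign_swap hbd])
  refine card_le_six_of_klein hG hodd hev (e₀ := e) (hne hab) (hne hac) (hne had) (hne hbc)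
    (hne hbd) (hne hcd) (y₀ := y) (w₀ := w) ?_ ?_ ?_ ?_ ?_ ?_ ?_ ?_ ?_ ?_ <;>
    simp [hy, hw, swap_apply_def, hab, hac, had, hbc, hbd, hcd, hab.symm, hac.symm, had.symm,
      hbc.symm, hbd.symm, hcd.symm, hea, heb, hec, hed]

section Fixing

variable {G α : Type*} [Group G] [MulAction G α] [Fintype α] [DecidableEq α]

omit [Fintype α] [DecidableEq α] in
theorem smul_notMem_of_mem_fixing {s : Finset α} {g : G} (hg : g ∈ fixingSubgroup G (s : Set α))
    {x : α} (hx : x ∉ s) : g • x ∉ s := fun h =>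
  hx (smul_left_cancel g (mem_fixing.1 hg _ h) ▸ h)

theorem induced_fixing_multi {j m : ℕ} (hG : IsMultiplyPretransitive G α (j + m)) {s : Finset α}
    (hs : s.card = j) :
    IsMultiplyPretransitive (induced G (fixingSubgroup G (s : Set α)) (· ∉ s)) {x // x ∉ s} m := by
  refine induced_multi (fun g hg x hx => smul_notMem_of_mem_fixing hg hx) fun t ht hts π hπ => ?_
  have hd : Disjoint s t := Finset.disjoint_right.2 hts
  obtain ⟨ρ, hρ⟩ := exists_perm_of_injOn (s ∪ t) (fun x => if x ∈ s then x else π x) (by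
    intro x _ y _ hxy
    by_cases hx : x ∈ s <;> by_cases hy : y ∈ s <;> simp only [hx, hy, if_true, if_false] at hxy
    · exact hxy
    · exact absurd (hxy ▸ hx) (hπ y hy)
    · exact absurd (hxy ▸ hy) (hπ x hx)
    · exact π.injective hxy)
  obtain ⟨g, hg⟩ := multi_iff_perm.1 hG (s ∪ t) (by rw [Finset.card_union_of_disjoint hd, hs, ht]) ρ
  refine ⟨g, mem_fixing.2 fun x hx => ?_, fun x hx => ?_⟩
  · rw [hg x (Finset.mem_union_left _ hx), hρ x (Finset.mem_union_left _ hx), if_pos hx]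
  · rw [hg x (Finset.mem_union_right _ hx), hρ x (Finset.mem_union_right _ hx), if_neg (hts x hx)]

omit [Fintype α] in
theorem exists_fixing_of_induced {j m : ℕ} {s : Finset α} (hs : s.card = j)
    (σ : induced G (fixingSubgroup G (s : Set α)) (· ∉ s)) {t : Finset {x // x ∉ s}}
    (ht : t.card = m) (hσ : ∀ x ∈ t, σ • x = x) :
    ∃ (g : G) (r : Finset α), r.card = j + m ∧ (∀ x ∈ r, g • x = x) ∧
      ∀ x : {x // x ∉ s}, g • (x : α) = σ.1 x := by
  obtain ⟨σ, g, hg, hgσ⟩ := σ
  refine ⟨g, s ∪ t.map (Function.Embedding.subtype _), ?_, fun x hx => ?_, hgσ⟩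
  · rw [Finset.card_union_of_disjoint, hs, Finset.card_map, ht]
    refine Finset.disjoint_right.2 fun x hx => ?_
    obtain ⟨y, -, rfl⟩ := Finset.mem_map.1 hx
    exact y.2
  · rcases Finset.mem_union.1 hx with hx | hx
    · exact mem_fixing.1 hg x hx
    · obtain ⟨y, hy, rfl⟩ := Finset.mem_map.1 hx
      exact (hgσ y).trans (congrArg Subtype.val (hσ y hy))

omit [Fintype α] in
theorem OddStab.induced_fixing {j m : ℕ} (hodd : OddStab G α (j + m)) {s : Finset α}
    (hs : s.card = j) :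
    OddStab (CL.Perm.induced G (fixingSubgroup G (s : Set α)) (· ∉ s)) {x // x ∉ s} m := by
  intro σ t ht hσ
  obtain ⟨g, r, hr, hgr, hgσ⟩ := exists_fixing_of_induced hs σ ht hσ
  rw [← Subgroup.orderOf_coe]
  exact (hodd g r hr hgr).of_dvd_nat
    (orderOf_dvd_of_induced hgσ fun x _ => by rw [pow_orderOf_eq_one, one_smul])

theorem card_subtype_notMem (s : Finset α) :
    Fintype.card {x // x ∉ s} = Fintype.card α - s.card := by
  rw [Fintype.card_subtype_compl, Fintype.card_coe]

/-- M. Hall's theorem in even degree, after fixing `j` points. -/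
theorem card_le_of_oddStab_even {j : ℕ} (hG : IsMultiplyPretransitive G α (j + 4))
    (hodd : OddStab G α (j + 4)) (hev : Even (Fintype.card α - j)) : Fintype.card α ≤ j + 6 := by
  by_contra hN
  obtain ⟨s, -, hs⟩ := Finset.exists_subset_card_eq (s := (Finset.univ : Finset α))
    (n := j) (by rw [Finset.card_univ]; omega)
  have := hall_even_aux _ {x // x ∉ s} _ (by rw [card_subtype_notMem, hs])
    (induced_fixing_multi hG hs) (hodd.induced_fixing hs) hev
  omega

theorem card_le_of_oddStab_odd {j : ℕ} (hG : IsMultiplyPretransitive G α (j + 4))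
    (hodd : OddStab G α (j + 4))
    (h5 : ∀ (g : G) (s : Finset α), s.card = j + 5 → (∀ x ∈ s, g • x = x) → g = 1)
    (hod : Odd (Fintype.card α - j)) : Fintype.card α ≤ j + 11 := by
  by_contra hN
  obtain ⟨s, -, hs⟩ := Finset.exists_subset_card_eq (s := (Finset.univ : Finset α))
    (n := j) (by rw [Finset.card_univ]; omega)
  have := card_le_eleven_of_odd (induced_fixing_multi hG hs) (hodd.induced_fixing hs)
    (fun σ t ht hσ => by
      obtain ⟨g, r, hr, hgr, hgσ⟩ := exists_fixing_of_induced hs σ ht hσ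
      rw [h5 g r hr hgr] at hgσ
      ext x
      rw [← hgσ, one_smul]
      rfl) (by rwa [card_subtype_notMem, hs])
  rw [card_subtype_notMem, hs] at this
  omega

end Fixing

end CL.Perm
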