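import Cfsg.Agent.Base
import Cfsg.Agent.Perm.HallEven

/-!
Transpositions and even permutations induced on finite subsets by multiply transitive groups.
-/

set_option autoImplicit false

namespace CL.Perm

open MulAction Equiv CL.Transfer
open scoped Pointwise

section General

variable {G α : Type*} [Group G] [MulAction G α] [DecidableEq α]

omit [DecidableEq α] in
theorem OddStab.eq_one {k : ℕ} (hodd : OddStab G α k) {x : G} (hx : x * x = 1) {s : Finset α}
    (hs : s.card = k) (h : ∀ a ∈ s, x • a = a) : x = 1 :=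
  eq_one_of_mul_self_of_odd hx (hodd x s hs h)

theorem OddStab.mem_of_fixed {k : ℕ} (hodd : OddStab G α (k + 1)) {x : G} (hx : x * x = 1)
    (hx1 : x ≠ 1) {s : Finset α} (hs : s.card = k) (h : ∀ a ∈ s, x • a = a) {b : α}
    (hb : x • b = b) : b ∈ s := by
  by_contra hbs
  exact hx1 (hodd.eq_one hx (s := insert b s) (by rw [Finset.card_insert_of_notMem hbs, hs])
    (by simpa [hb] using h))

/-- If `(k+1)`-point stabilisers have odd order and every `k`-set is fixed by an involution, then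
every transposition of every `(k+1)`-set is induced. -/
theorem exists_swap_of_forall_invol [Finite G] {k : ℕ} (hodd : OddStab G α (k + 1))
    (hinv : ∀ t : Finset α, t.card = k → ∃ x : G, x * x = 1 ∧ x ≠ 1 ∧ ∀ a ∈ t, x • a = a)
    {s : Finset α} (hs : s.card = k + 1) {a b : α} (ha : a ∈ s) (hb : b ∈ s) (hab : a ≠ b) :
    ∃ g : G, ∀ x ∈ s, g • x = swap a b x := by
  have h1 : (s.erase b).card = k := by rw [Finset.card_erase_of_mem hb, hs]; rfl
  have h2 : (s.erase a).card = k := by rw [Finset.card_erase_of_mem ha, hs]; rfl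
  obtain ⟨x, hx, hx1, hxs⟩ := hinv _ h1
  obtain ⟨y, hy, hy1, hys⟩ := hinv _ h2
  have hxa : x • a = a := hxs a (Finset.mem_erase.2 ⟨hab, ha⟩)
  have hyb : y • b = b := hys b (Finset.mem_erase.2 ⟨hab.symm, hb⟩)
  have hxi : x⁻¹ = x := inv_eq_of_mul_eq_one_right hx
  have hyi : y⁻¹ = y := inv_eq_of_mul_eq_one_right hy
  have hr : ∀ (j : ℕ), ∀ c ∈ s, c ≠ a → c ≠ b → (x * y) ^ j • c = c := by
    intro j c hc hca hcb
    refine Subgroup.pow_mem (stabilizer G c) ?_ j
    rw [mem_stabilizer_iff, mul_smul, hys c (Finset.mem_erase.2 ⟨hca, hc⟩),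
      hxs c (Finset.mem_erase.2 ⟨hcb, hc⟩)]
  have hxr : ∀ j : ℕ, x * (x * y) ^ j * x⁻¹ = ((x * y) ^ j)⁻¹ := fun j => by
    rw [← conj_pow, ← inv_pow, ← mul_assoc, hx, one_mul, mul_inv_rev, hxi, hyi]
  have hyr : ∀ j : ℕ, y * (x * y) ^ j * y⁻¹ = ((x * y) ^ j)⁻¹ := fun j => by
    rw [← conj_pow, ← inv_pow, mul_assoc, mul_inv_cancel_right, mul_inv_rev, hxi, hyi]
  -- an element fixing the common points and normalising the fixed set of `x` fixes `a`
  have key : ∀ (u : G) (c d : α) (t : Finset α), (∀ e ∈ s, e ≠ a → e ≠ b → u • e = e) →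
      (∀ e ∈ t, e ≠ d → e ∈ s ∧ e ≠ a ∧ e ≠ b) → (c = a ∨ c = b) → u • c ∈ t → u • c = d := by
    intro u c d t hu ht hc hut
    by_contra hne
    obtain ⟨h3, h4, h5⟩ := ht _ hut hne
    have := smul_left_cancel u (hu _ h3 h4 h5)
    rcases hc with rfl | rfl
    · exact h4 this
    · exact h5 this
  have hta : ∀ e ∈ s.erase b, e ≠ a → e ∈ s ∧ e ≠ a ∧ e ≠ b := fun e he h =>
    ⟨Finset.mem_of_mem_erase he, h, Finset.ne_of_mem_erase he⟩
  have htb : ∀ e ∈ s.erase a, e ≠ b → e ∈ s ∧ e ≠ a ∧ e ≠ b := fun e he h =>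
    ⟨Finset.mem_of_mem_erase he, Finset.ne_of_mem_erase he, h⟩
  rcases Nat.even_or_odd (orderOf (x * y)) with ⟨j, hj⟩ | ⟨j, hj⟩
  · exfalso
    have hc : (x * y) ^ j * (x * y) ^ j = 1 := by rw [← pow_add, ← hj, pow_orderOf_eq_one]
    have hci := inv_eq_of_mul_eq_one_right hc
    have hcx : Commute x ((x * y) ^ j) := mul_inv_eq_iff_eq_mul.1 ((hxr j).trans hci)
    have hcy : Commute y ((x * y) ^ j) := mul_inv_eq_iff_eq_mul.1 ((hyr j).trans hci)
    have hca := key _ a a _ (hr j) hta (Or.inl rfl)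
      (hodd.mem_of_fixed hx hx1 h1 hxs (smul_fixed_of_commute hcx hxa))
    have hcb := key _ b b _ (hr j) htb (Or.inr rfl)
      (hodd.mem_of_fixed hy hy1 h2 hys (smul_fixed_of_commute hcy hyb))
    have := hodd.eq_one hc hs fun e he => by
      by_cases h3 : e = a
      · rw [h3, hca]
      by_cases h4 : e = b
      · rw [h4, hcb]
      exact hr j e he h3 h4
    have hpos := orderOf_pos (x * y)
    have := Nat.le_of_dvd (by omega) (orderOf_dvd_of_pow_eq_one this)
    omega
  · have h3 : y * (x * y) ^ j = (x * y) ^ j * x := by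
      have h4 : (x * y) ^ j * (x * y) ^ j * (x * y) = 1 := by
        rw [← pow_add, ← pow_succ, ← two_mul, ← hj, pow_orderOf_eq_one]
      have h5 := hyr j
      rw [mul_inv_eq_iff_eq_mul] at h5
      rw [h5, inv_mul_eq_iff_eq_mul, ← mul_assoc, ← mul_left_inj y, hy, mul_assoc _ x, h4]
    have hab' : (x * y) ^ j • a = b := key _ a b _ (hr j) htb (Or.inl rfl)
      (hodd.mem_of_fixed hy hy1 h2 hys (by rw [← mul_smul, h3, mul_smul, hxa]))
    have hu : ((x * y) ^ j * x) * ((x * y) ^ j * x) = 1 := by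
      rw [mul_assoc, ← mul_assoc x, ← hxi, hxi, show x * (x * y) ^ j * x = ((x * y) ^ j)⁻¹ by
        rw [← hxr, hxi], mul_inv_cancel]
    have hua : ((x * y) ^ j * x) • a = b := by rw [mul_smul, hxa, hab']
    refine ⟨(x * y) ^ j * x, fun c hc => ?_⟩
    by_cases hca : c = a
    · rw [hca, hua, swap_apply_left]
    by_cases hcb : c = b
    · rw [hcb, swap_apply_right, ← hua, invol_smul_smul hu]
    rw [swap_apply_of_ne_of_ne hca hcb, mul_smul, hxs c (Finset.mem_erase.2 ⟨hcb, hc⟩),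
      hr j c hc hca hcb]

/-- moving an induced transposition to a disjoint pair -/
theorem exists_invol_swap_of_disjoint {k : ℕ} (hG : IsMultiplyPretransitive G α k)
    (hodd : OddStab G α k) (hk : 4 ≤ k) {s : Finset α} (hs : s.card = k + 1) {i j a b : α}
    (hi : i ∈ s) (hj : j ∈ s) (ha : a ∈ s) (hb : b ∈ s) (hij : i ≠ j)
    (hai : a ≠ i) (haj : a ≠ j) (hbi : b ≠ i) (hbj : b ≠ j)
    (h : ∃ x : G, x * x = 1 ∧ ∀ c ∈ s, x • c = swap i j c) :
    ∃ x : G, x * x = 1 ∧ ∀ c ∈ s, x • c = swap a b c := by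
  obtain ⟨x, hx, hxs⟩ := h
  obtain ⟨e, he, hen⟩ := Finset.exists_mem_notMem_of_card_lt_card (s := {i, j, a, b}) (t := s)
    (by have := Finset.card_le_four (a := i) (b := j) (c := a) (d := b); omega)
  simp only [Finset.mem_insert, Finset.mem_singleton, not_or] at hen
  obtain ⟨hei, hej, hea, heb⟩ := hen
  have h1 : (s.erase e).card = k := by rw [Finset.card_erase_of_mem he, hs]; rfl
  have hsw : ∀ u v : α, u ∈ s → v ∈ s → e ≠ u → e ≠ v → ∀ c ∈ s.erase e, swap u v c ∈ s.erase e := by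
    intro u v hu hv h2 h3 c hc
    rw [swap_apply_def]
    split_ifs
    · exact Finset.mem_erase.2 ⟨h3.symm, hv⟩
    · exact Finset.mem_erase.2 ⟨h2.symm, hu⟩
    · exact hc
  obtain ⟨z, hz, hxz, hzs⟩ := exists_invol_commute hG hodd h1 (swap a b)
    (fun c hc => ⟨hsw a b ha hb hea heb c hc, swap_apply_self _ _ _⟩) hx
    (fun c hc => by
      rw [hxs c (Finset.mem_of_mem_erase hc)]
      exact hsw i j hi hj hei hej c hc)
    (fun c hc => by
      rw [hxs c (Finset.mem_of_mem_erase hc),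
        hxs _ (Finset.mem_of_mem_erase (hsw a b ha hb hea heb c hc))]
      simp only [swap_apply_def]
      split_ifs <;> simp_all)
  have hx1 : x ≠ 1 := by
    rintro rfl
    have := hxs i hi
    rw [one_smul, swap_apply_left] at this
    exact hij this
  obtain ⟨k, rfl⟩ : ∃ m, k = m + 1 := ⟨k - 1, by omega⟩
  have hje : j ∈ s.erase i := Finset.mem_erase.2 ⟨hij.symm, hj⟩
  have h2 : ((s.erase i).erase j).card = k := by
    rw [Finset.card_erase_of_mem hje, Finset.card_erase_of_mem hi, hs]; rfl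
  have h3 := hodd.mem_of_fixed hx hx1 h2 (fun c hc => by
    simp only [Finset.mem_erase] at hc
    rw [hxs c hc.2.2, swap_apply_of_ne_of_ne hc.2.1 hc.1])
    (smul_fixed_of_commute hxz (by rw [hxs e he, swap_apply_of_ne_of_ne hei hej]))
  have hze : z • e = e := by
    by_contra hne
    have h4 : z • e ∈ s.erase e :=
      Finset.mem_erase.2 ⟨hne, Finset.mem_of_mem_erase (Finset.mem_of_mem_erase h3)⟩
    have h5 := hsw a b ha hb hea heb _ h4
    rw [← hzs _ h4, invol_smul_smul hz] at h5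
    exact Finset.notMem_erase e s h5
  refine ⟨z, hz, fun c hc => ?_⟩
  by_cases hce : c = e
  · rw [hce, hze, swap_apply_of_ne_of_ne hea heb]
  · exact hzs c (Finset.mem_erase.2 ⟨hce, hc⟩)

theorem exists_swap_of_oddStab_of_odd [Fintype α] {k : ℕ} (hG : IsMultiplyPretransitive G α k)
    (hodd : OddStab G α k) (hk : 4 ≤ k) (hod : Odd (Fintype.card α - k)) :
    ∃ s : Finset α, s.card = k + 1 ∧ ∀ a ∈ s, ∀ b ∈ s, a ≠ b →
      ∃ g : G, ∀ x ∈ s, g • x = swap a b x := by
  have hkn : k < Fintype.card α := by obtain ⟨r, hr⟩ := hod; omega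
  obtain ⟨t, -, ht⟩ := Finset.exists_subset_card_eq (s := (Finset.univ : Finset α))
    (n := k) (by rw [Finset.card_univ]; omega)
  obtain ⟨i, hi, j, hj, hij⟩ := Finset.one_lt_card.1 (show 1 < t.card by omega)
  have hsw : ∀ c ∈ t, swap i j c ∈ t := by
    intro c hc
    rw [swap_apply_def]
    split_ifs <;> assumption
  obtain ⟨x, hx, hxt⟩ := exists_invol_eq hG hodd ht (swap i j)
    (fun c hc => ⟨hsw c hc, swap_apply_self _ _ _⟩)
  have hmod := ncard_modEq_of_mul_self hx ((tᶜ : Finset α) : Set α) (fun c hc => by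
    simp only [Finset.coe_compl, Set.mem_compl_iff, Finset.mem_coe] at hc ⊢
    intro h
    have := hsw _ h
    rw [← hxt _ h, invol_smul_smul hx] at this
    exact hc this)
  obtain ⟨e, het, hxe⟩ : ((((tᶜ : Finset α) : Set α)) ∩ {a | x • a = a}).Nonempty := by
    rw [Set.nonempty_iff_ne_empty]
    intro h
    rw [h, Set.ncard_empty, Set.ncard_coe_finset, Finset.card_compl, ht] at hmod
    obtain ⟨r, hr⟩ := hod
    unfold Nat.ModEq at hmod
    omega
  have het' : e ∉ t := by simpa using het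
  have hs : (insert e t).card = k + 1 := by rw [Finset.card_insert_of_notMem het', ht]
  have hi' := Finset.mem_insert_of_mem (b := e) hi
  have hj' := Finset.mem_insert_of_mem (b := e) hj
  have h0 : ∃ x : G, x * x = 1 ∧ ∀ c ∈ insert e t, x • c = swap i j c := by
    refine ⟨x, hx, fun c hc => ?_⟩
    rcases Finset.mem_insert.1 hc with rfl | hc
    · rw [swap_apply_of_ne_of_ne (by rintro rfl; exact het' hi) (by rintro rfl; exact het' hj)]
      exact hxe
    · exact hxt c hc
  refine ⟨insert e t, hs, fun a ha b hb hab => ?_⟩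
  by_cases hdis : a ≠ i ∧ a ≠ j ∧ b ≠ i ∧ b ≠ j
  · obtain ⟨z, -, hz⟩ := exists_invol_swap_of_disjoint hG hodd hk hs hi' hj' ha hb hij hdis.1
      hdis.2.1 hdis.2.2.1 hdis.2.2.2 h0
    exact ⟨z, hz⟩
  have hc3 : ({i, j, a, b} : Finset α).card ≤ 3 := by
    by_contra h
    refine hdis ?_
    have h4 : ∀ u v w : α, ({u, v, w} : Finset α).card ≤ 3 := fun _ _ _ => Finset.card_le_three
    refine ⟨?_, ?_, ?_, ?_⟩ <;> rintro rfl
    · exact h (le_trans (Finset.card_le_card (by intro; simp; tauto)) (h4 a j b))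
    · exact h (le_trans (Finset.card_le_card (by intro; simp)) (h4 i a b))
    · exact h (le_trans (Finset.card_le_card (by intro; simp; tauto)) (h4 b j a))
    · exact h (le_trans (Finset.card_le_card (by intro; simp; tauto)) (h4 i b a))
  obtain ⟨c, hc, d, hd, hcd⟩ := Finset.one_lt_card.1
    (show 1 < (insert e t \ {i, j, a, b}).card by
      have := Finset.le_card_sdiff ({i, j, a, b} : Finset α) (insert e t)
      omega)
  rw [Finset.mem_sdiff] at hc hd
  obtain ⟨hc, hc'⟩ := hc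
  obtain ⟨hd, hd'⟩ := hd
  simp only [Finset.mem_insert (a := c), Finset.mem_insert (a := d), Finset.mem_singleton,
    not_or] at hc' hd'
  obtain ⟨z, -, hz⟩ := exists_invol_swap_of_disjoint hG hodd hk hs hc hd ha hb hcd
    (Ne.symm hc'.2.2.1) (Ne.symm hd'.2.2.1) (Ne.symm hc'.2.2.2) (Ne.symm hd'.2.2.2)
    (exists_invol_swap_of_disjoint hG hodd hk hs hi' hj' hc hd hij hc'.1 hc'.2.1 hd'.1 hd'.2.1 h0)
  exact ⟨z, hz⟩

variable [Fintype α]

variable (G) in
/-- Every even permutation supported in `s` is induced on `s`. -/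
def AltOn (s : Finset α) : Prop :=
  ∀ π : Perm α, (∀ x, π x ≠ x → x ∈ s) → Perm.sign π = 1 → ∃ g : G, ∀ x ∈ s, g • x = π x

omit [Fintype α] [DecidableEq α] in
theorem apply_mem_of_support {s : Finset α} {π : Perm α} (h : ∀ x, π x ≠ x → x ∈ s) {x : α}
    (hx : x ∈ s) : π x ∈ s := by
  by_cases h1 : π (π x) = π x
  · rwa [π.injective h1]
  · exact h _ h1

theorem altOn_of_forall_swap {s : Finset α}
    (h : ∀ a ∈ s, ∀ b ∈ s, a ≠ b → ∃ g : G, ∀ x ∈ s, g • x = swap a b x) : AltOn G s :=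
  fun π hπ _ => exists_smul_eq_perm_of_forall_swap h π fun _ hx => apply_mem_of_support hπ hx

theorem AltOn.of_induced {H : Subgroup G} {q : α → Prop} [DecidablePred q] {s : Finset {x // q x}}
    (h : AltOn (induced G H q) s) : AltOn G (s.map (Function.Embedding.subtype q)) := by
  intro π hπ hsign
  have hq : ∀ x, π x ≠ x → q x := fun x hx => by
    obtain ⟨y, -, rfl⟩ := Finset.mem_map.1 (hπ x hx)
    exact y.2
  have hq' : ∀ x, q (π x) ↔ q x := fun x => by
    by_cases hx : π x = x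
    · rw [hx]
    · exact ⟨fun _ => hq x hx, fun _ => hq _ fun e => hx (π.injective e)⟩
  obtain ⟨⟨σ, g, hgH, hg⟩, hσ⟩ := h (π.subtypePerm hq') (fun x hx => by
    obtain ⟨y, hy, e⟩ := Finset.mem_map.1 (hπ x fun e => hx (Subtype.ext e))
    rwa [← (Subtype.ext e : y = x)]) (by rw [Perm.sign_subtypePerm _ _ hq, hsign])
  refine ⟨g, fun x hx => ?_⟩
  obtain ⟨y, hy, rfl⟩ := Finset.mem_map.1 hx
  exact (hg y).trans (congrArg Subtype.val (hσ y hy))

theorem AltOn.subtype {s : Finset α} (h : AltOn G s) (σ : Perm s) (hσ : σ ∈ alternatingGroup s) :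
    ∃ g : G, ∀ x : s, g • (x : α) = σ x := by
  obtain ⟨g, hg⟩ := h (Perm.ofSubtype σ) (fun x hx => by
    by_contra hxs
    exact hx (Perm.ofSubtype_apply_of_not_mem σ hxs)) (by
      rw [Perm.sign_ofSubtype]; exact hσ)
  exact ⟨g, fun x => (hg x x.2).trans (Perm.ofSubtype_apply_coe σ x)⟩

theorem AltOn.forall_swap {s : Finset α} (h : AltOn G s) {a b : α} (ha : a ∈ s) (hb : b ∈ s)
    (hab : a ≠ b) {g : G} (hg : ∀ x ∈ s, g • x = swap a b x) :
    ∀ c ∈ s, ∀ d ∈ s, c ≠ d → ∃ g : G, ∀ x ∈ s, g • x = swap c d x := by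
  intro c hc d hd hcd
  obtain ⟨u, hu⟩ := h (swap c d * swap a b) (fun x hx => by
    by_contra hxs
    apply hx
    have h1 : ∀ y ∈ s, x ≠ y := fun y hy e => hxs (e ▸ hy)
    rw [Perm.mul_apply, swap_apply_of_ne_of_ne (h1 a ha) (h1 b hb),
      swap_apply_of_ne_of_ne (h1 c hc) (h1 d hd)]) (by
      simp [Perm.sign_swap hab, Perm.sign_swap hcd])
  refine ⟨u * g, fun x hx => ?_⟩
  rw [mul_smul, hg x hx, hu, Perm.mul_apply, swap_apply_self]
  rw [swap_apply_def]
  split_ifs <;> assumption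

/-- In a `k`-transitive group, `4 ≤ k < n`, some `(k+1)`-set carries its alternating group. -/
theorem exists_altOn [Finite G] {k : ℕ} (hk : 4 ≤ k) (hkn : k < Fintype.card α)
    (hG : IsMultiplyPretransitive G α k) : ∃ s : Finset α, s.card = k + 1 ∧ AltOn G s := by
  classical
  have : Fact (Nat.Prime 2) := ⟨Nat.prime_two⟩
  obtain ⟨H, q, -, hcard, hM, hsucc, hcase, -⟩ := exists_local hG hkn 2
  suffices ∃ s : Finset {x // q x}, s.card = k + 1 ∧ AltOn (induced G H q) s by
    obtain ⟨s, hs, h⟩ := this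
    exact ⟨_, by simpa using hs, h.of_induced⟩
  rw [Nat.card_eq_fintype_card] at hcard
  obtain ⟨t, -, ht⟩ := Finset.exists_subset_card_eq (s := (Finset.univ : Finset {x // q x}))
    (n := k + 1) (by rwa [Finset.card_univ])
  have hO : ∀ m : ℕ, (∀ σ ∈ induced G H q, ∀ t : Finset {x // q x}, t.card = m →
      (∀ x ∈ t, σ x = x) → ¬ 2 ∣ orderOf σ) → OddStab (induced G H q) {x // q x} m := by
    intro m h σ t ht hσ
    rw [← Subgroup.orderOf_coe, ← Nat.not_even_iff_odd, even_iff_two_dvd]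
    exact h σ σ.2 t ht hσ
  rcases hcase with hcase | hcase
  · have hodd := hO _ hcase
    rcases Nat.even_or_odd (Fintype.card {x // q x} - k) with hev | hod
    · obtain ⟨j, rfl⟩ : ∃ j, k = j + 4 := ⟨k - 4, by omega⟩
      have h6 := card_le_of_oddStab_even hM hodd (by
        obtain ⟨r, hr⟩ := hev
        exact ⟨r + 2, by omega⟩)
      have h6' : Nat.card {x // q x} - 2 = j + 4 := by
        rw [Nat.card_eq_fintype_card]; obtain ⟨r, hr⟩ := hev; omega
      have hA := IsMultiplyPretransitive.alternatingGroup_le _ (induced G H q) (h6' ▸ hM)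
      exact ⟨t, ht, fun π _ hπ => ⟨⟨π, hA hπ⟩, fun _ _ => rfl⟩⟩
    · obtain ⟨s, hs, h⟩ := exists_swap_of_oddStab_of_odd hM hodd hk hod
      exact ⟨s, hs, altOn_of_forall_swap h⟩
  · refine ⟨t, ht, altOn_of_forall_swap fun a ha b hb hab =>
      exists_swap_of_forall_invol (hO _ hsucc) (fun r hr => ?_) ht ha hb hab⟩
    obtain ⟨σ, hσ, ho, hσr⟩ := hcase r hr
    refine ⟨⟨σ, hσ⟩, Subtype.ext ?_, fun h => ?_, hσr⟩
    · change σ * σ = 1
      rw [← sq, ← ho, pow_orderOf_eq_one]
    · have : σ = 1 := congrArg Subtype.val h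
      rw [this, orderOf_one] at ho
      omega

end General

end CL.Perm
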