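import Cfsg.Agent.Base
import Cfsg.Agent.Perm.SwapOn
import Cfsg.Agent.S0744

/-!
Numerical data attached to a `j`-transitive, not `(j+1)`-transitive group which is `(j+1)`- and
`(j+2)`-homogeneous (Livingstone and Wagner).
-/

set_option autoImplicit false

namespace CL.Perm

open MulAction Equiv CL.Transfer
open scoped Pointwise

section General

variable {G α : Type*} [Group G] [MulAction G α] [Fintype α] [DecidableEq α]

theorem card_fixing_dvd_of_free {s : Finset α}
    (h : ∀ g : G, (∀ x ∈ s, g • x = x) → ∀ a ∉ s, g • a = a → g = 1) :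
    Nat.card (fixingSubgroup G (s : Set α)) ∣ Fintype.card α - s.card := by
  let S : SubMulAction (fixingSubgroup G (s : Set α)) α :=
    ⟨{x | x ∉ s}, fun g x hx => smul_notMem_of_mem_fixing g.2 hx⟩
  have e := selfEquivOrbitsQuotientProd (G := fixingSubgroup G (s : Set α)) (X := S) (fun b => by
    rw [eq_bot_iff]
    intro g hg
    exact Subtype.ext (h g (mem_fixing.1 g.2) b b.2 (congrArg Subtype.val hg)))
  have h1 := Nat.card_congr e
  rw [Nat.card_prod] at h1
  have h2 : Nat.card S = Fintype.card α - s.card := by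
    rw [← card_subtype_notMem, ← Nat.card_eq_fintype_card]
    rfl
  rw [← h2, h1]
  exact Dvd.intro_left _ rfl

theorem not_sharply_three_of_card_seven (hG : IsMultiplyPretransitive G α 3)
    (h3 : ∀ (g : G) (s : Finset α), s.card = 3 → (∀ x ∈ s, g • x = x) → g = 1)
    (hn : Fintype.card α = 7) : False := by
  have h3' : ∀ (g : G) (a b c : α), a ≠ b → a ≠ c → b ≠ c → g • a = a → g • b = b → g • c = c →
      g = 1 := fun g a b c hab hac hbc ha hb hc =>
    h3 g {a, b, c} (Finset.card_eq_three.2 ⟨a, b, c, hab, hac, hbc, rfl⟩) (by simp [ha, hb, hc])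
  obtain ⟨a, b, c, -, -, -, hab, hac, hbc⟩ := Finset.two_lt_card_iff.1
    (show 2 < (Finset.univ : Finset α).card by rw [Finset.card_univ]; omega)
  have hs : ({a, b, c} : Finset α).card = 3 :=
    Finset.card_eq_three.2 ⟨a, b, c, hab, hac, hbc, rfl⟩
  obtain ⟨g, hg⟩ := multi_iff_perm.1 hG _ hs (swap a b)
  obtain ⟨r, hr⟩ := multi_iff_perm.1 hG _ hs (swap a c * swap b c)
  simp only [Finset.mem_insert, Finset.mem_singleton, forall_eq_or_imp, forall_eq, swap_apply_left,
    swap_apply_right, Perm.mul_apply, swap_apply_of_ne_of_ne hac.symm hbc.symm,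
    swap_apply_of_ne_of_ne hab hac, swap_apply_of_ne_of_ne hab.symm hbc] at hg hr
  obtain ⟨hga, hgb, hgc⟩ := hg
  obtain ⟨hra, hrb, hrc⟩ := hr
  have hg2 : g * g = 1 := h3' _ a b c hab hac hbc (by rw [mul_smul, hga, hgb])
    (by rw [mul_smul, hgb, hga]) (by rw [mul_smul, hgc, hgc])
  have hr3 : r ^ 3 = 1 := h3' _ a b c hab hac hbc
    (by simp only [pow_succ, pow_zero, one_mul, mul_smul, hra, hrb, hrc])
    (by simp only [pow_succ, pow_zero, one_mul, mul_smul, hra, hrb, hrc])
    (by simp only [pow_succ, pow_zero, one_mul, mul_smul, hra, hrb, hrc])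
  have hgr : r * g * r * g = 1 := h3' _ a b c hab hac hbc
    (by simp only [mul_smul, hrb, hga])
    (by simp only [mul_smul, hra, hrc, hgb, hgc])
    (by simp only [mul_smul, hra, hrc, hgb, hgc])
  have hr1 : r ≠ 1 := by rintro rfl; exact hac (by simpa using hra)
  have hg1 : g ≠ 1 := by rintro rfl; exact hab (by simpa using hga)
  have : Fact (Nat.Prime 3) := ⟨Nat.prime_three⟩
  have hP : IsPGroup 3 (Subgroup.zpowers r) := IsPGroup.of_card (n := 1) (by
    rw [Nat.card_zpowers, orderOf_eq_prime hr3 hr1, pow_one])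
  obtain ⟨f, -, hf⟩ := exists_fixed_of_not_dvd_ncard hP (Set.univ : Set α) (fun _ _ _ _ => trivial)
    (by rw [Set.ncard_univ, Nat.card_eq_fintype_card, hn]; decide)
  have hrf : r • f = f := hf r (Subgroup.mem_zpowers r)
  have hrgf : r • g • f = g • f := by
    have h1 : (r * g * r * g) • g • f = g • f := by rw [hgr, one_smul]
    simpa only [mul_smul, invol_smul_smul hg2, hrf] using h1
  by_cases hgf : g • f = f
  · have hcf : c ≠ f := by rintro rfl; exact hbc (hrc.symm.trans hrf)
    obtain ⟨e, he1, he2, he⟩ := exists_third_fixed_of_odd (by rw [hn]; decide) hg2 hcf hgc hgf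
    exact hg1 (h3' g c f e hcf he1.symm he2.symm hgc hgf he)
  · have hfix : ∀ u ∈ Subgroup.zpowers r, ∀ y : α, r • y = y → u • y = y := fun u hu y hy =>
      (Subgroup.zpowers_le.2 hy : _ ≤ stabilizer G y) hu
    obtain ⟨e, he, hre⟩ := exists_fixed_of_not_dvd_ncard hP
      ((({f, g • f}ᶜ : Finset α)) : Set α) (fun u hu y hy => by
        simp only [Finset.coe_compl, Finset.coe_insert, Finset.coe_singleton, Set.mem_compl_iff,
          Set.mem_insert_iff, Set.mem_singleton_iff, not_or] at hy ⊢
        exact ⟨fun h => hy.1 (smul_left_cancel u (h.trans (hfix u hu f hrf).symm)),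
          fun h => hy.2 (smul_left_cancel u (h.trans (hfix u hu _ hrgf).symm))⟩)
      (by rw [Set.ncard_coe_finset, Finset.card_compl, Finset.card_pair (Ne.symm hgf), hn]; decide)
    simp only [Finset.coe_compl, Finset.coe_insert, Finset.coe_singleton, Set.mem_compl_iff,
      Set.mem_insert_iff, Set.mem_singleton_iff, not_or] at he
    exact hr1 (h3' r f (g • f) e (Ne.symm hgf) (Ne.symm he.1) (Ne.symm he.2) hrf hrgf
      (hre r (Subgroup.mem_zpowers r)))

end General

variable {α : Type*} [Fintype α] [DecidableEq α]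

theorem homog_data {G : Subgroup (Perm α)} {j : ℕ} (hn : j + 2 ≤ Fintype.card α)
    (ht : IsMultiplyPretransitive G α j) (hnt : ¬ IsMultiplyPretransitive G α (j + 1))
    (hh1 : IsPretransitive G (Set.powersetCard α (j + 1)))
    (hh : IsPretransitive G (Set.powersetCard α (j + 2))) :
    (∀ (g : G) (s : Finset α), s.card = j + 1 → (∀ x ∈ s, g • x = x) → g = 1) ∧
    ∃ d e : ℕ, Fintype.card α - j = d * e ∧ 2 ≤ e ∧ Odd d ∧
      Nat.card G = (Fintype.card α).descFactorial j * d ∧
      (∀ s : Finset α, s.card = j → Nat.card (fixingSubgroup G (s : Set α)) = d) ∧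
      e ∣ (j + 1).factorial ∧ e * (d * e - 1) ∣ (j + 2).factorial ∧
      (2 ≤ j → 3 ∣ d → 3 * e ∣ (j + 1).factorial) := by
  classical
  obtain ⟨s₂, -, hs₂⟩ := Finset.exists_subset_card_eq (s := (Finset.univ : Finset α))
    (n := j + 2) (by rwa [Finset.card_univ])
  obtain ⟨s₁, -, hs₁⟩ := Finset.exists_subset_card_eq (s := (Finset.univ : Finset α))
    (n := j + 1) (by rw [Finset.card_univ]; omega)
  obtain ⟨s, -, hs⟩ := Finset.exists_subset_card_eq (s := (Finset.univ : Finset α))
    (n := j) (by rw [Finset.card_univ]; omega)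
  have h5 : ∀ (g : G) (s : Finset α), s.card = j + 1 → (∀ x ∈ s, g • x = x) → g = 1 := by
    intro g t ht' hg
    by_contra hg1
    refine hnt (Cfsg.Agent.S0744.result G (k := j + 2) (by omega) hn
      (Nat.card (fixingSubgroup G (t : Set α))) (Nat.card (fixingSubgroup G (s₂ : Set α))) ?_
      (fun r hr => card_fixing_eq_of_homog hh1 hr ht')
      (fun r hr => card_fixing_eq_of_homog hh hr hs₂))
    rw [Finite.one_lt_card_iff_nontrivial]
    exact ⟨⟨g, mem_fixing.2 hg⟩, 1, fun h => hg1 (congrArg Subtype.val h)⟩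
  refine ⟨h5, ?_⟩
  have hfree : ∀ g : G, (∀ x ∈ s, g • x = x) → ∀ a ∉ s, g • a = a → g = 1 := fun g hg a ha hga =>
    h5 g (insert a s) (by rw [Finset.card_insert_of_notMem ha, hs]) (by simpa [hga] using hg)
  set d := Nat.card (fixingSubgroup G (s : Set α)) with hd
  have hd0 : 0 < d := Nat.card_pos
  obtain ⟨e, he⟩ := card_fixing_dvd_of_free hfree
  rw [hs, ← hd] at he
  have hall : ∀ t : Finset α, t.card = j → Nat.card (fixingSubgroup G (t : Set α)) = d :=
    fun t ht' => card_fixing_eq_of_multi ht ht' hs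
  have hG := card_eq_descFactorial_mul_card_fixing ht hs
  rw [← hd] at hG
  have hD : 0 < (Fintype.card α).descFactorial j := Nat.descFactorial_pos.2 (by omega)
  have hH : ∀ t : Finset α, t.card = j + 1 → e * Nat.card (stabilizer G t) = (j + 1).factorial := by
    intro t ht'
    have h1 := card_eq_choose_mul_card_stabilizer hh1 ht'
    have h2 := Nat.descFactorial_eq_factorial_mul_choose (Fintype.card α) (j + 1)
    rw [Nat.descFactorial_succ, he] at h2
    refine Nat.eq_of_mul_eq_mul_left (Nat.mul_pos hD hd0) ?_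
    calc _ = d * e * (Fintype.card α).descFactorial j * Nat.card (stabilizer G t) := by ring
      _ = (j + 1).factorial * Nat.card G := by rw [h2, h1]; ring
      _ = _ := by rw [hG]; ring
  have hK : e * (d * e - 1) * Nat.card (stabilizer G s₂) = (j + 2).factorial := by
    have h1 := card_eq_choose_mul_card_stabilizer hh hs₂
    have h2 := Nat.descFactorial_eq_factorial_mul_choose (Fintype.card α) (j + 2)
    rw [Nat.descFactorial_succ, Nat.descFactorial_succ, Nat.sub_succ', he] at h2
    refine Nat.eq_of_mul_eq_mul_left (Nat.mul_pos hD hd0) ?_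
    calc _ = (d * e - 1) * (d * e * (Fintype.card α).descFactorial j) *
          Nat.card (stabilizer G s₂) := by ring
      _ = (j + 2).factorial * Nat.card G := by rw [h2, h1]; ring
      _ = _ := by rw [hG]; ring
  refine ⟨d, e, he, ?_, ?_, hG, hall, Dvd.intro _ (hH s₁ hs₁), Dvd.intro _ hK, fun hj h3 => ?_⟩
  · by_contra he2
    obtain rfl : e = 1 := by
      have : e ≠ 0 := by rintro rfl; omega
      omega
    refine hnt (multi_succ_of_transOff ht hs fun a b ha hb => ?_)
    have h1 := card_fixing_eq_card_orbit_mul (G := G) s a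
    have h2 : fixingSubgroup G ((insert a s : Finset α) : Set α) = ⊥ := by
      rw [eq_bot_iff]
      intro g hg
      exact h5 g _ (by rw [Finset.card_insert_of_notMem ha, hs]) (mem_fixing.1 hg)
    rw [h2, Subgroup.card_bot, mul_one, Nat.card_coe_set_eq, ← hd] at h1
    have h3 : orbit (fixingSubgroup G (s : Set α)) a = ((sᶜ : Finset α) : Set α) := by
      refine Set.eq_of_subset_of_ncard_le ?_
        (by rw [Set.ncard_coe_finset, Finset.card_compl, hs]; omega)
      rintro _ ⟨g, rfl⟩
      exact Finset.mem_coe.2 (Finset.mem_compl.2 (smul_notMem_of_mem_fixing g.2 ha))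
    obtain ⟨g, hg⟩ : b ∈ orbit (fixingSubgroup G (s : Set α)) a := by
      rw [h3]; exact Finset.mem_coe.2 (Finset.mem_compl.2 hb)
    exact ⟨g, mem_fixing.1 g.2, hg⟩
  · by_contra hev
    rw [Nat.not_odd_iff_even] at hev
    have : Fact (Nat.Prime 2) := ⟨Nat.prime_two⟩
    refine hnt (multi_of_homog hh1 hs₁ (exists_smul_eq_perm_of_forall_swap fun a ha b hb hab =>
      exists_swap_of_forall_invol (k := j) (fun g t ht' hg => ?_) (fun t ht' => ?_) hs₁ ha hb hab))
    · rw [h5 g t ht' hg, orderOf_one]; exact odd_one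
    · obtain ⟨g, hg⟩ := exists_prime_orderOf_dvd_card' (G := fixingSubgroup G (t : Set α)) 2
        (by rw [hall t ht']; exact hev.two_dvd)
      refine ⟨g, ?_, fun h => ?_, mem_fixing.1 g.2⟩
      · rw [← sq, ← hg, ← Subgroup.orderOf_coe, pow_orderOf_eq_one]
      · rw [← Subgroup.orderOf_coe, h, orderOf_one] at hg
        omega
  · have : Fact (Nat.Prime 3) := ⟨Nat.prime_three⟩
    obtain ⟨⟨g, hgs⟩, hg⟩ := exists_prime_orderOf_dvd_card' (G := fixingSubgroup G (s : Set α)) 3 h3
    rw [← Subgroup.orderOf_coe] at hg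
    simp only at hg
    have hg3 : ∀ y : α, g • g • g • y = y := fun y => by
      have : g ^ 3 • y = y := by rw [← hg, pow_orderOf_eq_one, one_smul]
      simpa only [pow_succ, pow_zero, one_mul, mul_smul] using this
    obtain ⟨a, -, ha⟩ := Finset.exists_mem_notMem_of_card_lt_card (s := s) (t := Finset.univ)
      (by rw [Finset.card_univ]; omega)
    have hga : g • a ≠ a := fun h => by
      rw [hfree g (mem_fixing.1 hgs) a ha h, orderOf_one] at hg
      omega
    have h1 : g • g • a ≠ g • a := fun h => hga (smul_left_cancel g h)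
    have h2 : g • g • a ≠ a := fun h => hga (by rw [← h, hg3, h])
    obtain ⟨r, hrs, hr⟩ := Finset.exists_subset_card_eq (s := s) (n := j - 2) (by omega)
    have ha1 := smul_notMem_of_mem_fixing hgs ha
    have ha2 := smul_notMem_of_mem_fixing hgs ha1
    have hc : ({a, g • a, g • g • a} ∪ r : Finset α).card = j + 1 := by
      rw [Finset.card_union_of_disjoint, hr,
        Finset.card_eq_three.2 ⟨_, _, _, hga.symm, h2.symm, h1.symm, rfl⟩]
      · omega
      · rw [Finset.disjoint_left]
        intro y hy hyr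
        simp only [Finset.mem_insert, Finset.mem_singleton] at hy
        rcases hy with rfl | rfl | rfl
        exacts [ha (hrs hyr), ha1 (hrs hyr), ha2 (hrs hyr)]
    have hst : g ∈ stabilizer G ({a, g • a, g • g • a} ∪ r : Finset α) := by
      rw [mem_stabilizer_iff]
      refine Finset.eq_of_subset_of_card_le ?_ (by rw [Finset.card_smul_finset])
      intro y hy
      obtain ⟨x, hx, rfl⟩ := Finset.mem_smul_finset.1 hy
      simp only [Finset.mem_union, Finset.mem_insert, Finset.mem_singleton] at hx ⊢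
      rcases hx with (rfl | rfl | rfl) | hx
      · simp
      · simp
      · simp [hg3]
      · right; rwa [mem_fixing.1 hgs x (hrs hx)]
    have := (stabilizer G _).orderOf_dvd_natCard hst
    rw [← hH _ hc, mul_comm 3, ← hg]
    exact Nat.mul_dvd_mul_left _ this

end CL.Perm
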