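import Cfsg.Agent.Base

/-!
# Permutation modules: basic API

`permRep`, `permConstants`, `permSumZero`; invariant matrices as intertwiners; orbital matrices;
fixed vectors of `p`-groups in characteristic `p`; transitivity of Sylow subgroups in
prime-power degree.
-/

set_option autoImplicit false

namespace CL.Perm

open Cfsg MulAction

section basic

variable {K : Type*} [CommSemiring K] {G : Type*} [Group G] {Ω : Type*} [MulAction G Ω]

theorem permRep_apply (g : G) (f : Ω → K) (x : Ω) : permRep K G Ω g f x = f (g⁻¹ • x) := rfl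

theorem mem_permConstants {f : Ω → K} :
    f ∈ (permConstants K G Ω).toSubmodule ↔ ∃ c : K, ∀ x, f x = c := by
  change f ∈ Submodule.span K {fun _ => (1 : K)} ↔ _
  rw [Submodule.mem_span_singleton]
  constructor
  · rintro ⟨c, rfl⟩
    exact ⟨c, fun x => by simp⟩
  · rintro ⟨c, hc⟩
    exact ⟨c, funext fun x => by simp [hc]⟩

theorem const_mem_permConstants (c : K) :
    (fun _ : Ω => c) ∈ (permConstants K G Ω).toSubmodule :=
  mem_permConstants.2 ⟨c, fun _ => rfl⟩

theorem permConstants_le_iff {W : Submodule K (Ω → K)} :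
    (permConstants K G Ω).toSubmodule ≤ W ↔ (fun _ => (1 : K)) ∈ W := by
  change Submodule.span K {fun _ => (1 : K)} ≤ W ↔ _
  rw [Submodule.span_singleton_le_iff_mem]

theorem mem_permSumZero [Fintype Ω] {f : Ω → K} :
    f ∈ (permSumZero K G Ω).toSubmodule ↔ ∑ x, f x = 0 := Iff.rfl

theorem permRep_single [DecidableEq Ω] (g : G) (a : Ω) (c : K) :
    permRep K G Ω g (Pi.single a c) = Pi.single (g • a) c := by
  funext x
  rw [permRep_apply]
  by_cases h : x = g • a
  · subst h; simp
  · have : g⁻¹ • x ≠ a := fun h' => h (by rw [← h', smul_inv_smul])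
    simp [h, this]

theorem sum_smul_eq [Fintype Ω] {M : Type*} [AddCommMonoid M] (g : G) (f : Ω → M) :
    ∑ x, f (g • x) = ∑ x, f x :=
  Fintype.sum_equiv (MulAction.toPerm g) _ _ (fun _ => rfl)

theorem sum_permRep [Fintype Ω] (g : G) (f : Ω → K) :
    ∑ x, permRep K G Ω g f x = ∑ x, f x := sum_smul_eq g⁻¹ f

variable {Ω₁ Ω₂ : Type*} [MulAction G Ω₁] [MulAction G Ω₂]

/-- An invariant matrix gives an equivariant map of permutation modules. -/
theorem mulVec_permRep [Fintype Ω₁] (M : Matrix Ω₂ Ω₁ K)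
    (hM : ∀ (g : G) y x, M (g • y) (g • x) = M y x) (g : G) (f : Ω₁ → K) :
    M.mulVec (permRep K G Ω₁ g f) = permRep K G Ω₂ g (M.mulVec f) := by
  funext y
  simp only [permRep_apply, Matrix.mulVec, dotProduct]
  rw [← sum_smul_eq g]
  refine Finset.sum_congr rfl fun x _ => ?_
  rw [inv_smul_smul, ← hM g (g⁻¹ • y) x, smul_inv_smul]

end basic

section ring

variable {K : Type*} [CommRing K] {G : Type*} [Group G] {Ω₁ Ω₂ : Type*} [MulAction G Ω₁]
  [MulAction G Ω₂]

theorem mem_linHom_invariants_iff (T : (Ω₁ → K) →ₗ[K] (Ω₂ → K)) :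
    T ∈ ((permRep K G Ω₁).linHom (permRep K G Ω₂)).invariants ↔
      ∀ (g : G) f, T (permRep K G Ω₁ g f) = permRep K G Ω₂ g (T f) := by
  rw [Representation.mem_invariants]
  simp only [Representation.linHom_apply]
  rw [Representation.mem_linHom_invariants_iff_isIntertwining]
  exact ⟨fun h => h.isIntertwining, fun h => ⟨h⟩⟩

theorem mem_linHom_invariants_iff_toMatrix [Fintype Ω₁] [DecidableEq Ω₁]
    (T : (Ω₁ → K) →ₗ[K] (Ω₂ → K)) :
    T ∈ ((permRep K G Ω₁).linHom (permRep K G Ω₂)).invariants ↔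
      ∀ (g : G) y x, LinearMap.toMatrix' T (g • y) (g • x) = LinearMap.toMatrix' T y x := by
  rw [mem_linHom_invariants_iff]
  constructor
  · intro h g y x
    simp only [LinearMap.toMatrix'_apply]
    have := congrFun (h g (Pi.single x 1)) (g • y)
    rw [permRep_single, permRep_apply, inv_smul_smul] at this
    exact this
  · intro h g f
    have := mulVec_permRep _ h g f
    rwa [LinearMap.toMatrix'_mulVec, LinearMap.toMatrix'_mulVec] at this

theorem mulVecLin_mem_linHom_invariants [Fintype Ω₁] (M : Matrix Ω₂ Ω₁ K)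
    (hM : ∀ (g : G) y x, M (g • y) (g • x) = M y x) :
    M.mulVecLin ∈ ((permRep K G Ω₁).linHom (permRep K G Ω₂)).invariants :=
  (mem_linHom_invariants_iff _).2 fun g f => mulVec_permRep M hM g f

theorem permRep_sub_mem_permSumZero [Fintype Ω₁] (g : G) (f : Ω₁ → K) :
    permRep K G Ω₁ g f - f ∈ (permSumZero K G Ω₁).toSubmodule := by
  rw [mem_permSumZero]
  simp only [Pi.sub_apply, Finset.sum_sub_distrib, sum_permRep, sub_self]

theorem single_sub_single_mem_permSumZero [Fintype Ω₁] [DecidableEq Ω₁] (a b : Ω₁) (c : K) :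
    (Pi.single a c - Pi.single b c : Ω₁ → K) ∈ (permSumZero K G Ω₁).toSubmodule := by
  rw [mem_permSumZero]
  simp [Finset.sum_sub_distrib]

/-- A submodule containing all `δ_x - δ_a` contains the sum-zero functions. -/
theorem permSumZero_le_of_single_sub [Fintype Ω₁] [DecidableEq Ω₁] {W : Submodule K (Ω₁ → K)}
    (a : Ω₁) (h : ∀ x, (Pi.single x 1 - Pi.single a 1 : Ω₁ → K) ∈ W) :
    (permSumZero K G Ω₁).toSubmodule ≤ W := by
  intro f hf
  rw [mem_permSumZero] at hf
  have : f = ∑ x, f x • (Pi.single x 1 - Pi.single a 1 : Ω₁ → K) := by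
    simp only [smul_sub, Finset.sum_sub_distrib, ← Finset.sum_smul, hf, zero_smul, sub_zero]
    funext y
    simp [Finset.sum_apply, Pi.single_apply]
  rw [this]
  exact W.sum_mem fun x _ => W.smul_mem _ (h x)

end ring

section orbital

variable (G : Type*) [Group G] {Ω₁ Ω₂ : Type*} [MulAction G Ω₁] [MulAction G Ω₂]

open Classical in
/-- The `0/1` matrix of the orbit of the pair `(b, a)`. -/
noncomputable def orbMat (K : Type*) [Zero K] [One K] (b : Ω₂) (a : Ω₁) : Matrix Ω₂ Ω₁ K :=
  Matrix.of fun y x => if ∃ g : G, g • b = y ∧ g • a = x then 1 else 0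

variable {G}

theorem orbMat_invariant (K : Type*) [Zero K] [One K] (b : Ω₂) (a : Ω₁) (g : G) (y : Ω₂) (x : Ω₁) :
    orbMat G K b a (g • y) (g • x) = orbMat G K b a y x := by
  have : (∃ h : G, h • b = g • y ∧ h • a = g • x) ↔ ∃ h : G, h • b = y ∧ h • a = x := by
    constructor
    · rintro ⟨h, h1, h2⟩
      exact ⟨g⁻¹ * h, by rw [mul_smul, h1, inv_smul_smul], by rw [mul_smul, h2, inv_smul_smul]⟩
    · rintro ⟨h, h1, h2⟩
      exact ⟨g * h, by rw [mul_smul, h1], by rw [mul_smul, h2]⟩
  classical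
  simp only [orbMat, Matrix.of_apply]
  exact if_congr this rfl rfl

theorem orbMat_of_exists (K : Type*) [Zero K] [One K] {b : Ω₂} {a : Ω₁} {y : Ω₂} {x : Ω₁}
    (h : ∃ g : G, g • b = y ∧ g • a = x) : orbMat G K b a y x = 1 := by
  simp only [orbMat, Matrix.of_apply, if_pos h]

theorem orbMat_of_not_exists (K : Type*) [Zero K] [One K] {b : Ω₂} {a : Ω₁} {y : Ω₂} {x : Ω₁}
    (h : ¬ ∃ g : G, g • b = y ∧ g • a = x) : orbMat G K b a y x = 0 := by
  simp only [orbMat, Matrix.of_apply, if_neg h]

theorem orbMat_self (K : Type*) [Zero K] [One K] (b : Ω₂) (a : Ω₁) : orbMat G K b a b a = 1 :=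
  orbMat_of_exists K ⟨1, one_smul _ _, one_smul _ _⟩

theorem orbMat_cast (K : Type*) [AddMonoidWithOne K] (b : Ω₂) (a : Ω₁) (y : Ω₂) (x : Ω₁) :
    orbMat G K b a y x = ((orbMat G ℕ b a y x : ℕ) : K) := by
  by_cases h : ∃ g : G, g • b = y ∧ g • a = x
  · rw [orbMat_of_exists K h, orbMat_of_exists ℕ h, Nat.cast_one]
  · rw [orbMat_of_not_exists K h, orbMat_of_not_exists ℕ h, Nat.cast_zero]

/-- Row sums of an invariant matrix are constant when the action on rows is transitive. -/
theorem row_sum_eq {M : Type*} [AddCommMonoid M] [Fintype Ω₁] [IsPretransitive G Ω₂]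
    (A : Matrix Ω₂ Ω₁ M) (hA : ∀ (g : G) y x, A (g • y) (g • x) = A y x) (y y' : Ω₂) :
    ∑ x, A y x = ∑ x, A y' x := by
  obtain ⟨g, rfl⟩ := exists_smul_eq G y y'
  rw [← sum_smul_eq g (fun x => A (g • y) x)]
  simp only [hA]

/-- For a transitive action, the row sums and column sums of an orbital matrix agree. -/
theorem orbMat_col_sum_eq_row_sum (K : Type*) [AddCommMonoidWithOne K] {Ω : Type*} [Fintype Ω]
    [MulAction G Ω] [IsPretransitive G Ω] (b a x y : Ω) :
    ∑ z, orbMat G K b a z x = ∑ z, orbMat G K b a y z := by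
  simp only [orbMat_cast K, ← Nat.cast_sum]
  congr 1
  have hA := orbMat_invariant (G := G) ℕ b a
  have h1 : ∀ y', ∑ z, orbMat G ℕ b a y' z = ∑ z, orbMat G ℕ b a y z :=
    fun y' => row_sum_eq (G := G) _ hA y' y
  have h2 : ∀ x', ∑ z, orbMat G ℕ b a z x' = ∑ z, orbMat G ℕ b a z x :=
    fun x' => row_sum_eq (G := G) (orbMat G ℕ b a).transpose (fun g y x => hA g x y) x' x
  have h3 : ∑ y', ∑ z, orbMat G ℕ b a y' z = ∑ x', ∑ z, orbMat G ℕ b a z x' := Finset.sum_comm
  simp only [h1, h2, Finset.sum_const, smul_eq_mul] at h3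
  have : 0 < (Finset.univ : Finset Ω).card := Finset.card_pos.2 ⟨a, Finset.mem_univ _⟩
  exact (Nat.eq_of_mul_eq_mul_left this h3).symm

/-- The row sum of the orbital matrix is the length of the suborbit. -/
theorem orbMat_row_sum (K : Type*) [AddCommMonoidWithOne K] [Fintype Ω₁] (b : Ω₂) (a : Ω₁) :
    ∑ x, orbMat G K b a b x = (Nat.card (orbit (stabilizer G b) a) : K) := by
  classical
  have : ∀ x, orbMat G K b a b x = if x ∈ orbit (stabilizer G b) a then 1 else 0 := by
    intro x
    by_cases h : x ∈ orbit (stabilizer G b) a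
    · rw [if_pos h]
      obtain ⟨g, hg⟩ := h
      exact orbMat_of_exists K ⟨g, g.2, hg⟩
    · rw [if_neg h]
      refine orbMat_of_not_exists K ?_
      rintro ⟨g, h1, h2⟩
      exact h ⟨⟨g, h1⟩, h2⟩
  simp only [this, Finset.sum_boole]
  congr 1
  rw [Nat.card_eq_fintype_card, Fintype.card_subtype]

end orbital

section pgroup

/-- A finite `p`-group acting linearly in characteristic `p`: every invariant additive subgroup
`≠ 0` has a non-zero fixed vector. -/
theorem exists_fixed_ne_zero_of_isPGroup {K P V : Type*} [Field K] {p : ℕ} [Fact p.Prime]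
    [CharP K p] [Group P] [Finite P] (hP : IsPGroup p P) [AddCommGroup V] [Module K V]
    (ρ : Representation K P V) (W : Submodule K V) (hW : ∀ g, ∀ v ∈ W, ρ g v ∈ W) (hne : W ≠ ⊥) :
    ∃ w ∈ W, w ≠ 0 ∧ ∀ g, ρ g w = w := by
  obtain ⟨v, hvW, hv⟩ := W.exists_mem_ne_zero_of_ne_bot hne
  set X : AddSubgroup V := AddSubgroup.closure (Set.range fun g => ρ g v) with hX
  have hXW : ∀ x ∈ X, x ∈ W := by
    have : X ≤ W.toAddSubgroup := by
      rw [hX, AddSubgroup.closure_le]
      rintro _ ⟨g, rfl⟩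
      exact hW g v hvW
    exact fun x hx => this hx
  have hp : ∀ x : V, p • x = 0 := by
    intro x
    rw [← Nat.cast_smul_eq_nsmul K, CharP.cast_eq_zero, zero_smul]
  have hp' : p.Prime := Fact.out
  have htors : IsAddTorsion X := by
    intro x
    rw [isOfFinAddOrder_iff_nsmul_eq_zero]
    exact ⟨p, hp'.pos, Subtype.ext (hp x)⟩
  have : AddGroup.FG X := AddGroup.closure_finite_fg _
  have : Finite X := AddCommGroup.finite_of_fg_isAddTorsion X htors
  have hinv : ∀ g, ∀ x ∈ X, ρ g x ∈ X := by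
    intro g x hx
    induction hx using AddSubgroup.closure_induction with
    | mem x hx =>
      obtain ⟨h, rfl⟩ := hx
      exact AddSubgroup.subset_closure ⟨g * h, by simp⟩
    | zero => simp
    | add x y _ _ hx hy => rw [map_add]; exact X.add_mem hx hy
    | neg x _ hx => rw [map_neg]; exact X.neg_mem hx
  let : MulAction P X :=
    { smul := fun g x => ⟨ρ g x, hinv g x x.2⟩
      one_smul := fun x => Subtype.ext (by change ρ 1 x = x; simp)
      mul_smul := fun g h x => Subtype.ext (by change ρ (g * h) x = ρ g (ρ h x); simp) }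
  have hvX : v ∈ X := AddSubgroup.subset_closure ⟨1, by simp⟩
  have hdvd : p ∣ Nat.card X := by
    have h1 : addOrderOf (⟨v, hvX⟩ : X) = p :=
      addOrderOf_eq_prime (Subtype.ext (hp v)) (fun h => hv (congrArg Subtype.val h))
    rw [← h1]
    exact addOrderOf_dvd_natCard _
  have h0 : (0 : X) ∈ fixedPoints P X := fun g => Subtype.ext (by change ρ g 0 = 0; simp)
  obtain ⟨b, hb, hb0⟩ := hP.exists_fixed_point_of_prime_dvd_card_of_fixed_point X hdvd h0
  exact ⟨b, hXW _ b.2, fun h => hb0 (Subtype.ext h.symm), fun g => congrArg Subtype.val (hb g)⟩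

/-- A subgroup whose index is prime to the degree of a transitive action is transitive. -/
theorem isPretransitive_of_coprime_index {G Ω : Type*} [Group G] [Finite Ω] [MulAction G Ω]
    [IsPretransitive G Ω] (H : Subgroup G) (h : Nat.Coprime (Nat.card Ω) H.index) :
    IsPretransitive H Ω := by
  rcases isEmpty_or_nonempty Ω with hΩ | ⟨⟨a⟩⟩
  · infer_instance
  have h1 : (stabilizer G a).index = Nat.card Ω := index_stabilizer_of_transitive G a
  have h2 : (stabilizer H a).index = (orbit H a).ncard := index_stabilizer H a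
  have h3 : stabilizer H a = (stabilizer G a).subgroupOf H := by
    ext; simp [Subgroup.mem_subgroupOf, Subgroup.smul_def]
  have h4 : (stabilizer G a ⊓ H).relIndex H * H.index = (stabilizer G a ⊓ H).index :=
    Subgroup.relIndex_mul_index inf_le_right
  have h5 : (stabilizer G a).index ∣ (stabilizer G a ⊓ H).index :=
    Subgroup.index_dvd_of_le inf_le_left
  rw [Subgroup.inf_relIndex_right] at h4
  rw [← h4, h1] at h5
  have h6 : Nat.card Ω ∣ (orbit H a).ncard := by
    rw [← h2, h3]
    exact h.dvd_of_dvd_mul_right h5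
  have h7 : orbit H a = Set.univ := by
    apply Set.eq_of_subset_of_ncard_le (Set.subset_univ _) _ (Set.toFinite _)
    rw [Set.ncard_univ]
    exact Nat.le_of_dvd ((Set.ncard_pos (Set.toFinite _)).2 (nonempty_orbit a)) h6
  exact (isPretransitive_iff_orbit_eq_univ a).2 h7

/-- In prime-power degree the Sylow subgroups of a transitive group are transitive. -/
theorem sylow_isPretransitive {G Ω : Type*} [Group G] [Finite G] [Finite Ω] [MulAction G Ω]
    [IsPretransitive G Ω] {p f : ℕ} [Fact p.Prime] (hcard : Nat.card Ω = p ^ f) (P : Sylow p G) :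
    IsPretransitive (P : Subgroup G) Ω := by
  apply isPretransitive_of_coprime_index
  rw [hcard]
  exact Nat.Coprime.pow_left _ ((Nat.Prime.coprime_iff_not_dvd Fact.out).2 P.not_dvd_index)

/-- In characteristic `p` and degree `p ^ f`, every non-zero invariant subspace of the permutation
module of a transitive group contains the constants. -/
theorem one_mem_of_ne_bot {G : Type*} [Group G] [Finite G] {K : Type*} [Field K] {p f : ℕ}
    [Fact p.Prime] [CharP K p] {Ω : Type*} [Finite Ω] [MulAction G Ω] [IsPretransitive G Ω]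
    (hcard : Nat.card Ω = p ^ f) (W : Submodule K (Ω → K))
    (hinv : ∀ g : G, ∀ v ∈ W, permRep K G Ω g v ∈ W) (hW : W ≠ ⊥) :
    (fun _ => (1 : K)) ∈ W := by
  obtain ⟨P⟩ : Nonempty (Sylow p G) := inferInstance
  have := sylow_isPretransitive hcard P
  obtain ⟨w, hwW, hw0, hw⟩ := exists_fixed_ne_zero_of_isPGroup P.isPGroup'
    (permRep K (P : Subgroup G) Ω) W (fun g v hv => hinv g v hv) hW
  obtain ⟨a, ha⟩ : ∃ a, w a ≠ 0 := by
    by_contra h
    push Not at h
    exact hw0 (funext h)
  have hc : ∀ x, w x = w a := by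
    intro x
    obtain ⟨g, rfl⟩ := exists_smul_eq (P : Subgroup G) a x
    have := congrFun (hw g) (g • a)
    rw [permRep_apply, inv_smul_smul] at this
    exact this.symm
  have : (fun _ => (1 : K)) = (w a)⁻¹ • w := by
    funext x
    simp [hc x, ha]
  rw [this]
  exact W.smul_mem _ hwW

end pgroup

end CL.Perm
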