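import Cfsg.Agent.Base
import Cfsg.Agent.Char.Orth
import Cfsg.Agent.Char.Integral
import Cfsg.Agent.Char.PermChar
import Cfsg.Agent.Char.Perm
import Cfsg.Agent.Perm.Module

/-!
# Isotypic projections and the centraliser ring of a permutation module
-/

set_option autoImplicit false

open Cfsg Module CL.Char
open scoped ComplexConjugate

namespace CL.Perm

section Iso

variable {G : Type*} [Group G] [Fintype G] {V : Type*} [AddCommGroup V] [Module ℂ V]

/-- The projection onto the `χ`-isotypic component. -/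
noncomputable def isoProj (ρ : Representation ℂ G V) (χ : G → ℂ) : V →ₗ[ℂ] V :=
  ∑ g, (χ 1 / Nat.card G * χ g⁻¹) • ρ g

theorem isoProj_comm_of_comm (ρ : Representation ℂ G V) (χ : G → ℂ) {T : V →ₗ[ℂ] V}
    (hT : ∀ g v, T (ρ g v) = ρ g (T v)) (v : V) : T (isoProj ρ χ v) = isoProj ρ χ (T v) := by
  simp only [isoProj, LinearMap.sum_apply, LinearMap.smul_apply, map_sum, map_smul, hT]

theorem isoProj_rep (ρ : Representation ℂ G V) {χ : G → ℂ} (hχ : IsClassFunction G χ) (h : G)
    (v : V) : isoProj ρ χ (ρ h v) = ρ h (isoProj ρ χ v) := by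
  have hf : IsClassFunction G (fun g => χ 1 / Nat.card G * χ g⁻¹) := fun g k => by
    have := classFun_inv hχ g k
    simp only at this ⊢
    rw [this]
  exact LinearMap.congr_fun (sum_smul_commute ρ hf h) v

theorem sum_isoProj (ρ : Representation ℂ G V) (v : V) :
    ∑ χ : IrrCharacter G, isoProj ρ χ v = v := by
  classical
  simp only [isoProj, LinearMap.sum_apply, LinearMap.smul_apply]
  rw [Finset.sum_comm]
  have h : ∀ g : G, ∑ χ : IrrCharacter G, ((χ : G → ℂ) 1 / Nat.card G * (χ : G → ℂ) g⁻¹) • ρ g v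
      = if g = 1 then v else 0 := by
    intro g
    rw [← Finset.sum_smul]
    have h1 : ∑ χ : IrrCharacter G, ((χ : G → ℂ) 1 / Nat.card G * (χ : G → ℂ) g⁻¹) =
        regChar G g⁻¹ / Nat.card G := by
      rw [regChar_eq_sum, Finset.sum_apply, Finset.sum_div]
      refine Finset.sum_congr rfl fun χ _ => ?_
      simp only [Pi.smul_apply, smul_eq_mul]; ring
    rw [h1]
    split_ifs with hg
    · subst hg
      rw [inv_one, regChar_one, div_self card_ne_zero, one_smul, map_one, Module.End.one_apply]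
    · rw [regChar_of_ne (inv_ne_one.2 hg), zero_div, zero_smul]
  simp only [h, Finset.sum_ite_eq', Finset.mem_univ, if_true]

theorem isoProj_isoProj_eq (ρ : Representation ℂ G V) (χ ψ : G → ℂ) (v : V) :
    isoProj ρ χ (isoProj ρ ψ v) = ∑ k, (χ 1 / Nat.card G * (ψ 1 / Nat.card G) *
      ∑ g, χ g⁻¹ * ψ (k⁻¹ * g)) • ρ k v := by
  simp only [isoProj, LinearMap.sum_apply, LinearMap.smul_apply, map_sum, map_smul,
    Finset.smul_sum, Finset.mul_sum, Finset.sum_smul]
  refine (Finset.sum_comm.trans ?_).trans Finset.sum_comm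
  refine Finset.sum_congr rfl fun g _ => ?_
  refine (Fintype.sum_equiv (Equiv.mulLeft g) _ _ fun h => ?_)
  simp only [Equiv.coe_mulLeft, smul_smul, map_mul, Module.End.mul_apply, mul_inv_rev,
    inv_mul_cancel_right]
  congr 1; ring

theorem isoProj_isoProj_self (ρ : Representation ℂ G V) {χ : G → ℂ} (hχ : IsIrrCharacter G χ)
    (v : V) : isoProj ρ χ (isoProj ρ χ v) = isoProj ρ χ v := by
  rw [isoProj_isoProj_eq]
  simp only [isoProj, LinearMap.sum_apply, LinearMap.smul_apply]
  refine Finset.sum_congr rfl fun k _ => ?_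
  congr 1
  have h : ∑ g, χ g⁻¹ * χ (k⁻¹ * g) = (Nat.card G : ℂ) * χ k⁻¹ / χ 1 := by
    rw [← irr_sum_mul_inv_self hχ]
    exact Finset.sum_congr rfl fun g _ => by
      rw [classFun_mul_comm (irr_isClassFunction hχ) k⁻¹ g]
  rw [h]
  have h1 := irr_apply_one_ne_zero hχ
  have h2 : (Nat.card G : ℂ) ≠ 0 := card_ne_zero
  field_simp

theorem isoProj_isoProj_of_ne (ρ : Representation ℂ G V) {χ ψ : G → ℂ} (hχ : IsIrrCharacter G χ)
    (hψ : IsIrrCharacter G ψ) (hne : χ ≠ ψ) (v : V) : isoProj ρ χ (isoProj ρ ψ v) = 0 := by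
  rw [isoProj_isoProj_eq]
  refine Finset.sum_eq_zero fun k _ => ?_
  have h : ∑ g, χ g⁻¹ * ψ (k⁻¹ * g) = 0 := by
    rw [← irr_sum_mul_inv_of_ne hψ hχ hne.symm k⁻¹]
    exact Finset.sum_congr rfl fun g _ => by
      rw [classFun_mul_comm (irr_isClassFunction hψ) k⁻¹ g]
  rw [h, mul_zero, zero_smul]

variable [FiniteDimensional ℂ V]

theorem trace_isoProj_comp (ρ : Representation ℂ G V) {χ : G → ℂ} (hχ : IsIrrCharacter G χ)
    (h : G) : LinearMap.trace ℂ V (isoProj ρ χ ∘ₗ ρ h) = classInner ρ.character χ * χ h := by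
  have h1 : LinearMap.trace ℂ V (isoProj ρ χ ∘ₗ ρ h) =
      χ 1 / Nat.card G * ∑ g, χ g⁻¹ * ρ.character (g * h) := by
    rw [← Module.End.mul_eq_comp, isoProj, Finset.sum_mul, map_sum, Finset.mul_sum]
    refine Finset.sum_congr rfl fun g _ => ?_
    rw [smul_mul_assoc, map_smul, smul_eq_mul, mul_assoc, ← map_mul]
    rfl
  rw [h1]
  have hθ := char_isClassFunction (isCharacter_character ρ)
  have h2 : ∑ g, χ g⁻¹ * ρ.character (g * h) = ∑ ψ : IrrCharacter G,
      classInner ρ.character ψ * ∑ g, χ g⁻¹ * (ψ : G → ℂ) (g * h) := by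
    simp only [Finset.mul_sum]
    rw [Finset.sum_comm]
    refine Finset.sum_congr rfl fun g _ => ?_
    rw [classFun_apply_eq_sum hθ (g * h), Finset.mul_sum]
    exact Finset.sum_congr rfl fun ψ _ => by ring
  rw [h2, Finset.sum_eq_single ⟨χ, hχ⟩]
  · simp only
    rw [irr_sum_mul_inv_self hχ]
    have h1 := irr_apply_one_ne_zero hχ
    have h2 : (Nat.card G : ℂ) ≠ 0 := card_ne_zero
    field_simp
  · intro ψ _ hψ
    rw [irr_sum_mul_inv_of_ne ψ.2 hχ (fun e => hψ (Subtype.ext e)), mul_zero]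
  · simp

theorem trace_isoProj (ρ : Representation ℂ G V) {χ : G → ℂ} (hχ : IsIrrCharacter G χ) :
    LinearMap.trace ℂ V (isoProj ρ χ) = classInner ρ.character χ * χ 1 := by
  rw [← trace_isoProj_comp ρ hχ, map_one]; rfl

/-- The isotypic component as a subrepresentation. -/
noncomputable def isoSub (ρ : Representation ℂ G V) {χ : G → ℂ} (hχ : IsIrrCharacter G χ) :
    Subrepresentation ρ where
  toSubmodule := LinearMap.range (isoProj ρ χ)
  apply_mem_toSubmodule g := by
    rintro _ ⟨v, rfl⟩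
    exact ⟨ρ g v, isoProj_rep ρ (irr_isClassFunction hχ) g v⟩

theorem character_isoSub (ρ : Representation ℂ G V) {χ : G → ℂ} (hχ : IsIrrCharacter G χ) :
    (isoSub ρ hχ).toRepresentation.character = classInner ρ.character χ • χ := by
  funext h
  rw [Pi.smul_apply, smul_eq_mul, ← trace_isoProj_comp ρ hχ]
  have hmem : ∀ v, (isoProj ρ χ ∘ₗ ρ h) v ∈ (isoSub ρ hχ).toSubmodule := fun v => ⟨_, rfl⟩
  rw [← LinearMap.trace_restrict_eq_of_forall_mem _ _ hmem]
  change LinearMap.trace ℂ _ _ = _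
  congr 1
  refine LinearMap.ext fun v => Subtype.ext ?_
  obtain ⟨_, v, rfl⟩ := v
  change ρ h (isoProj ρ χ v) = isoProj ρ χ (ρ h (isoProj ρ χ v))
  rw [isoProj_rep ρ (irr_isClassFunction hχ), isoProj_isoProj_self ρ hχ]

theorem isoProj_eq_zero (ρ : Representation ℂ G V) {χ : G → ℂ} (hχ : IsIrrCharacter G χ)
    (h : classInner ρ.character χ = 0) : isoProj ρ χ = 0 := by
  have h1 := congrFun (character_isoSub ρ hχ) 1
  rw [h, zero_smul, Representation.char_one, Pi.zero_apply, Nat.cast_eq_zero,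
    Submodule.finrank_eq_zero] at h1
  exact LinearMap.range_eq_bot.1 h1

theorem isoProj_ne_zero (ρ : Representation ℂ G V) {χ : G → ℂ} (hχ : IsIrrCharacter G χ)
    (h : classInner ρ.character χ ≠ 0) : isoProj ρ χ ≠ 0 := by
  intro h0
  have h1 := trace_isoProj ρ hχ
  rw [h0, map_zero] at h1
  exact mul_ne_zero h (irr_apply_one_ne_zero hχ) h1.symm

/-- An intertwiner acts as a scalar on an isotypic component of multiplicity one. -/
theorem exists_comp_isoProj_eq_smul (ρ : Representation ℂ G V) {χ : G → ℂ}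
    (hχ : IsIrrCharacter G χ) (h : classInner ρ.character χ = 0 ∨ classInner ρ.character χ = 1)
    {T : V →ₗ[ℂ] V} (hT : ∀ g v, T (ρ g v) = ρ g (T v)) :
    ∃ c : ℂ, ∀ v, T (isoProj ρ χ v) = c • isoProj ρ χ v := by
  rcases h with h | h
  · exact ⟨0, fun v => by rw [isoProj_eq_zero ρ hχ h]; simp⟩
  have h1 := character_isoSub ρ hχ
  rw [h, one_smul] at h1
  have hirr : (isoSub ρ hχ).toRepresentation.IsIrreducible :=
    isIrreducible_of_irr _ (by rw [h1]; exact hχ)
  have hmap : ∀ v ∈ (isoSub ρ hχ).toSubmodule, T v ∈ (isoSub ρ hχ).toSubmodule := by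
    rintro _ ⟨v, rfl⟩
    exact ⟨T v, (isoProj_comm_of_comm ρ χ hT v).symm⟩
  obtain ⟨c, hc⟩ := exists_eq_smul_of_comm (isoSub ρ hχ).toRepresentation (T.restrict hmap)
    (fun g v => Subtype.ext (hT g v))
  refine ⟨c, fun v => ?_⟩
  exact congrArg Subtype.val (LinearMap.congr_fun hc ⟨isoProj ρ χ v, v, rfl⟩)

/-- In a multiplicity-free representation every intertwiner is a combination of the isotypic
projections. -/
theorem exists_eq_sum_isoProj (ρ : Representation ℂ G V)
    (h : ∀ χ, IsIrrCharacter G χ → classInner ρ.character χ = 0 ∨ classInner ρ.character χ = 1)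
    {T : V →ₗ[ℂ] V} (hT : ∀ g v, T (ρ g v) = ρ g (T v)) :
    ∃ c : IrrCharacter G → ℂ, T = ∑ χ : IrrCharacter G, c χ • isoProj ρ χ := by
  choose c hc using fun χ : IrrCharacter G => exists_comp_isoProj_eq_smul ρ χ.2 (h χ χ.2) hT
  refine ⟨c, LinearMap.ext fun v => ?_⟩
  conv_lhs => rw [← sum_isoProj ρ v]
  simp only [map_sum, hc, LinearMap.sum_apply, LinearMap.smul_apply]

theorem comm_of_multFree (ρ : Representation ℂ G V)
    (h : ∀ χ, IsIrrCharacter G χ → classInner ρ.character χ = 0 ∨ classInner ρ.character χ = 1)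
    {S T : V →ₗ[ℂ] V} (hS : ∀ g v, S (ρ g v) = ρ g (S v)) (hT : ∀ g v, T (ρ g v) = ρ g (T v)) :
    S ∘ₗ T = T ∘ₗ S := by
  obtain ⟨c, rfl⟩ := exists_eq_sum_isoProj ρ h hT
  refine LinearMap.ext fun v => ?_
  simp only [LinearMap.comp_apply, LinearMap.sum_apply, LinearMap.smul_apply, map_sum, map_smul,
    isoProj_comm_of_comm ρ _ hS]

omit [Fintype G] in
theorem exists_isCompl_subrep [Finite G] {ρ : Representation ℂ G V} (U : Subrepresentation ρ) :
    ∃ U' : Subrepresentation ρ, IsCompl U.toSubmodule U'.toSubmodule := by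
  have : NeZero (Nat.card G : ℂ) := neZero_card
  obtain ⟨U', h⟩ := exists_isCompl U
  exact ⟨U', isCompl_toSubmodule h⟩

theorem multFree_of_comm (ρ : Representation ℂ G V)
    (h : ∀ S T : V →ₗ[ℂ] V, (∀ g v, S (ρ g v) = ρ g (S v)) → (∀ g v, T (ρ g v) = ρ g (T v)) →
      S ∘ₗ T = T ∘ₗ S) {χ : G → ℂ} (hχ : IsIrrCharacter G χ) :
    classInner ρ.character χ = 0 ∨ classInner ρ.character χ = 1 := by
  by_contra hcon
  rw [not_or] at hcon
  obtain ⟨n, σ, hσ, rfl⟩ := hχ
  obtain ⟨U, ⟨e⟩⟩ := exists_subrep_equiv_of_inner_ne_zero σ ρ hcon.1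
  obtain ⟨U', hUU'⟩ := exists_isCompl_subrep U
  have hirr : U.toRepresentation.IsIrreducible := isIrreducible_of_equiv e
  have hchar : σ.character = U.toRepresentation.character := Representation.char_iso e
  have hsum := character_eq_add_of_isCompl U U' hUU'
  have hne : classInner U'.toRepresentation.character U.toRepresentation.character ≠ 0 := by
    intro h0
    apply hcon.2
    rw [hsum, classInner_add_left, hchar, h0, add_zero,
      irr_inner_self (isIrrCharacter_character _)]
  obtain ⟨W, ⟨f⟩⟩ := exists_subrep_equiv_of_inner_ne_zero U.toRepresentation U'.toRepresentation hne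
  let p : V →ₗ[ℂ] U.toSubmodule := Submodule.projectionOnto _ _ hUU'
  have hp : ∀ g v, p (ρ g v) = U.toRepresentation g (p v) := by
    intro g v
    obtain ⟨⟨u, u'⟩, rfl⟩ := (Submodule.prodEquivOfIsCompl _ _ hUU').surjective v
    rw [Submodule.coe_prodEquivOfIsCompl', map_add, map_add, map_add]
    have h1 : p (ρ g u) = U.toRepresentation g u :=
      Submodule.projectionOnto_apply_left hUU' (U.toRepresentation g u)
    have h2 : p (ρ g u') = 0 :=
      Submodule.projectionOnto_apply_right hUU' (U'.toRepresentation g u')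
    have h3 : p u = u := Submodule.projectionOnto_apply_left hUU' u
    have h4 : p u' = 0 := Submodule.projectionOnto_apply_right hUU' u'
    simp only [h1, h2, h3, h4, add_zero, map_zero]
  let S : V →ₗ[ℂ] V := U.toSubmodule.subtype ∘ₗ p
  let T : V →ₗ[ℂ] V := U'.toSubmodule.subtype ∘ₗ W.toSubmodule.subtype ∘ₗ
    f.toLinearEquiv.toLinearMap ∘ₗ p
  have hS : ∀ g v, S (ρ g v) = ρ g (S v) := fun g v => congrArg Subtype.val (hp g v)
  have hT : ∀ g v, T (ρ g v) = ρ g (T v) := fun g v => by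
    change ((f (p (ρ g v)) : U'.toSubmodule) : V) = ρ g ((f (p v) : U'.toSubmodule) : V)
    rw [hp, repEquiv_apply f]; rfl
  have hnt := nontrivial_of_isIrreducible U.toRepresentation
  obtain ⟨u, hu⟩ := exists_ne (0 : U.toSubmodule)
  have h1 := LinearMap.congr_fun (h S T hS hT) u
  have h3 : p u = u := Submodule.projectionOnto_apply_left hUU' u
  change ((p ((f (p u) : U'.toSubmodule) : V) : U.toSubmodule) : V) =
    ((f (p (p u : V)) : U'.toSubmodule) : V) at h1
  rw [h3, h3, show p ((f u : U'.toSubmodule) : V) = 0 from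
    Submodule.projectionOnto_apply_right hUU' _] at h1
  apply hu
  have h5 : f u = 0 := Subtype.ext (Subtype.ext h1.symm)
  exact f.toLinearEquiv.injective (h5.trans (map_zero f.toLinearEquiv).symm)

/-- The dimension of a subrepresentation without trivial constituent is divisible by any common
divisor of the degrees of the non-principal constituents. -/
theorem dvd_finrank_subrep (ρ : Representation ℂ G V) {f : ℕ}
    (hf : ∀ χ, IsIrrCharacter G χ → χ ≠ (fun _ => 1) → classInner ρ.character χ ≠ 0 →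
      ∃ m : ℕ, χ 1 = (f : ℂ) * m) (U : Subrepresentation ρ)
    (hU : ∀ v ∈ U.toSubmodule, (∀ g, ρ g v = v) → v = 0) : f ∣ finrank ℂ U.toSubmodule := by
  obtain ⟨U', hUU'⟩ := exists_isCompl_subrep U
  have hsum := character_eq_add_of_isCompl U U' hUU'
  have hc := isCharacter_character U.toRepresentation
  obtain ⟨c, hc1, hc2⟩ := char_exists_eq_sum hc
  have h1 : finrank ℂ U.toSubmodule = ∑ χ : IrrCharacter G, c χ * deg (χ : G → ℂ) := by
    have := congrFun hc2 1
    rw [Representation.char_one, Finset.sum_apply] at this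
    apply Nat.cast_injective (R := ℂ)
    rw [this, Nat.cast_sum]
    refine Finset.sum_congr rfl fun χ _ => ?_
    rw [Nat.cast_mul, irr_cast_deg χ.2]; rfl
  rw [h1]
  refine Finset.dvd_sum fun χ _ => ?_
  by_cases h0 : c χ = 0
  · rw [h0, zero_mul]; exact dvd_zero _
  have hne : classInner U.toRepresentation.character χ ≠ 0 := by
    rw [hc1]; exact_mod_cast h0
  by_cases hχ1 : (χ : G → ℂ) = fun _ => 1
  · exfalso
    apply hne
    rw [hχ1, classInner_character_one, Nat.cast_eq_zero, Submodule.finrank_eq_zero,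
      eq_bot_iff]
    intro v hv
    exact Subtype.ext (hU v v.2 fun g => congrArg Subtype.val (hv g))
  · obtain ⟨m, hm⟩ := hf χ χ.2 hχ1 (by
      rw [hsum]
      exact inner_add_ne_zero_left hc (isCharacter_character _) (irr_isCharacter χ.2) hne)
    rw [deg_eq_of_apply_one (n := f * m) (by rw [hm, Nat.cast_mul])]
    exact Dvd.dvd.mul_left (dvd_mul_right _ _) _

end Iso

section Trace

/-- The trace of an endomorphism whose non-zero eigenvalues are algebraic integers with
multiplicities divisible by `f` is `f` times an algebraic integer. -/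
theorem exists_trace_eq_mul {V : Type*} [AddCommGroup V] [Module ℂ V] [FiniteDimensional ℂ V]
    (T : Module.End ℂ V) (f : ℕ)
    (h : ∀ μ : ℂ, μ ≠ 0 → T.HasEigenvalue μ →
      IsIntegral ℤ μ ∧ f ∣ finrank ℂ (T.maxGenEigenspace μ)) :
    ∃ z : ℂ, IsIntegral ℤ z ∧ LinearMap.trace ℂ V T = f * z := by
  classical
  rw [Module.End.trace_eq_sum_roots_charpoly_of_splits (IsAlgClosed.splits _),
    Finset.sum_multiset_count]
  have key : ∀ μ ∈ T.charpoly.roots.toFinset, ∃ z : ℂ, IsIntegral ℤ z ∧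
      T.charpoly.roots.count μ • μ = f * z := by
    intro μ hμ
    by_cases h0 : μ = 0
    · exact ⟨0, isIntegral_zero, by simp [h0]⟩
    have h1 : T.HasEigenvalue μ := (Module.End.hasEigenvalue_iff_isRoot_charpoly T μ).2
      (Polynomial.isRoot_of_mem_roots (Multiset.mem_toFinset.1 hμ))
    obtain ⟨hi, m, hm⟩ := h μ h0 h1
    rw [LinearMap.finrank_maxGenEigenspace_eq] at hm
    refine ⟨m * μ, (isIntegral_natCast m).mul hi, ?_⟩
    rw [Polynomial.count_roots, hm, nsmul_eq_mul, Nat.cast_mul, mul_assoc]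
  choose! z hz1 hz2 using key
  refine ⟨∑ μ ∈ T.charpoly.roots.toFinset, z μ, IsIntegral.sum _ hz1, ?_⟩
  rw [Finset.mul_sum]
  exact Finset.sum_congr rfl hz2

theorem isIntegral_toLin'_of_int {Ω : Type*} [Fintype Ω] [DecidableEq Ω] (A : Matrix Ω Ω ℤ) :
    IsIntegral ℤ (Matrix.toLin' (A.map (Int.castRingHom ℂ)) : Module.End ℂ (Ω → ℂ)) := by
  have h1 : IsIntegral ℤ A := Matrix.isIntegral A
  have h2 := h1.map ((Int.castRingHom ℂ).mapMatrix (m := Ω)).toIntAlgHom
  exact h2.map (Matrix.toLinAlgEquiv' (R := ℂ) (n := Ω)).toRingHom.toIntAlgHom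

end Trace

section PermChar

variable {G : Type*} [Group G] {Ω : Type*} [MulAction G Ω]

theorem character_permRep [Finite Ω] :
    (permRep ℂ G Ω).character = fun g : G => (Nat.card (MulAction.fixedBy Ω g) : ℂ) := by
  funext g
  have h := trace_funLeft (k := ℂ) (fun x : Ω => g⁻¹ • x)
  refine h.trans ?_
  congr 1
  refine Nat.card_congr (Equiv.subtypeEquivRight fun x => ?_)
  rw [MulAction.mem_fixedBy, inv_smul_eq_iff, eq_comm]

theorem toMatrix'_permRep [Fintype Ω] [DecidableEq Ω] (g : G) (y x : Ω) :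
    LinearMap.toMatrix' (permRep ℂ G Ω g) y x = if y = g • x then 1 else 0 := by
  rw [LinearMap.toMatrix'_apply, permRep_apply, Pi.single_apply]
  simp only [inv_smul_eq_iff]

theorem toMatrix'_isoProj_transpose [Fintype G] [Fintype Ω] [DecidableEq Ω] {χ : G → ℂ}
    (hχ : IsCharacter G χ) (y x : Ω) :
    LinearMap.toMatrix' (isoProj (permRep ℂ G Ω) χ) y x =
      LinearMap.toMatrix' (isoProj (permRep ℂ G Ω) (fun g => conj (χ g))) x y := by
  simp only [isoProj, map_sum, map_smul, Matrix.sum_apply, Matrix.smul_apply, toMatrix'_permRep]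
  refine Fintype.sum_equiv (Equiv.inv G) _ _ fun g => ?_
  simp only [Equiv.inv_apply, inv_inv, char_conj_apply_one hχ, char_apply_inv hχ, eq_inv_smul_iff,
    eq_comm]

theorem isoProj_one_apply [Fintype G] [Fintype Ω] [MulAction.IsPretransitive G Ω] (v : Ω → ℂ)
    (x : Ω) : isoProj (permRep ℂ G Ω) (fun _ => 1) v x = (∑ y, v y) / Fintype.card Ω := by
  have hc : ∀ y, isoProj (permRep ℂ G Ω) (fun _ => 1) v y =
      isoProj (permRep ℂ G Ω) (fun _ => 1) v x := by
    intro y
    obtain ⟨h, rfl⟩ := MulAction.exists_smul_eq G x y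
    simp only [isoProj, LinearMap.sum_apply, LinearMap.smul_apply, Finset.sum_apply,
      Pi.smul_apply, permRep_apply]
    refine (Fintype.sum_equiv (Equiv.mulLeft h) _ _ fun g => ?_).symm
    simp [mul_smul]
  have hs : ∑ y, isoProj (permRep ℂ G Ω) (fun _ => 1) v y = ∑ y, v y := by
    simp only [isoProj, LinearMap.sum_apply, LinearMap.smul_apply, Finset.sum_apply,
      Pi.smul_apply, smul_eq_mul]
    rw [Finset.sum_comm]
    simp only [← Finset.mul_sum, sum_permRep, Finset.sum_const, Finset.card_univ, nsmul_eq_mul,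
      ← Nat.card_eq_fintype_card]
    have h2 : (Nat.card G : ℂ) ≠ 0 := card_ne_zero
    field_simp
  have hn : (Fintype.card Ω : ℂ) ≠ 0 := Nat.cast_ne_zero.2 (Fintype.card_pos_iff.2 ⟨x⟩).ne'
  rw [← hs, eq_div_iff hn]
  simp only [hc, Finset.sum_const, Finset.card_univ, nsmul_eq_mul]
  ring

end PermChar

end CL.Perm
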