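import Cfsg.Agent.Base

/-!
# Sharply doubly transitive actions

`CL.Perm.Sharp2 G Ω` is the elementwise form of sharp double transitivity.  The main result
`CL.Perm.Sharp2.exists_kernel` produces the elementary abelian regular normal subgroup.
-/

set_option autoImplicit false

namespace CL.Perm

open MulAction

/-- `G` acts sharply doubly transitively on `Ω` (elementwise form). -/
structure Sharp2 (G Ω : Type*) [Group G] [MulAction G Ω] : Prop where
  trans : ∀ {a b c d : Ω}, a ≠ b → c ≠ d → ∃ g : G, g • a = c ∧ g • b = d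
  sharp : ∀ {g : G} {a b : Ω}, a ≠ b → g • a = a → g • b = b → g = 1

variable {G Ω : Type*} [Group G] [MulAction G Ω]

theorem sharp2_of_stabilizer (h2 : IsMultiplyPretransitive G Ω 2)
    (hsharp : ∀ x : Fin 2 ↪ Ω, MulAction.stabilizer G x = ⊥) : Sharp2 G Ω where
  trans := fun hab hcd => is_two_pretransitive_iff.mp h2 hab hcd
  sharp := by
    intro g a b hab ha hb
    have : g ∈ stabilizer G (Function.Embedding.embFinTwo hab) := by
      rw [mem_stabilizer_iff]
      ext i
      fin_cases i
      · exact ha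
      · exact hb
    rwa [hsharp, Subgroup.mem_bot] at this

theorem Sharp2.isMultiplyPretransitive (h : Sharp2 G Ω) : IsMultiplyPretransitive G Ω 2 :=
  is_two_pretransitive_iff.mpr fun hab hcd => h.trans hab hcd

theorem Sharp2.stabilizer_eq_bot (h : Sharp2 G Ω) (x : Fin 2 ↪ Ω) :
    MulAction.stabilizer G x = ⊥ := by
  rw [eq_bot_iff]
  intro g hg
  rw [mem_stabilizer_iff] at hg
  rw [Subgroup.mem_bot]
  refine h.sharp (a := x 0) (b := x 1) (x.injective.ne (by decide)) ?_ ?_
  · rw [← Function.Embedding.smul_apply, hg]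
  · rw [← Function.Embedding.smul_apply, hg]

theorem Sharp2.isPretransitive (h : Sharp2 G Ω) : IsPretransitive G Ω :=
  have := h.isMultiplyPretransitive
  isPretransitive_of_is_two_pretransitive

theorem Sharp2.eq_of_smul_eq (h : Sharp2 G Ω) {g g' : G} {a b : Ω} (hab : a ≠ b)
    (ha : g • a = g' • a) (hb : g • b = g' • b) : g = g' := by
  have : g'⁻¹ * g = 1 :=
    h.sharp hab (by rw [mul_smul, ha, inv_smul_smul]) (by rw [mul_smul, hb, inv_smul_smul])
  rw [inv_mul_eq_one] at this
  exact this.symm

theorem Sharp2.finite (h : Sharp2 G Ω) [Finite Ω] [Nontrivial Ω] : Finite G := by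
  obtain ⟨a, b, hab⟩ := exists_pair_ne Ω
  exact Finite.of_injective (fun g : G => (g • a, g • b)) fun g g' hg =>
    h.eq_of_smul_eq hab (congrArg Prod.fst hg) (congrArg Prod.snd hg)

/-- The order of a sharply doubly transitive group. -/
theorem Sharp2.card_eq (h : Sharp2 G Ω) [Finite Ω] [Nontrivial Ω] :
    Nat.card G = Nat.card Ω * (Nat.card Ω - 1) := by
  classical
  obtain ⟨a, b, hab⟩ := exists_pair_ne Ω
  have := h.isMultiplyPretransitive
  have h1 := index_stabilizer_of_transitive G (Function.Embedding.embFinTwo hab)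
  rw [h.stabilizer_eq_bot, Subgroup.index_bot] at h1
  have := Fintype.ofFinite Ω
  rw [h1, Nat.card_eq_fintype_card, Fintype.card_embedding_eq, Nat.card_eq_fintype_card]
  simp [Nat.descFactorial, mul_comm]

/-- The number of fixed-point-free elements is `n - 1`. -/
theorem Sharp2.ncard_fpf (h : Sharp2 G Ω) [Finite Ω] [Nontrivial Ω] :
    {g : G | ∀ a : Ω, g • a ≠ a}.ncard = Nat.card Ω - 1 := by
  classical
  have := h.finite
  have := h.isPretransitive
  have := Fintype.ofFinite G
  have := Fintype.ofFinite Ω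
  have : Fintype (orbitRel.Quotient G Ω) := Fintype.ofFinite _
  have hb := sum_card_fixedBy_eq_card_orbits_mul_card_group G Ω
  have h1 : Fintype.card (orbitRel.Quotient G Ω) = 1 := by
    rw [Fintype.card_eq_one_iff_nonempty_unique]
    exact pretransitive_iff_unique_quotient_of_nonempty G Ω |>.mp inferInstance
  rw [h1, one_mul] at hb
  -- each term
  have hterm : ∀ g : G, Fintype.card (fixedBy Ω g) + (if (∀ a : Ω, g • a ≠ a) then 1 else 0)
      = 1 + (if g = 1 then Fintype.card Ω - 1 else 0) := by
    intro g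
    by_cases hg : g = 1
    · subst hg
      have : ¬ ∀ a : Ω, (1 : G) • a ≠ a := fun hh => hh (Classical.arbitrary Ω) (one_smul _ _)
      rw [if_neg this, if_pos rfl]
      have : Fintype.card (fixedBy Ω (1 : G)) = Fintype.card Ω := by simp
      have h0 : 0 < Fintype.card Ω := Fintype.card_pos
      omega
    · rw [if_neg hg]
      by_cases hf : ∀ a : Ω, g • a ≠ a
      · rw [if_pos hf]
        have : Fintype.card (fixedBy Ω g) = 0 := by
          rw [Fintype.card_eq_zero_iff]
          exact ⟨fun x => hf x.1 x.2⟩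
        omega
      · rw [if_neg hf]
        push Not at hf
        obtain ⟨a, ha⟩ := hf
        have : Fintype.card (fixedBy Ω g) = 1 := by
          rw [Fintype.card_eq_one_iff]
          refine ⟨⟨a, ha⟩, fun b => Subtype.ext ?_⟩
          by_contra hne
          exact hg (h.sharp hne b.2 ha)
        omega
  have hsum := Finset.sum_congr (s₁ := Finset.univ) rfl (fun g _ => hterm g)
  rw [Finset.sum_add_distrib, Finset.sum_add_distrib, hb, Finset.sum_ite_eq' Finset.univ (1 : G),
    Finset.sum_boole] at hsum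
  simp only [Finset.sum_const, Finset.card_univ, smul_eq_mul, mul_one, Finset.mem_univ,
    if_true, Nat.cast_id] at hsum
  rw [Nat.card_eq_fintype_card, Set.ncard_eq_toFinset_card', Set.toFinset_ofPred]
  omega

/-- Centraliser order times class size is the group order. -/
theorem card_centralizer_mul_ncard_isConj {G : Type*} [Group G] (x : G) :
    Nat.card (Subgroup.centralizer ({x} : Set G)) * {y : G | IsConj y x}.ncard = Nat.card G := by
  have h1 := index_stabilizer (ConjAct G) x
  have h2 : orbit (ConjAct G) x = {y : G | IsConj y x} := by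
    ext y; exact ConjAct.mem_orbit_conjAct
  rw [Subgroup.nat_card_centralizer_nat_card_stabilizer, ← h2, ← h1,
    Subgroup.card_mul_index]
  rfl

/-- The kernel of a finite sharply doubly transitive group. -/
theorem Sharp2.exists_kernel (h : Sharp2 G Ω) [Finite Ω] [Nontrivial Ω] :
    ∃ (p j : ℕ) (K : Subgroup G), p.Prime ∧ 1 ≤ j ∧ Nat.card Ω = p ^ j ∧ Nat.card K = p ^ j ∧
      K.Normal ∧ (∀ x ∈ K, ∀ y ∈ K, x * y = y * x) ∧ (∀ x ∈ K, x ^ p = 1) ∧
      (∀ g : G, g ∈ K ↔ g = 1 ∨ ∀ a : Ω, g • a ≠ a) ∧
      ∀ a b : Ω, ∃ k ∈ K, k • a = b := by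
  classical
  have := h.finite
  set n := Nat.card Ω with hn
  have hn2 : 1 < n := Finite.one_lt_card
  obtain ⟨p, hp, hpn⟩ := Nat.exists_prime_and_dvd (show n ≠ 1 by omega)
  have := Fact.mk hp
  have hG := h.card_eq
  rw [← hn] at hG
  obtain ⟨x, hx⟩ := exists_prime_orderOf_dvd_card' (G := G) p (hG ▸ Dvd.dvd.mul_right hpn _)
  have hx1 : x ≠ 1 := by
    rintro rfl
    rw [orderOf_one] at hx
    exact hp.one_lt.ne hx
  -- `x` has no fixed point
  have hxF : ∀ a : Ω, x • a ≠ a := by
    intro a ha
    have hP : IsPGroup p (Subgroup.zpowers x) :=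
      IsPGroup.of_card (n := 1) (by rw [Nat.card_zpowers, hx, pow_one])
    have hmod := hP.card_modEq_card_fixedPoints Ω
    have hfix : Nat.card (fixedPoints (Subgroup.zpowers x) Ω) = 1 := by
      rw [Nat.card_eq_one_iff_exists]
      refine ⟨⟨a, ?_⟩, fun b => Subtype.ext ?_⟩
      · rintro ⟨g, hg⟩
        exact (show Subgroup.zpowers x ≤ stabilizer G a by
          rw [Subgroup.zpowers_le]; exact ha) hg
      · by_contra hne
        exact hx1 (h.sharp hne (b.2 ⟨x, Subgroup.mem_zpowers x⟩) ha)
    rw [hfix, ← hn] at hmod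
    have := (Nat.modEq_zero_iff_dvd.mpr hpn).symm.trans hmod
    exact hp.one_lt.ne' (Nat.dvd_one.mp (Nat.modEq_zero_iff_dvd.mp this.symm))
  set F : Set G := {g : G | ∀ a : Ω, g • a ≠ a} with hF
  have hFcard : F.ncard = n - 1 := h.ncard_fpf
  have h1F : (1 : G) ∉ F := fun hh => hh (Classical.arbitrary Ω) (one_smul _ _)
  have hFconj : ∀ y ∈ F, ∀ g : G, g * y * g⁻¹ ∈ F := by
    intro y hy g a ha
    apply hy (g⁻¹ • a)
    rw [mul_smul, mul_smul] at ha
    rw [eq_inv_smul_iff, ha]
  -- centralisers of elements of `F` lie in `insert 1 F`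
  have hCsub : ∀ y ∈ F, (Subgroup.centralizer ({y} : Set G) : Set G) ⊆ insert 1 F := by
    intro y hy g hg
    by_cases hg1 : g = 1
    · exact Or.inl hg1
    · refine Or.inr fun a ha => hg1 (h.sharp (hy a).symm ha ?_)
      have : y * g = g * y := hg y rfl
      rw [← mul_smul, ← this, mul_smul, ha]
  have hK : (insert 1 F : Set G).ncard = n := by
    rw [Set.ncard_insert_of_notMem h1F, hFcard]; omega
  have hkey : ∀ y ∈ F, (Subgroup.centralizer ({y} : Set G) : Set G) = insert 1 F ∧
      {z : G | IsConj z y} = F := by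
    intro y hy
    have hc := card_centralizer_mul_ncard_isConj y
    have hsub : {z : G | IsConj z y} ⊆ F := by
      intro z hz
      obtain ⟨g, hg⟩ := isConj_iff.mp (IsConj.symm hz)
      rw [← hg]
      exact hFconj y hy g
    have ha := Set.ncard_le_ncard (hCsub y hy)
    have hb := Set.ncard_le_ncard hsub
    rw [hK] at ha
    rw [hFcard] at hb
    have hc' : (Subgroup.centralizer ({y} : Set G) : Set G).ncard * {z : G | IsConj z y}.ncard
        = n * (n - 1) := by
      rw [← hG, ← hc]; rfl
    have hn1 : 0 < n - 1 := by omega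
    have e1 : (Subgroup.centralizer ({y} : Set G) : Set G).ncard = n := by
      by_contra hne
      have hlt : (Subgroup.centralizer ({y} : Set G) : Set G).ncard < n := lt_of_le_of_ne ha hne
      have := Nat.mul_lt_mul_of_lt_of_le hlt hb hn1
      omega
    have e2 : {z : G | IsConj z y}.ncard = n - 1 := by
      rw [e1] at hc'
      exact Nat.eq_of_mul_eq_mul_left (by omega) hc'
    exact ⟨Set.eq_of_subset_of_ncard_le (hCsub y hy) (by rw [hK, e1]),
      Set.eq_of_subset_of_ncard_le hsub (by rw [hFcard, e2])⟩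
  set K := Subgroup.centralizer ({x} : Set G) with hKdef
  have hmem : ∀ g : G, g ∈ K ↔ g = 1 ∨ g ∈ F := by
    intro g
    rw [← SetLike.mem_coe, (hkey x hxF).1]; rfl
  have hKcard : Nat.card K = n := by
    rw [← hK, ← (hkey x hxF).1]; rfl
  have hpow : ∀ y ∈ K, y ^ p = 1 := by
    intro y hy
    rcases (hmem y).mp hy with rfl | hy
    · exact one_pow p
    · rw [← (hkey x hxF).2] at hy
      obtain ⟨g, rfl⟩ := isConj_iff.mp (IsConj.symm hy)
      rw [conj_pow, ← hx, pow_orderOf_eq_one, mul_one, mul_inv_cancel]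
  have hPK : IsPGroup p K := fun y => ⟨1, Subtype.ext (by simpa using hpow y y.2)⟩
  obtain ⟨j, hj⟩ := IsPGroup.iff_card.mp hPK
  refine ⟨p, j, K, hp, ?_, by rw [← hj, hKcard], hj, ⟨?_⟩, ?_, hpow, hmem, ?_⟩
  · by_contra hj0
    have : j = 0 := by omega
    rw [this, hKcard, pow_zero] at hj
    omega
  · intro y hy g
    rcases (hmem y).mp hy with rfl | hy
    · simp
    · exact (hmem _).mpr (Or.inr (hFconj y hy g))
  · intro y hy z hz
    rcases (hmem y).mp hy with rfl | hy
    · simp
    · have : z ∈ (Subgroup.centralizer ({y} : Set G) : Set G) := by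
        rw [(hkey y hy).1]; exact (hmem z).mp hz
      exact this y rfl
  · intro a b
    have hinj : Function.Injective (fun k : K => (k : G) • a) := by
      intro k k' hkk
      have : ((k' : G)⁻¹ * k : G) • a = a := by
        rw [mul_smul, inv_smul_eq_iff]; exact hkk
      rcases (hmem _).mp (K.mul_mem (K.inv_mem k'.2) k.2) with h1 | h1
      · exact Subtype.ext (inv_mul_eq_one.mp h1).symm
      · exact absurd this (h1 a)
    have hbij := hinj.bijective_of_nat_card_le (by rw [hKcard])
    obtain ⟨k, hk⟩ := hbij.2 b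
    exact ⟨k, k.2, hk⟩

end CL.Perm
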