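import Cfsg.Agent.Base
import Cfsg.Agent.Perm.Sharp2

/-!
# Near-fields and sharply doubly transitive groups
-/

set_option autoImplicit false

namespace CL.Perm

open MulAction Cfsg

namespace NF

variable {F : Type*} [NearField F]

theorem zero_mul' (c : F) : 0 * c = 0 := by
  have h := NearField.right_distrib (0 : F) 0 c
  rw [add_zero] at h
  exact add_left_cancel (h.symm.trans (add_zero _).symm)

theorem neg_mul' (a c : F) : (-a) * c = -(a * c) := by
  have h := NearField.right_distrib a (-a) c
  rw [add_neg_cancel, zero_mul'] at h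
  exact (neg_eq_of_add_eq_zero_right h.symm).symm

theorem sub_mul' (a b c : F) : (a - b) * c = a * c - b * c := by
  rw [sub_eq_add_neg, NearField.right_distrib, neg_mul', sub_eq_add_neg]

theorem mul_ne_zero' {a b : F} (ha : a ≠ 0) (hb : b ≠ 0) : a * b ≠ 0 := by
  intro h
  obtain ⟨c, hc, -⟩ := NearField.exists_inv b hb
  apply ha
  rw [← mul_one a, ← hc, ← mul_assoc, h, zero_mul']

theorem ne_zero_of_mul_eq_one {a b : F} (h : a * b = 1) : b ≠ 0 := by
  rintro rfl
  rw [NearField.mul_zero] at h
  exact NearField.zero_ne_one h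

/-- The affine group `x ↦ x * a + b` of a near-field. -/
def affine (F : Type*) [NearField F] : Subgroup (Equiv.Perm F) where
  carrier := {σ | ∃ a b : F, a ≠ 0 ∧ ∀ x : F, σ x = x * a + b}
  one_mem' := ⟨1, 0, NearField.zero_ne_one.symm, fun x => by simp⟩
  mul_mem' := by
    rintro σ τ ⟨a, b, ha, hσ⟩ ⟨c, d, hc, hτ⟩
    refine ⟨c * a, d * a + b, mul_ne_zero' hc ha, fun x => ?_⟩
    rw [Equiv.Perm.mul_apply, hτ, hσ, NearField.right_distrib, mul_assoc, add_assoc]
  inv_mem' := by
    rintro σ ⟨a, b, ha, hσ⟩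
    obtain ⟨c, hc, hc'⟩ := NearField.exists_inv a ha
    refine ⟨c, (-b) * c, ne_zero_of_mul_eq_one hc, fun x => ?_⟩
    apply σ.injective
    rw [Equiv.Perm.inv_def, Equiv.apply_symm_apply, hσ, ← NearField.right_distrib, mul_assoc, hc',
      mul_one, neg_add_cancel_right]

/-- The affine map `x ↦ x * a + b` as a permutation. -/
noncomputable def affineEquiv (a b : F) (ha : a ≠ 0) : Equiv.Perm F where
  toFun x := x * a + b
  invFun y := (y - b) * Classical.choose (NearField.exists_inv a ha)
  left_inv x := by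
    simp only [add_sub_cancel_right]
    rw [mul_assoc, (Classical.choose_spec (NearField.exists_inv a ha)).1, mul_one]
  right_inv y := by
    simp only
    rw [mul_assoc, (Classical.choose_spec (NearField.exists_inv a ha)).2, mul_one, sub_add_cancel]

theorem affineEquiv_mem (a b : F) (ha : a ≠ 0) : affineEquiv a b ha ∈ affine F :=
  ⟨a, b, ha, fun _ => rfl⟩

theorem sharp2_affine (F : Type*) [NearField F] : Sharp2 (affine F) F where
  trans := by
    intro u v u' v' huv huv'
    obtain ⟨c, hc, hc'⟩ := NearField.exists_inv (u - v) (sub_ne_zero.mpr huv)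
    have ha : c * (u' - v') ≠ 0 := mul_ne_zero' (ne_zero_of_mul_eq_one hc) (sub_ne_zero.mpr huv')
    refine ⟨⟨_, affineEquiv_mem (c * (u' - v')) (-(v * (c * (u' - v'))) + v') ha⟩, ?_, ?_⟩
    · change u * _ + _ = _
      rw [← add_assoc, ← sub_eq_add_neg, ← sub_mul', ← mul_assoc, hc, one_mul, sub_add_cancel]
    · change v * _ + _ = _
      rw [add_neg_cancel_left]
  sharp := by
    rintro ⟨σ, a, b, ha, hσ⟩ u v huv hu hv
    change σ u = u at hu
    change σ v = v at hv
    rw [hσ] at hu hv
    obtain ⟨c, hc, hc'⟩ := NearField.exists_inv (u - v) (sub_ne_zero.mpr huv)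
    have h1 : (u - v) * a = u - v := by
      rw [sub_mul']
      conv_rhs => rw [← hu, ← hv]
      rw [add_sub_add_right_eq_sub]
    have ha1 : a = 1 := by
      rw [← one_mul a, ← hc', mul_assoc, h1]
    rw [ha1, mul_one] at hu
    have hb : b = 0 := add_left_cancel (hu.trans (add_zero u).symm)
    ext x
    change σ x = x
    rw [hσ, ha1, hb, mul_one, add_zero]

end NF

variable {G Ω : Type*} [Group G] [MulAction G Ω]

/-- Coordinatisation of a finite sharply doubly transitive action by a near-field, with prescribed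
zero and one. -/
theorem Sharp2.exists_nearField (h : Sharp2 G Ω) [Finite Ω] {o e : Ω} (hoe : o ≠ e) :
    ∃ _ : NearField Ω, (0 : Ω) = o ∧ (1 : Ω) = e ∧
      (∀ g : G, ∃ a b : Ω, a ≠ 0 ∧ ∀ x : Ω, g • x = x * a + b) ∧
      ∀ a b : Ω, a ≠ 0 → ∃ g : G, ∀ x : Ω, g • x = x * a + b := by
  classical
  have : Nontrivial Ω := ⟨o, e, hoe⟩
  obtain ⟨p, j, K, -, -, -, -, hN, -, -, hmem, htr⟩ := h.exists_kernel
  choose k hkK hk using htr o
  have hkeq : ∀ g ∈ K, ∀ g' ∈ K, g • o = g' • o → g = g' := by
    intro g hg g' hg' hgg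
    rcases (hmem _).mp (K.mul_mem (K.inv_mem hg') hg) with h1 | h1
    · exact (inv_mul_eq_one.mp h1).symm
    · exact absurd (by rw [mul_smul, hgg, inv_smul_smul]) (h1 o)
  have hm : ∀ a : Ω, ∃ g : G, a ≠ o → g • o = o ∧ g • e = a := by
    intro a
    by_cases ha : a = o
    · exact ⟨1, fun hh => absurd ha hh⟩
    · obtain ⟨g, hg⟩ := h.trans hoe (Ne.symm ha)
      exact ⟨g, fun _ => hg⟩
  choose m hm using hm
  have hk0 : k o = 1 := hkeq _ (hkK o) _ K.one_mem (by rw [hk, one_smul])
  have hkmul : ∀ a b, k (k b • a) = k b * k a := fun a b =>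
    hkeq _ (hkK _) _ (K.mul_mem (hkK _) (hkK _)) (by rw [hk, mul_smul, hk])
  let iz : Zero Ω := ⟨o⟩
  let ia : Add Ω := ⟨fun a b => k b • a⟩
  let ing : Neg Ω := ⟨fun a => (k a)⁻¹ • o⟩
  let io : One Ω := ⟨e⟩
  let im : Mul Ω := ⟨fun x a => if a = o then o else m a • x⟩
  have add_def : ∀ a b : Ω, a + b = k b • a := fun _ _ => rfl
  have mul_def : ∀ x a : Ω, x * a = if a = o then o else m a • x := fun _ _ => rfl
  have hme : m e = 1 := h.sharp hoe (hm e hoe.symm).1 (hm e hoe.symm).2
  have hmne : ∀ {a b : Ω}, a ≠ o → b ≠ o → m b • a ≠ o := by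
    intro a b ha hb hh
    apply ha
    rw [← (hm b hb).1] at hh
    exact (smul_left_cancel_iff _).mp hh
  have hmmul : ∀ {a b : Ω}, a ≠ o → b ≠ o → m (m b • a) = m b * m a := by
    intro a b ha hb
    refine h.eq_of_smul_eq hoe ?_ ?_
    · rw [(hm _ (hmne ha hb)).1, mul_smul, (hm a ha).1, (hm b hb).1]
    · rw [(hm _ (hmne ha hb)).2, mul_smul, (hm a ha).2]
  let iag : AddGroup Ω := AddGroup.ofLeftAxioms
    (fun a b c => by rw [add_def, add_def, add_def, add_def, hkmul, mul_smul])
    (fun a => hk a)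
    (fun a => by
      change k a • ((k a)⁻¹ • o) = o
      rw [smul_inv_smul])
  let imon : Monoid Ω :=
    { mul_assoc := fun x a b => by
        rw [mul_def, mul_def, mul_def, mul_def]
        by_cases hb : b = o
        · simp [hb]
        · by_cases ha : a = o
          · simp [ha, hb, (hm b hb).1]
          · simp [ha, hb, hmne ha hb, hmmul ha hb, mul_smul]
      one_mul := fun a => by
        rw [mul_def]
        by_cases ha : a = o
        · simp [ha]
        · rw [if_neg ha]; exact (hm a ha).2
      mul_one := fun a => by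
        change (if e = o then o else m e • a) = a
        rw [if_neg hoe.symm, hme, one_smul]
      npow := npowRec }
  have hconj : ∀ (g : G) (b : Ω), g • o = o → k (g • b) = g * k b * g⁻¹ := by
    intro g b hg
    refine hkeq _ (hkK _) _ (hN.conj_mem _ (hkK b) g) ?_
    rw [hk, mul_smul, mul_smul, inv_smul_eq_iff.mpr hg.symm, hk]
  let inf : NearField Ω :=
    { iag, imon with
      right_distrib := fun a b c => by
        change (k b • a) * c = k (b * c) • (a * c)
        rw [mul_def, mul_def, mul_def]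
        by_cases hc : c = o
        · simp [hc, hk0]
        · simp only [if_neg hc]
          rw [hconj _ _ (hm c hc).1, mul_smul, mul_smul, inv_smul_smul]
      mul_zero := fun a => by
        change (if o = o then o else _) = o
        rw [if_pos rfl]
      zero_ne_one := hoe
      exists_inv := fun a ha => by
        have ha : a ≠ o := ha
        have hb : (m a)⁻¹ • e ≠ o := by
          rw [Ne, inv_smul_eq_iff, (hm a ha).1]; exact hoe.symm
        have hmb : m ((m a)⁻¹ • e) = (m a)⁻¹ := by
          refine h.eq_of_smul_eq hoe ?_ (hm _ hb).2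
          rw [(hm _ hb).1, eq_inv_smul_iff, (hm a ha).1]
        refine ⟨(m a)⁻¹ • e, ?_, ?_⟩
        · change (if _ then _ else _) = e
          rw [if_neg hb, hmb, inv_smul_eq_iff, (hm a ha).2]
        · change (if _ then _ else _) = e
          rw [if_neg ha, smul_inv_smul] }
  refine ⟨inf, rfl, rfl, ?_, ?_⟩
  · intro g
    have hne : ((k (g • o))⁻¹ * g) • e ≠ o := by
      intro hh
      rw [mul_smul, inv_smul_eq_iff, hk] at hh
      exact hoe ((smul_left_cancel_iff _).mp hh).symm
    refine ⟨((k (g • o))⁻¹ * g) • e, g • o, hne, fun x => ?_⟩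
    change _ = k (g • o) • (if _ then _ else _)
    rw [if_neg hne]
    have : m (((k (g • o))⁻¹ * g) • e) = (k (g • o))⁻¹ * g := by
      refine h.eq_of_smul_eq hoe ?_ (hm _ hne).2
      rw [(hm _ hne).1, mul_smul, eq_inv_smul_iff, hk]
    rw [this, mul_smul, smul_inv_smul]
  · intro a b ha
    refine ⟨k b * m a, fun x => ?_⟩
    change _ = k b • (if a = o then o else m a • x)
    rw [if_neg (show ¬ a = o from ha), mul_smul]

end CL.Perm
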