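import Cfsg.Agent.Base
import Cfsg.Agent.Perm.Centralizer
import Cfsg.Agent.Perm.BlockLemmas

/-!
Regular normal subgroups of multiply primitive groups, the kernel of a Frobenius normal subgroup of
a doubly transitive group, and normal subgroups of multiply primitive groups.
-/

set_option autoImplicit false

namespace CL.Perm

open MulAction Subgroup SubMulAction

universe u v

section

variable {G X : Type*} [Group G] [MulAction G X]

/-- An equivalence relation invariant under the pointwise stabiliser of `s` in an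
`(|s|+1)`-primitive group, relating two distinct points off `s`, is total off `s`. -/
theorem rel_of_multiplyPreprimitive {n : ℕ} (hG : IsMultiplyPreprimitive G X n) {s : Set X}
    (hs : s.encard + 1 = n) {r : X → X → Prop} (hr : Equivalence r)
    (hinv : ∀ g : G, (∀ y ∈ s, g • y = y) → ∀ x y, r x y → r (g • x) (g • y)) {a b : X}
    (ha : a ∉ s) (hb : b ∉ s) (hab : a ≠ b) (h : r a b) {x y : X} (hx : x ∉ s) (hy : y ∉ s) :
    r x y := by
  have := IsMultiplyPreprimitive.isPreprimitive_ofFixingSubgroup G n hs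
  exact rel_of_invariant_equivalence (G := fixingSubgroup G s) (X := ofFixingSubgroup G s)
    (r := fun x y => r x y) ⟨fun _ => hr.refl _, fun h => hr.symm h, fun h h' => hr.trans h h'⟩
    (fun g x y h => hinv g ((mem_fixingSubgroup_iff G).mp g.2) x y h)
    (a := ⟨a, ha⟩) (b := ⟨b, hb⟩) (fun e => hab (congrArg Subtype.val e)) h ⟨x, hx⟩ ⟨y, hy⟩

theorem eq_of_smul_eq_of_regular {N : Subgroup G} {a : X} (hreg : stabilizer N a = ⊥) {m n : G}
    (hm : m ∈ N) (hn : n ∈ N) (h : m • a = n • a) : m = n :=
  congrArg Subtype.val (eq_of_smul_eq_of_stabilizer_eq_bot N hreg (a := ⟨m, hm⟩) (b := ⟨n, hn⟩) h)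

/-- A regular normal subgroup of a doubly primitive group has exponent 2 unless the degree
is 3. -/
theorem card_eq_three_or_sq_eq_one (h2 : IsMultiplyPreprimitive G X 2) (N : Subgroup G)
    [hN : N.Normal] (hreg : ∀ x : X, stabilizer N x = ⊥) [Nonempty X] :
    Nat.card X = 3 ∨ ∀ n ∈ N, n ^ 2 = 1 := by
  by_cases h : ∀ n ∈ N, n ^ 2 = 1
  · exact Or.inr h
  left
  push Not at h
  obtain ⟨n, hn, hn2⟩ := h
  obtain ⟨a⟩ := ‹Nonempty X›
  have hinj := fun {m n : G} => eq_of_smul_eq_of_regular (hreg a) (m := m) (n := n)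
  have h1 : n • a ≠ a := by
    intro h
    apply hn2
    rw [hinj hn N.one_mem (by simpa using h), one_pow]
  have h1' : n⁻¹ • a ≠ a := by
    intro h
    apply h1
    rw [inv_smul_eq_iff] at h
    exact h.symm
  have h12 : n • a ≠ n⁻¹ • a := by
    intro h
    apply hn2
    have := hinj hn (N.inv_mem hn) h
    rw [sq]
    nth_rewrite 1 [this]
    exact inv_mul_cancel n
  have key : ∀ y, y ≠ a → n • a = y ∨ ∃ m ∈ N, m • a = n • a ∧ m⁻¹ • a = y := by
    intro y hy
    refine rel_of_multiplyPreprimitive h2 (s := {a}) (by simp; rfl)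
      (r := fun x y => x = y ∨ ∃ m ∈ N, m • a = x ∧ m⁻¹ • a = y) ?_ ?_
      h1 h1' h12 (Or.inr ⟨n, hn, rfl, rfl⟩) h1 hy
    · refine ⟨fun _ => Or.inl rfl, ?_, ?_⟩
      · rintro x y (rfl | ⟨m, hm, rfl, rfl⟩)
        · exact Or.inl rfl
        · exact Or.inr ⟨m⁻¹, N.inv_mem hm, rfl, by rw [inv_inv]⟩
      · rintro x y z (rfl | ⟨m, hm, rfl, rfl⟩) h
        · exact h
        · rcases h with rfl | ⟨m', hm', h', rfl⟩
          · exact Or.inr ⟨m, hm, rfl, rfl⟩
          · left
            rw [hinj hm' (N.inv_mem hm) h', inv_inv]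
    · rintro g hg x y (rfl | ⟨m, hm, rfl, rfl⟩)
      · exact Or.inl rfl
      · have hga : g⁻¹ • a = a := by rw [inv_smul_eq_iff, hg a rfl]
        refine Or.inr ⟨g * m * g⁻¹, hN.conj_mem m hm g, ?_, ?_⟩
        · rw [mul_smul, mul_smul, hga]
        · rw [conj_inv, mul_smul, mul_smul, hga]
  rw [← Set.ncard_univ, Set.ncard_eq_three]
  refine ⟨a, n • a, n⁻¹ • a, h1.symm, h1'.symm, h12, ?_⟩
  symm
  rw [Set.eq_univ_iff_forall]
  intro y
  by_cases hy : y = a
  · exact Or.inl hy
  rcases key y hy with rfl | ⟨m, hm, h', rfl⟩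
  · exact Or.inr (Or.inl rfl)
  · rw [hinj hm hn h']
    exact Or.inr (Or.inr rfl)

/-- A triply primitive group with a regular normal subgroup has degree 3 or 4. -/
theorem card_eq_three_or_four [Finite X] (hX : 3 ≤ Nat.card X)
    (h3 : IsMultiplyPreprimitive G X 3) (N : Subgroup G) [hN : N.Normal]
    (htrans : IsPretransitive N X) (hreg : ∀ x : X, stabilizer N x = ⊥) :
    Nat.card X = 3 ∨ Nat.card X = 4 := by
  have h2 : IsMultiplyPreprimitive G X 2 :=
    isMultiplyPreprimitive_of_le G X h3 (by norm_num) (by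
      rw [ENat.card_eq_coe_natCard]; exact_mod_cast hX)
  have : Nontrivial X := Finite.one_lt_card_iff_nontrivial.mp (by omega)
  rcases card_eq_three_or_sq_eq_one h2 N hreg with h | h
  · exact Or.inl h
  right
  obtain ⟨a, b, hab⟩ := exists_pair_ne X
  obtain ⟨⟨n, hn⟩, hnb⟩ := htrans.exists_smul_eq a b
  change n • a = b at hnb
  have hnn : ∀ x : X, n • n • x = x := fun x => by rw [← mul_smul, ← sq, h n hn, one_smul]
  have hfix : ∀ x : X, n • x ≠ x := by
    intro x hx
    have := eq_of_smul_eq_of_regular (hreg x) hn N.one_mem (by simpa using hx)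
    apply hab
    rw [← hnb, this, one_smul]
  obtain ⟨c, hc⟩ : ∃ c : X, c ∉ ({a, b} : Set X) := by
    by_contra hc
    push Not at hc
    have : (Set.univ : Set X) = {a, b} := (Set.eq_univ_iff_forall.mpr hc).symm
    rw [← Set.ncard_univ, this, Set.ncard_pair hab] at hX
    omega
  have hc' : n • c ∉ ({a, b} : Set X) := by
    rintro (h' | h')
    · apply hc
      right
      rw [← hnn c, h', hnb]
      rfl
    · apply hc
      left
      rw [← hnn c, h', ← hnb, hnn]
  have key : ∀ y, y ∉ ({a, b} : Set X) → c = y ∨ n • c = y := by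
    intro y hy
    refine rel_of_multiplyPreprimitive h3 (s := {a, b}) (by rw [Set.encard_pair hab]; rfl)
      (r := fun x y => x = y ∨ n • x = y) ?_ ?_
      hc hc' (hfix c).symm (Or.inr rfl) hc hy
    · refine ⟨fun _ => Or.inl rfl, ?_, ?_⟩
      · rintro x y (rfl | rfl)
        · exact Or.inl rfl
        · exact Or.inr (hnn x)
      · rintro x y z (rfl | rfl) h
        · exact h
        · rcases h with rfl | rfl
          · exact Or.inr rfl
          · exact Or.inl (hnn x).symm
    · rintro g hg x y (rfl | rfl)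
      · exact Or.inl rfl
      · right
        have hga : g⁻¹ • a = a := by rw [inv_smul_eq_iff, hg a (Or.inl rfl)]
        have : g * n * g⁻¹ = n := by
          apply eq_of_smul_eq_of_regular (hreg a) (hN.conj_mem n hn g) hn
          rw [mul_smul, mul_smul, hga, hnb, hg b (Or.inr rfl)]
        rw [mul_inv_eq_iff_eq_mul] at this
        rw [← mul_smul, ← this, mul_smul]
  have huniv : (Set.univ : Set X) = {c, n • c, a, b} := by
    symm
    rw [Set.eq_univ_iff_forall]
    intro y
    by_cases hy : y ∈ ({a, b} : Set X)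
    · exact Or.inr (Or.inr hy)
    rcases key y hy with rfl | rfl
    · exact Or.inl rfl
    · exact Or.inr (Or.inl rfl)
  rw [← Set.ncard_univ, huniv, Set.ncard_insert_of_notMem, Set.ncard_insert_of_notMem hc',
    Set.ncard_pair hab]
  rintro (h' | h')
  · exact hfix c h'.symm
  · exact hc h'

/-- A transitive group in which only the identity fixes two points has exactly `n - 1`
fixed-point-free elements. -/
theorem card_fixedPointFree_add_one [Finite G] [Finite X] [Nontrivial X] [IsPretransitive G X]
    (h : ∀ g : G, ∀ a b : X, a ≠ b → g • a = a → g • b = b → g = 1) :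
    Nat.card {g : G // ∀ x : X, g • x ≠ x} + 1 = Nat.card X := by
  classical
  have := Fintype.ofFinite G
  have := Fintype.ofFinite X
  have hB := sum_card_fixedBy_eq_card_orbits_mul_card_group G X
  have hq : Fintype.card (Quotient (orbitRel G X)) = 1 := by
    rw [Fintype.card_eq_one_iff_nonempty_unique]
    exact (MulAction.pretransitive_iff_unique_quotient_of_nonempty G X).mp inferInstance
  rw [hq, one_mul] at hB
  have h1 : ∀ g : G, Fintype.card (fixedBy X g) + (if ∀ x : X, g • x ≠ x then 1 else 0) + 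
      (if g = 1 then 1 else 0) = 1 + if g = 1 then Fintype.card X else 0 := by
    intro g
    by_cases hg : g = 1
    · subst hg
      simp [add_comm]
    · by_cases hf : ∀ x : X, g • x ≠ x
      · have : IsEmpty (fixedBy X g) := ⟨fun x => hf x x.2⟩
        simp [hg, hf]
      · have : Fintype.card (fixedBy X g) = 1 := by
          push Not at hf
          obtain ⟨x, hx⟩ := hf
          rw [Fintype.card_eq_one_iff]
          refine ⟨⟨x, hx⟩, fun y => Subtype.ext ?_⟩
          by_contra hne
          exact hg (h g _ _ hne y.2 hx)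
        simp only [this, hg, hf, if_false]
  have h2 := Finset.sum_congr rfl fun g (_ : g ∈ (Finset.univ : Finset G)) => h1 g
  simp only [Finset.sum_add_distrib, hB, Finset.sum_ite_eq', Finset.mem_univ, if_true,
    Finset.sum_const, smul_eq_mul, mul_one, Finset.card_univ] at h2
  rw [← Finset.card_filter, add_assoc, add_right_inj] at h2
  rw [Nat.card_eq_fintype_card, Nat.card_eq_fintype_card, Fintype.card_subtype, h2]

/-- If a transitive normal subgroup `H` of a doubly transitive group has trivial two-point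
stabilisers, then its fixed-point-free elements with `1` form a regular normal subgroup. -/
theorem exists_regular_normal_of_frobenius [Finite X] [Nontrivial X]
    (h2 : IsMultiplyPretransitive G X 2) (H : Subgroup G) [hH : H.Normal] [Finite H]
    (ht : IsPretransitive H X)
    (h : ∀ g ∈ H, ∀ a b : X, a ≠ b → g • a = a → g • b = b → g = 1) :
    ∃ F : Subgroup G, F.Normal ∧ F ≤ H ∧ IsPretransitive F X ∧ (∀ x : X, stabilizer F x = ⊥) ∧
      ∀ g, g ∈ F ↔ g = 1 ∨ (g ∈ H ∧ ∀ x : X, g • x ≠ x) := by
  have hc := card_fixedPointFree_add_one (G := H) (X := X)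
    (fun g a b hab ha hb => Subtype.ext (h g g.2 a b hab ha hb))
  have hconj : ∀ g : G, g ∈ H → (∀ x : X, g • x ≠ x) → ∀ (u : G) (x : X),
      (u * g * u⁻¹) • x ≠ x := by
    intro g _ hg u x hx
    rw [mul_smul, mul_smul, smul_eq_iff_eq_inv_smul] at hx
    exact hg _ hx
  have hX : 1 < Nat.card X := Finite.one_lt_card
  obtain ⟨f₀, hf₀⟩ : Nonempty {g : H // ∀ x : X, g • x ≠ x} :=
    (Nat.card_ne_zero.mp (by omega)).1
  have hsurj : ∀ a b : X, b ≠ a → ∃ f : H, (∀ x : X, f • x ≠ x) ∧ f • a = b := by
    intro a b hba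
    obtain ⟨u, hu1, hu2⟩ := is_two_pretransitive_iff.mp h2 (hf₀ a).symm hba.symm
    refine ⟨⟨u * f₀ * u⁻¹, hH.conj_mem _ f₀.2 u⟩, hconj _ f₀.2 hf₀ u, ?_⟩
    change (u * f₀ * u⁻¹) • a = b
    rw [mul_smul, mul_smul, ← hu2]
    congr 2
    rw [inv_smul_eq_iff, hu1]
  have hinj : ∀ (a : X) (f f' : H), (∀ x : X, f • x ≠ x) → (∀ x : X, f' • x ≠ x) →
      f • a = f' • a → f = f' := by
    intro a f f' hf hf' hff
    let φ : {g : H // ∀ x : X, g • x ≠ x} → ofStabilizer G a := fun g => ⟨g.1 • a, g.2 a⟩
    have hφ : Function.Surjective φ := by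
      intro b
      obtain ⟨f, hf, hfb⟩ := hsurj a b b.2
      exact ⟨⟨f, hf⟩, Subtype.ext hfb⟩
    have hb := (Nat.bijective_iff_surjective_and_card φ).mpr ⟨hφ, by
      have := nat_card_ofStabilizer_add_one_eq G a
      omega⟩
    exact congrArg Subtype.val (hb.1 (a₁ := ⟨f, hf⟩) (a₂ := ⟨f', hf'⟩) (Subtype.ext hff))
  let F : Subgroup G :=
    { carrier := {g | g = 1 ∨ (g ∈ H ∧ ∀ x : X, g • x ≠ x)}
      one_mem' := Or.inl rfl
      inv_mem' := by
        rintro g (rfl | ⟨hg, hg'⟩)
        · exact Or.inl inv_one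
        · refine Or.inr ⟨H.inv_mem hg, fun x hx => hg' x ?_⟩
          rw [inv_smul_eq_iff] at hx
          exact hx.symm
      mul_mem' := by
        rintro f g (rfl | ⟨hf, hf'⟩) hg
        · rwa [one_mul]
        rcases hg with rfl | ⟨hg, hg'⟩
        · rw [mul_one]
          exact Or.inr ⟨hf, hf'⟩
        by_cases hx : ∀ x : X, (f * g) • x ≠ x
        · exact Or.inr ⟨H.mul_mem hf hg, hx⟩
        left
        push Not at hx
        obtain ⟨x, hx⟩ := hx
        have := hinj x ⟨g, hg⟩ ⟨f⁻¹, H.inv_mem hf⟩ hg' (by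
          intro y hy
          change f⁻¹ • y = y at hy
          rw [inv_smul_eq_iff] at hy
          exact hf' y hy.symm) (by
          change g • x = f⁻¹ • x
          rw [eq_inv_smul_iff, ← mul_smul, hx])
        have h' : g = f⁻¹ := congrArg Subtype.val this
        rw [h', mul_inv_cancel] }
  refine ⟨F, ⟨?_⟩, ?_, ⟨fun a b => ?_⟩, fun x => ?_, fun g => Iff.rfl⟩
  · rintro g (rfl | ⟨hg, hg'⟩) u
    · left
      simp
    · exact Or.inr ⟨hH.conj_mem g hg u, hconj g hg hg' u⟩
  · rintro g (rfl | ⟨hg, -⟩)
    · exact H.one_mem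
    · exact hg
  · by_cases hab : b = a
    · exact ⟨1, by simp [hab]⟩
    · obtain ⟨f, hf, hfb⟩ := hsurj a b hab
      exact ⟨⟨f, Or.inr ⟨f.2, hf⟩⟩, hfb⟩
  · rw [eq_bot_iff]
    rintro ⟨g, rfl | ⟨hg, hg'⟩⟩ hx
    · exact mem_bot.mpr rfl
    · exact absurd hx (hg' x)

theorem faithfulSMul_ofStabilizer [FaithfulSMul G X] (a : X) :
    FaithfulSMul (stabilizer G a) (ofStabilizer G a) := by
  constructor
  intro g h hgh
  apply Subtype.ext
  apply FaithfulSMul.eq_of_smul_eq_smul (M := G) (α := X)
  intro x
  by_cases hx : x = a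
  · rw [hx, g.2, h.2]
  · exact congrArg Subtype.val (hgh ⟨x, hx⟩)

/-- Multiple transitivity of a subgroup `H` through `H ⊓ G_a` seen inside `G_a`. -/
theorem isMultiplyPretransitive_succ_of_subgroupOf (H : Subgroup G) (ht : IsPretransitive H X)
    (a : X) {n : ℕ}
    (h : IsMultiplyPretransitive (H.subgroupOf (stabilizer G a)) (ofStabilizer G a) n) :
    IsMultiplyPretransitive H X (n + 1) := by
  rw [ofStabilizer.isMultiplyPretransitive (a := a)]
  let φ : H.subgroupOf (stabilizer G a) → stabilizer H a := fun g => ⟨⟨g.1.1, g.2⟩, g.1.2⟩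
  let f : ofStabilizer G a →ₑ[φ] ofStabilizer H a :=
    { toFun := fun x => ⟨x.1, x.2⟩
      map_smul' := fun _ _ => rfl }
  exact IsPretransitive.of_embedding (f := f) fun x => ⟨⟨x.1, x.2⟩, rfl⟩

/-- Stabilisers in a normal subgroup of points in one orbit of `G` are simultaneously trivial. -/
theorem stabilizer_ne_bot_of_normal [IsPretransitive G X] (H : Subgroup G) [hH : H.Normal] {a : X}
    (ha : stabilizer H a ≠ ⊥) (b : X) : stabilizer H b ≠ ⊥ := by
  intro hb
  apply ha
  rw [eq_bot_iff] at hb ⊢
  intro h hh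
  obtain ⟨g, rfl⟩ := exists_smul_eq G a b
  have : (⟨g * h * g⁻¹, hH.conj_mem _ h.2 g⟩ : H) ∈ stabilizer H (g • a) := by
    change (g * h * g⁻¹) • g • a = g • a
    rw [mul_smul, inv_smul_smul, mul_smul]
    exact congrArg _ hh
  have h1 := congrArg Subtype.val (mem_bot.mp (hb this))
  rw [mem_bot]
  apply Subtype.ext
  simpa using h1

end

/-- A non-regular normal subgroup of a faithful `k`-primitive group that does not induce the
full symmetric group is `k`-transitive. -/
theorem isMultiplyPretransitive_of_normal_of_not_regular (k : ℕ) :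
    ∀ {G : Type u} {X : Type v} [Group G] [MulAction G X] [FaithfulSMul G X] [Finite X],
      k + 1 ≤ Nat.card X → IsMultiplyPreprimitive G X (k + 1) →
      ¬ IsMultiplyPretransitive G X (Nat.card X - 1) →
      ∀ (H : Subgroup G) [H.Normal], (∃ a : X, stabilizer H a ≠ ⊥) →
        IsMultiplyPretransitive H X (k + 1) := by
  induction k with
  | zero =>
    intro G X _ _ _ _ _ hG _ H _ ⟨a, ha⟩
    have := (is_one_preprimitive_iff G X).mp hG
    rw [zero_add, is_one_pretransitive_iff]
    apply isPretransitive_of_normal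
    rintro rfl
    exact ha (Subsingleton.elim _ _)
  | succ k ih =>
    intro G X _ _ _ _ hk hG hns H _ ⟨a, ha⟩
    have hcard : ((k + 1 + 1 : ℕ) : ℕ∞) ≤ ENat.card X := by
      rw [ENat.card_eq_coe_natCard]; exact_mod_cast hk
    have hprim : IsPreprimitive G X :=
      (is_one_preprimitive_iff G X).mp (isMultiplyPreprimitive_of_le G X hG (by omega) hcard)
    have hH : H ≠ ⊥ := by
      rintro rfl
      exact ha (Subsingleton.elim _ _)
    have ht : IsPretransitive H X := isPretransitive_of_normal hH
    have := faithfulSMul_ofStabilizer (G := G) a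
    have hG' : IsMultiplyPreprimitive (stabilizer G a) (ofStabilizer G a) (k + 1) :=
      isMultiplyPreprimitive_ofStabilizer G X
    have hc' := nat_card_ofStabilizer_add_one_eq G a
    apply isMultiplyPretransitive_succ_of_subgroupOf H ht a
    by_cases hreg : ∃ b : ofStabilizer G a, stabilizer (H.subgroupOf (stabilizer G a)) b ≠ ⊥
    · refine ih (by omega) hG' ?_ _ hreg
      intro h
      apply hns
      have e : Nat.card X - 1 = (Nat.card (ofStabilizer G a) - 1).succ := by omega
      rw [e, ofStabilizer.isMultiplyPretransitive (a := a)]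
      exact h
    push Not at hreg
    rcases Nat.eq_zero_or_pos k with rfl | hk0
    · have := (is_one_preprimitive_iff _ _).mp hG'
      rw [zero_add, is_one_pretransitive_iff]
      apply isPretransitive_of_normal
      intro hb
      apply ha
      rw [eq_bot_iff] at hb ⊢
      intro h hh
      have := hb (x := ⟨h, hh⟩) h.2
      rw [mem_bot] at this ⊢
      exact Subtype.ext (congrArg (fun z : stabilizer G a => (z : G)) this)
    exfalso
    have h3 : IsMultiplyPreprimitive G X 3 := isMultiplyPreprimitive_of_le G X hG (by omega) hcard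
    have : Nontrivial X := Finite.one_lt_card_iff_nontrivial.mp (by omega)
    have : Finite G := Finite.of_injective _ (toPerm_injective (α := G) (β := X))
    have h3' : IsMultiplyPretransitive G X 3 := inferInstance
    obtain ⟨F, hFn, -, hFt, hFr, -⟩ := exists_regular_normal_of_frobenius
      (isMultiplyPretransitive_of_le (n := 3) (by norm_num) (by omega)) H ht (by
        intro g hg x y hxy hx hy
        obtain ⟨u, rfl⟩ := exists_smul_eq G a x
        have hya : u⁻¹ • y ≠ a := by
          intro h
          apply hxy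
          rw [← h, smul_inv_smul]
        have h1 : u⁻¹ * g * u ∈ stabilizer G a := by
          rw [mem_stabilizer_iff, mul_smul, mul_smul, hx, inv_smul_smul]
        have h2 : u⁻¹ * g * u ∈ H := by
          simpa using ‹H.Normal›.conj_mem g hg u⁻¹
        have h3 : (⟨⟨_, h1⟩, h2⟩ : H.subgroupOf (stabilizer G a)) ∈
            stabilizer (H.subgroupOf (stabilizer G a)) (⟨u⁻¹ • y, hya⟩ : ofStabilizer G a) := by
          apply Subtype.ext
          change (u⁻¹ * g * u) • u⁻¹ • y = u⁻¹ • y
          rw [mul_smul, smul_inv_smul, mul_smul, hy]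
        rw [hreg, mem_bot] at h3
        have h4 : u⁻¹ * g * u = 1 := congrArg (fun z => z.1.1) h3
        rw [mul_assoc, inv_mul_eq_one, right_eq_mul] at h4
        exact h4)
    apply hns
    have := card_eq_three_or_four (by omega) h3 F hFt hFr
    exact isMultiplyPretransitive_of_le (n := 3) (by omega) (by omega)

end CL.Perm
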