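import Cfsg.Agent.Base

/-!
# Polynomial functions on `ZMod p` with values in a field of characteristic `p`

Translation-invariant subspaces are the spaces of polynomial functions of degree `< r`;
a self-map preserving one of these with `2 ≤ r ≤ (p+1)/2` is affine.
-/

set_option autoImplicit false

namespace CL.Perm

open Polynomial

variable (p : ℕ) [hp : Fact p.Prime] (K : Type*) [Field K] [CharP K p]

/-- Evaluation of polynomials at the points of the prime field. -/
noncomputable def polyEv : K[X] →ₗ[K] (ZMod p → K) where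
  toFun P := fun j => P.eval (ZMod.cast j : K)
  map_add' P Q := by funext j; simp
  map_smul' c P := by funext j; simp

/-- Polynomial functions of degree `< r`. -/
noncomputable def polyFun (r : ℕ) : Submodule K (ZMod p → K) := (degreeLT K r).map (polyEv p K)

variable {p K}

theorem polyEv_apply (P : K[X]) (j : ZMod p) : polyEv p K P j = P.eval (ZMod.cast j : K) := rfl

theorem zmod_cast_injective : Function.Injective (fun j : ZMod p => (ZMod.cast j : K)) :=
  (ZMod.castHom (dvd_refl p) K).injective

theorem mem_polyFun {r : ℕ} {f : ZMod p → K} :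
    f ∈ polyFun p K r ↔ ∃ P : K[X], P.degree < r ∧ ∀ j, f j = P.eval (ZMod.cast j : K) := by
  constructor
  · rintro ⟨P, hP, rfl⟩
    exact ⟨P, mem_degreeLT.1 hP, fun _ => rfl⟩
  · rintro ⟨P, hP, h⟩
    exact ⟨P, mem_degreeLT.2 hP, funext fun j => (h j).symm⟩

theorem polyEv_inj {P Q : K[X]} (hP : P.degree < p) (hQ : Q.degree < p)
    (h : polyEv p K P = polyEv p K Q) : P = Q := by
  classical
  have hc : (Finset.univ : Finset (ZMod p)).card = p := by simp [ZMod.card]
  exact eq_of_degrees_lt_of_eval_index_eq (Finset.univ : Finset (ZMod p))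
    (v := fun j : ZMod p => (ZMod.cast j : K)) zmod_cast_injective.injOn (by rw [hc]; exact hP)
    (by rw [hc]; exact hQ) (fun i _ => congrFun h i)

theorem exists_polyEv_eq (f : ZMod p → K) : ∃ P : K[X], P.degree < p ∧ polyEv p K P = f := by
  classical
  have hc : (Finset.univ : Finset (ZMod p)).card = p := by simp [ZMod.card]
  refine ⟨Lagrange.interpolate Finset.univ (fun j : ZMod p => (ZMod.cast j : K)) f, ?_, ?_⟩
  · have := Lagrange.degree_interpolate_lt (s := (Finset.univ : Finset (ZMod p)))
      (v := fun j : ZMod p => (ZMod.cast j : K)) f zmod_cast_injective.injOn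
    rwa [hc] at this
  · funext j
    exact Lagrange.eval_interpolate_at_node (s := (Finset.univ : Finset (ZMod p)))
      (v := fun j : ZMod p => (ZMod.cast j : K)) f zmod_cast_injective.injOn (Finset.mem_univ j)

theorem finrank_polyFun {r : ℕ} (hr : r ≤ p) : Module.finrank K (polyFun p K r) = r := by
  have hinj : Function.Injective ((polyEv p K).domRestrict (degreeLT K r)) := by
    intro P Q h
    exact Subtype.ext (polyEv_inj ((mem_degreeLT.1 P.2).trans_le (by exact_mod_cast hr))
      ((mem_degreeLT.1 Q.2).trans_le (by exact_mod_cast hr)) h)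
  have h1 : LinearMap.range ((polyEv p K).domRestrict (degreeLT K r)) = polyFun p K r := by
    rw [LinearMap.range_domRestrict]; rfl
  rw [← h1, LinearMap.finrank_range_of_inj hinj, (degreeLTEquiv K r).finrank_eq]
  simp

omit hp [CharP K p] in
theorem coeff_sub_taylor_of_le {P : K[X]} {n m : ℕ} (hP : P.natDegree ≤ n) (hm : n ≤ m) :
    (P - taylor (-1) P).coeff m = 0 := by
  rw [coeff_sub, taylor_coeff]
  have h1 : (hasseDeriv m P).natDegree ≤ 0 := (natDegree_hasseDeriv_le P m).trans (by omega)
  rw [eq_C_of_natDegree_le_zero h1, eval_C, hasseDeriv_coeff]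
  simp

omit hp [CharP K p] in
theorem coeff_sub_taylor_pred {P : K[X]} {n : ℕ} (hP : P.natDegree ≤ n + 1) :
    (P - taylor (-1) P).coeff n = (n + 1) * P.coeff (n + 1) := by
  rw [coeff_sub, taylor_coeff]
  have h1 : (hasseDeriv n P).natDegree ≤ 1 := (natDegree_hasseDeriv_le P n).trans (by omega)
  rw [eq_X_add_C_of_natDegree_le_one h1]
  simp only [hasseDeriv_coeff, eval_add, eval_mul, eval_C, eval_X]
  simp [add_comm 1 n]

theorem degreeLT_le_of_sub_taylor (U : Submodule K K[X])
    (hU : ∀ P ∈ U, P - taylor (-1) P ∈ U) (n : ℕ) (hn : n < p) (P : K[X]) (hP : P ∈ U)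
    (hdeg : P.natDegree ≤ n) (hc : P.coeff n ≠ 0) : degreeLT K (n + 1) ≤ U := by
  induction n generalizing P with
  | zero =>
    intro Q hQ
    have hQ' : Q.natDegree ≤ 0 := by
      rw [degreeLT_succ_eq_degreeLE, mem_degreeLE] at hQ
      exact natDegree_le_of_degree_le hQ
    have : Q = (Q.coeff 0 / P.coeff 0) • P := by
      conv_lhs => rw [eq_C_of_natDegree_le_zero hQ']
      conv_rhs => rw [eq_C_of_natDegree_le_zero hdeg]
      simp [smul_C, hc]
    rw [this]
    exact U.smul_mem _ hP
  | succ n ih =>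
    have h1 : degreeLT K (n + 1) ≤ U := by
      refine ih (by omega) _ (hU P hP) ?_ ?_
      · rw [natDegree_le_iff_coeff_eq_zero]
        intro m hm
        exact coeff_sub_taylor_of_le hdeg hm
      · rw [coeff_sub_taylor_pred hdeg]
        refine mul_ne_zero ?_ hc
        have : ((n + 1 : ℕ) : K) ≠ 0 := by
          rw [Ne, CharP.cast_eq_zero_iff K p]
          exact Nat.not_dvd_of_pos_of_lt (by omega) hn
        exact_mod_cast this
    intro Q hQ
    have h2 : Q - (Q.coeff (n + 1) / P.coeff (n + 1)) • P ∈ degreeLT K (n + 1) := by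
      rw [mem_degreeLT, degree_lt_iff_coeff_zero]
      intro m hm
      rcases hm.eq_or_lt with rfl | hm
      · simp [hc]
      · rw [mem_degreeLT, degree_lt_iff_coeff_zero] at hQ
        simp [hQ m hm, coeff_eq_zero_of_natDegree_lt (hdeg.trans_lt hm)]
    have := U.add_mem (h1 h2) (U.smul_mem (Q.coeff (n + 1) / P.coeff (n + 1)) hP)
    simpa using this

/-- The translation-invariant subspaces of `ZMod p → K`. -/
theorem exists_eq_polyFun (W : Submodule K (ZMod p → K))
    (hW : ∀ f ∈ W, (fun j => f (j - 1)) ∈ W) : ∃ r : ℕ, r ≤ p ∧ W = polyFun p K r := by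
  classical
  let U : Submodule K K[X] := W.comap (polyEv p K)
  have hU : ∀ P ∈ U, P - taylor (-1) P ∈ U := by
    intro P hP
    refine U.sub_mem hP ?_
    have := hW _ hP
    change polyEv p K _ ∈ W
    convert this using 1
    funext j
    rw [polyEv_apply, polyEv_apply, taylor_eval, ZMod.cast_sub (dvd_refl p),
      ZMod.cast_one (dvd_refl p), sub_eq_add_neg]
  refine ⟨Nat.findGreatest (fun r => degreeLT K r ≤ U) p, Nat.findGreatest_le p, ?_⟩
  apply le_antisymm
  · intro f hf
    obtain ⟨P, hP, rfl⟩ := exists_polyEv_eq f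
    refine ⟨P, ?_, rfl⟩
    by_cases h0 : P = 0
    · rw [h0]; exact Submodule.zero_mem _
    have hn : P.natDegree < p := (natDegree_lt_iff_degree_lt h0).2 hP
    have := degreeLT_le_of_sub_taylor U hU _ hn P hf le_rfl (by simpa using h0)
    have h2 := Nat.le_findGreatest (P := fun r => degreeLT K r ≤ U) (Nat.succ_le_of_lt hn) this
    exact mem_degreeLT.2 ((natDegree_lt_iff_degree_lt h0).1 h2)
  · have : degreeLT K (Nat.findGreatest (fun r => degreeLT K r ≤ U) p) ≤ U :=
      Nat.findGreatest_spec (P := fun r => degreeLT K r ≤ U) (Nat.zero_le p) (by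
        intro P hP
        have : P = 0 := by simpa using mem_degreeLT.1 hP
        rw [this]; exact U.zero_mem)
    rintro _ ⟨P, hP, rfl⟩
    exact this hP

/-- A self-map of `ZMod p` preserving the polynomial functions of degree `< r`,
`2 ≤ r ≤ (p+1)/2`, is affine. -/
theorem affine_of_polyFun_comp {r : ℕ} (h2 : 2 ≤ r) (hr : 2 * r ≤ p + 1) (g : ZMod p → ZMod p)
    (hg : ∀ f ∈ polyFun p K r, f ∘ g ∈ polyFun p K r) :
    ∃ a b : ZMod p, ∀ x, g x = a * x + b := by
  have hXj : ∀ j < r, polyEv p K (X ^ j) ∈ polyFun p K r := fun j hj =>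
    ⟨X ^ j, mem_degreeLT.2 (by rw [degree_X_pow]; exact_mod_cast hj), rfl⟩
  obtain ⟨F, hF, hFg⟩ := mem_polyFun.1 (hg _ (hXj 1 (by omega)))
  simp only [pow_one, Function.comp_apply, polyEv_apply, eval_X] at hFg
  by_cases he : F.natDegree ≤ 1
  · refine ⟨g 1 - g 0, g 0, fun x => ?_⟩
    apply zmod_cast_injective (K := K)
    have h1 := eq_X_add_C_of_natDegree_le_one he
    have h3 : ∀ y, F.eval y = F.coeff 1 * y + F.coeff 0 := by
      intro y
      conv_lhs => rw [h1]
      simp
    simp only [ZMod.cast_add (dvd_refl p), ZMod.cast_mul (dvd_refl p), ZMod.cast_sub (dvd_refl p),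
      hFg, h3, ZMod.cast_one (dvd_refl p), ZMod.cast_zero]
    ring
  · exfalso
    have hF0 : F ≠ 0 := by rintro rfl; simp at he
    have hFr : F.natDegree < r := (natDegree_lt_iff_degree_lt hF0).2 hF
    set e := F.natDegree with he'
    have he2 : 2 ≤ e := by omega
    set j := (r - 1) / e + 1 with hj
    have hj1 : r - 1 < j * e := by
      rw [hj, mul_comm]; exact Nat.lt_mul_div_succ _ (by omega)
    have hj2 : j * e ≤ (r - 1) + e := by
      rw [hj, add_mul, one_mul]
      exact Nat.add_le_add_right (Nat.div_mul_le_self _ _) _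
    have hj3 : j < r := by
      have : (r - 1) / e ≤ (r - 1) / 2 := Nat.div_le_div_left he2 (by omega)
      omega
    obtain ⟨Q, hQ, hQg⟩ := mem_polyFun.1 (hg _ (hXj j hj3))
    have hFj : (F ^ j).natDegree = j * e := by rw [natDegree_pow]
    have hp2 : 2 ≤ p := hp.out.two_le
    have : F ^ j = Q := by
      apply polyEv_inj (p := p)
      · rw [← natDegree_lt_iff_degree_lt (pow_ne_zero _ hF0), hFj]; omega
      · exact hQ.trans_le (by exact_mod_cast (by omega))
      · funext x
        rw [polyEv_apply, polyEv_apply, ← hQg, eval_pow, ← hFg]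
        simp [polyEv_apply]
    rw [← this, ← natDegree_lt_iff_degree_lt (pow_ne_zero _ hF0), hFj] at hQ
    omega

section orth

variable {ι : Type*} [Fintype ι] {L : Type*} [Field L]

/-- Orthogonal complement for the standard dot product. -/
def dotOrth (W : Submodule L (ι → L)) : Submodule L (ι → L) :=
  LinearMap.BilinForm.orthogonal (dotProductBilin L L) W

theorem mem_dotOrth {W : Submodule L (ι → L)} {u : ι → L} :
    u ∈ dotOrth W ↔ ∀ w ∈ W, w ⬝ᵥ u = 0 := Iff.rfl

theorem finrank_dotOrth (W : Submodule L (ι → L)) :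
    Module.finrank L (dotOrth W) = Fintype.card ι - Module.finrank L W := by
  classical
  rw [dotOrth, LinearMap.BilinForm.finrank_orthogonal, Module.finrank_fintype_fun_eq_card]
  constructor
  · intro v hv
    funext i
    simpa using hv (Pi.single i 1)
  · intro v hv
    funext i
    simpa using hv (Pi.single i 1)

/-- If `W` is invariant under composition with `σ⁻¹`, its orthogonal complement is invariant
under composition with `σ`. -/
theorem comp_mem_dotOrth {W : Submodule L (ι → L)} (σ : Equiv.Perm ι)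
    (hW : ∀ w ∈ W, w ∘ σ.symm ∈ W) {u : ι → L} (hu : u ∈ dotOrth W) : u ∘ σ ∈ dotOrth W := by
  rw [mem_dotOrth] at hu ⊢
  intro w hw
  rw [← hu _ (hW w hw), ← comp_equiv_symm_dotProduct]

end orth

/-- If a permutation of `ZMod p` and its inverse preserve a translation-invariant subspace of
dimension `r` with `2 ≤ r ≤ p - 2`, the permutation is affine. -/
theorem affine_of_invariant_subspace (W : Submodule K (ZMod p → K))
    (hW : ∀ f ∈ W, (fun j => f (j - 1)) ∈ W) (hW' : ∀ f ∈ W, (fun j => f (j + 1)) ∈ W)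
    (h2 : 2 ≤ Module.finrank K W) (hr : Module.finrank K W + 2 ≤ p) (σ : Equiv.Perm (ZMod p))
    (hσ : ∀ f ∈ W, f ∘ σ ∈ W) (hσ' : ∀ f ∈ W, f ∘ σ.symm ∈ W) :
    ∃ a b : ZMod p, ∀ x, σ x = a * x + b := by
  by_cases hle : 2 * Module.finrank K W ≤ p + 1
  · obtain ⟨r, hrp, rfl⟩ := exists_eq_polyFun W hW
    rw [finrank_polyFun hrp] at h2 hle
    exact affine_of_polyFun_comp h2 hle σ hσ
  · obtain ⟨r, hrp, hr'⟩ := exists_eq_polyFun (dotOrth W) (fun f hf =>
      comp_mem_dotOrth (Equiv.subRight 1) hW' hf)
    have h1 := finrank_dotOrth W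
    rw [hr', finrank_polyFun hrp, ZMod.card] at h1
    refine affine_of_polyFun_comp (K := K) (r := r) (by omega) (by omega) σ ?_
    rw [← hr']
    exact fun f hf => comp_mem_dotOrth σ hσ' hf

end CL.Perm
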