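import Cfsg.Agent.Base
import Cfsg.Agent.Perm.Module

/-!
# Transitive groups of prime degree

Coordinates `α ≃ ZMod p` in which an element of order `p` is the translation by `1`; affine
elements; Burnside's dichotomy (all elements affine, or doubly transitive); normal subgroups;
the normaliser of a Sylow `p`-subgroup.
-/

set_option autoImplicit false

namespace CL.Perm

open Cfsg MulAction

variable {G α : Type*} [Group G] [MulAction G α] {p : ℕ} [hp : Fact p.Prime]

omit hp in
theorem card_dvd_factorial_of_faithful [FaithfulSMul G α] [Finite α] :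
    Nat.card G ∣ (Nat.card α).factorial := by
  rw [← Nat.card_perm]
  exact Subgroup.card_dvd_of_injective (toPermHom G α) toPerm_injective

omit hp in
theorem finite_of_faithfulSMul (G α : Type*) [Group G] [MulAction G α] [FaithfulSMul G α] [Finite α] :
    Finite G :=
  Finite.of_injective (toPerm : G → Equiv.Perm α) toPerm_injective

omit hp in
theorem exists_smul_ne_of_ne_one [FaithfulSMul G α] {g : G} (hg : g ≠ 1) : ∃ a : α, g • a ≠ a := by
  by_contra h
  push Not at h
  exact hg (eq_of_smul_eq_smul (α := α) fun a => by rw [h, one_smul])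

omit hp in
theorem card_dvd_card_of_isPretransitive [Nonempty α] [IsPretransitive G α] :
    Nat.card α ∣ Nat.card G := by
  obtain ⟨a⟩ := ‹Nonempty α›
  rw [← index_stabilizer_of_transitive G a]
  exact Subgroup.index_dvd_card _

/-- The orbit map `i ↦ c ^ i • a` of an element of order `p` moving `a` is injective. -/
theorem zmod_orbit_injective {c : G} (hc : orderOf c = p) {a : α} (ha : c • a ≠ a) :
    Function.Injective (fun i : ZMod p => c ^ i.val • a) := by
  have hper : period c a = p := by
    have h1 := period_dvd_orderOf c a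
    rw [hc] at h1
    rcases (Nat.dvd_prime hp.out).1 h1 with h | h
    · exact absurd (period_eq_one_iff.1 h) ha
    · exact h
  intro i j hij
  have h1 : c ^ ((i.val : ℤ) - j.val) • a = a := by
    rw [sub_eq_neg_add, zpow_add, mul_smul, zpow_natCast, zpow_neg, zpow_natCast,
      show c ^ i.val • a = c ^ j.val • a from hij, inv_smul_smul]
  rw [zpow_smul_eq_iff_period_dvd, hper, ← ZMod.intCast_zmod_eq_zero_iff_dvd] at h1
  simpa [sub_eq_zero] using h1

theorem pow_val_add {c : G} (hc : orderOf c = p) (i j : ZMod p) :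
    c ^ (i + j).val = c ^ i.val * c ^ j.val := by
  rw [← pow_add, pow_eq_pow_iff_modEq, hc, ZMod.val_add]
  exact Nat.mod_modEq _ _

/-- Coordinates in which an element of order `p` is the translation by `1`. -/
theorem exists_coord [FaithfulSMul G α] [Finite α] (hα : Nat.card α = p) {c : G}
    (hc : orderOf c = p) : ∃ e : α ≃ ZMod p, ∀ x, e (c • x) = e x + 1 := by
  have hc1 : c ≠ 1 := by
    rintro rfl
    rw [orderOf_one] at hc
    exact hp.out.one_lt.ne hc
  obtain ⟨a, ha⟩ := exists_smul_ne_of_ne_one (α := α) hc1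
  have hbij : Function.Bijective (fun i : ZMod p => c ^ i.val • a) :=
    (Nat.bijective_iff_injective_and_card _).2 ⟨zmod_orbit_injective hc ha, by simp [hα]⟩
  refine ⟨(Equiv.ofBijective _ hbij).symm, fun x => ?_⟩
  obtain ⟨i, rfl⟩ := hbij.2 x
  rw [Equiv.symm_apply_eq]
  have h1 := (Equiv.ofBijective _ hbij).symm_apply_apply i
  simp only [Equiv.ofBijective_apply] at h1 ⊢
  rw [h1, add_comm, pow_val_add hc, ZMod.val_one, pow_one, mul_smul]

section coord

variable {e : α ≃ ZMod p} {c : G}

theorem coord_pow (he : ∀ x, e (c • x) = e x + 1) (n : ℕ) (x : α) :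
    e (c ^ n • x) = e x + n := by
  induction n with
  | zero => simp
  | succ n ih => rw [pow_succ', mul_smul, he, ih]; push_cast; ring

theorem coord_pow_val (he : ∀ x, e (c • x) = e x + 1) (i : ZMod p) (x : α) :
    e (c ^ i.val • x) = e x + i := by
  rw [coord_pow he, ZMod.natCast_zmod_val]

theorem coord_inv (he : ∀ x, e (c • x) = e x + 1) (x : α) : e (c⁻¹ • x) = e x - 1 := by
  have := he (c⁻¹ • x)
  rw [smul_inv_smul] at this
  rw [this]; ring

theorem coord_zpow (he : ∀ x, e (c • x) = e x + 1) (n : ℤ) (x : α) :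
    e (c ^ n • x) = e x + n := by
  induction n using Int.induction_on with
  | zero => simp
  | succ n ih => rw [add_comm, zpow_add, zpow_one, mul_smul, he, ih]; push_cast; ring
  | pred n ih =>
    rw [sub_eq_neg_add, zpow_add, zpow_neg_one, mul_smul, coord_inv he, ih]; push_cast; ring

theorem orderOf_eq_of_coord [FaithfulSMul G α] (he : ∀ x, e (c • x) = e x + 1) :
    orderOf c = p := by
  apply orderOf_eq_prime
  · refine eq_of_smul_eq_smul (α := α) fun x => e.injective ?_
    rw [coord_pow he]; simp
  · intro h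
    have := he (e.symm 0)
    rw [h, one_smul] at this
    simp at this

theorem eq_pow_of_translation [FaithfulSMul G α] (he : ∀ x, e (c • x) = e x + 1) {g : G}
    {b : ZMod p} (hg : ∀ x, e (g • x) = e x + b) : g = c ^ b.val :=
  eq_of_smul_eq_smul (α := α) fun x => e.injective (by rw [hg, coord_pow_val he])

theorem mem_zpowers_iff_translation [FaithfulSMul G α] (he : ∀ x, e (c • x) = e x + 1) {g : G} :
    g ∈ Subgroup.zpowers c ↔ ∃ b, ∀ x, e (g • x) = e x + b := by
  constructor
  · rintro ⟨n, rfl⟩
    exact ⟨n, coord_zpow he n⟩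
  · rintro ⟨b, hb⟩
    rw [eq_pow_of_translation he hb]
    exact Subgroup.npow_mem_zpowers _ _

/-- `g` acts as an affine map in the coordinates `e`. -/
def IsAff (e : α ≃ ZMod p) (g : G) : Prop := ∃ a b : ZMod p, ∀ x, e (g • x) = a * e x + b

theorem slope_ne_zero {g : G} {a b : ZMod p} (h : ∀ x, e (g • x) = a * e x + b) : a ≠ 0 := by
  rintro rfl
  have h1 : g • e.symm 0 = g • e.symm 1 := e.injective (by rw [h, h]; simp)
  have := e.symm.injective (smul_left_cancel _ h1)
  exact zero_ne_one this

theorem coord_inv_of_aff {g : G} {a b : ZMod p} (h : ∀ x, e (g • x) = a * e x + b) (x : α) :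
    e (g⁻¹ • x) = a⁻¹ * e x + -(a⁻¹ * b) := by
  have h1 := h (g⁻¹ • x)
  rw [smul_inv_smul] at h1
  have := slope_ne_zero h
  rw [h1]; field_simp; ring

theorem conj_translation_of_aff {g t : G} {a b d : ZMod p} (h : ∀ x, e (g • x) = a * e x + b)
    (ht : ∀ x, e (t • x) = e x + d) (x : α) : e ((g * t * g⁻¹) • x) = e x + a * d := by
  have := slope_ne_zero h
  rw [mul_smul, mul_smul, h, ht, coord_inv_of_aff h]; field_simp; ring

theorem commutator_translation_of_aff {g h : G} (hg : IsAff e g) (hh : IsAff e h) :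
    ∃ d, ∀ x, e ((g * h * g⁻¹ * h⁻¹) • x) = e x + d := by
  obtain ⟨a, b, hg⟩ := hg
  obtain ⟨a', b', hh⟩ := hh
  have := slope_ne_zero hg
  have := slope_ne_zero hh
  refine ⟨a * b' + b - a' * b - b', fun x => ?_⟩
  rw [mul_smul, mul_smul, mul_smul, hg, hh, coord_inv_of_aff hg, coord_inv_of_aff hh]
  field_simp; ring

theorem aff_of_conj_translation (he : ∀ x, e (c • x) = e x + 1) {g : G} {a : ZMod p}
    (h : ∀ x, e ((g * c * g⁻¹) • x) = e x + a) (x : α) :
    e (g • x) = a * e x + e (g • e.symm 0) := by
  have h1 : ∀ n : ℕ, ∀ y, e (g • c ^ n • y) = a * n + e (g • y) := by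
    intro n y
    induction n with
    | zero => simp
    | succ n ih =>
      have := h (g • c ^ n • y)
      rw [mul_smul, mul_smul, inv_smul_smul] at this
      rw [pow_succ', mul_smul, this, ih]; push_cast; ring
  have h2 : x = c ^ (e x).val • e.symm 0 := e.injective (by rw [coord_pow_val he]; simp)
  conv_lhs => rw [h2, h1, ZMod.natCast_zmod_val]

theorem mem_normalizer_iff_isAff [FaithfulSMul G α] (he : ∀ x, e (c • x) = e x + 1) {g : G} :
    g ∈ Subgroup.normalizer (Subgroup.zpowers c : Set G) ↔ IsAff e g := by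
  constructor
  · intro hg
    have : g * c * g⁻¹ ∈ Subgroup.zpowers c :=
      (Subgroup.mem_normalizer_iff.1 hg c).1 (Subgroup.mem_zpowers c)
    obtain ⟨a, ha⟩ := (mem_zpowers_iff_translation he).1 this
    exact ⟨a, _, aff_of_conj_translation he ha⟩
  · rintro ⟨a, b, h⟩
    rw [Subgroup.mem_normalizer_iff]
    intro t
    rw [mem_zpowers_iff_translation he, mem_zpowers_iff_translation he]
    constructor
    · rintro ⟨d, hd⟩
      exact ⟨_, conj_translation_of_aff h hd⟩
    · rintro ⟨d, hd⟩
      have := conj_translation_of_aff (coord_inv_of_aff h) hd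
      simp only [inv_inv, ← mul_assoc, inv_mul_cancel, one_mul, inv_mul_cancel_right] at this
      exact ⟨_, this⟩

theorem centralizer_zpowers_eq [FaithfulSMul G α] (he : ∀ x, e (c • x) = e x + 1) :
    Subgroup.centralizer (Subgroup.zpowers c : Set G) = Subgroup.zpowers c := by
  apply le_antisymm
  · intro g hg
    have h1 : g * c * g⁻¹ = c := by
      rw [← hg c (Subgroup.mem_zpowers c), mul_inv_cancel_right]
    rw [mem_zpowers_iff_translation he]
    refine ⟨e (g • e.symm 0), fun x => ?_⟩
    rw [aff_of_conj_translation he (a := 1) (by rw [h1]; exact he) x, one_mul]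
  · exact Subgroup.le_centralizer _

theorem isSolvable_of_forall_isAff [FaithfulSMul G α] (he : ∀ x, e (c • x) = e x + 1)
    (h : ∀ g : G, IsAff e g) : Group.IsSolvable G := by
  have h1 : commutator G ≤ Subgroup.zpowers c := by
    rw [commutator_def, Subgroup.commutator_le]
    intro g _ k _
    rw [mem_zpowers_iff_translation he]
    exact commutator_translation_of_aff (h g) (h k)
  refine ⟨2, ?_⟩
  rw [derivedSeries_succ, derivedSeries_one, eq_bot_iff, Subgroup.commutator_le]
  intro g hg k hk
  obtain ⟨m, rfl⟩ := h1 hg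
  obtain ⟨n, rfl⟩ := h1 hk
  exact Subgroup.mem_bot.2 (commutatorElement_eq_one_iff_commute.2 (Commute.zpow_zpow_self c m n))

/-- An involution normalising `⟨c⟩` is a reflection `x ↦ b - x`. -/
theorem reflection_of_isAff [FaithfulSMul G α] (hp2 : p ≠ 2) {t : G} (ht : orderOf t = 2)
    (h : IsAff e t) : ∃ b, ∀ x, e (t • x) = b - e x := by
  obtain ⟨a, b, h⟩ := h
  have ht2 : ∀ x : α, t • t • x = x := by
    intro x
    rw [← mul_smul, ← pow_two, ← ht, pow_orderOf_eq_one, one_smul]
  have h0 := h (t • e.symm 0)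
  have h1 := h (t • e.symm 1)
  rw [ht2, h] at h0 h1
  simp only [Equiv.apply_symm_apply, mul_zero, zero_add, mul_one] at h0 h1
  have ha : a * a = 1 := by linear_combination h0 - h1
  rcases mul_self_eq_one_iff.1 ha with rfl | rfl
  · exfalso
    have h2 : (2 : ZMod p) ≠ 0 := by
      intro h2
      have : (p : ℕ) ∣ 2 := (ZMod.natCast_eq_zero_iff 2 p).1 (by exact_mod_cast h2)
      exact hp2 ((Nat.prime_dvd_prime_iff_eq hp.out Nat.prime_two).1 this)
    have hb : b = 0 := by
      have : 2 * b = 0 := by linear_combination -h0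
      exact (mul_eq_zero.1 this).resolve_left h2
    have : t = 1 := eq_of_smul_eq_smul (α := α) fun x => e.injective (by rw [h, hb]; simp)
    rw [this, orderOf_one] at ht
    norm_num at ht
  · exact ⟨b, fun x => by rw [h]; ring⟩

end coord

section sylow

variable [FaithfulSMul G α] [Finite α]

theorem not_sq_dvd_card (hα : Nat.card α = p) : ¬ p ^ 2 ∣ Nat.card G := by
  intro h
  have h1 := h.trans (card_dvd_factorial_of_faithful (G := G) (α := α))
  rw [hα, ← Nat.mul_factorial_pred hp.out.ne_zero, pow_two,
    Nat.mul_dvd_mul_iff_left hp.out.pos, hp.out.dvd_factorial] at h1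
  have := hp.out.pos
  omega

theorem card_sylow_of_prime_degree [IsPretransitive G α] (hα : Nat.card α = p) (P : Sylow p G) :
    Nat.card P = p := by
  have := finite_of_faithfulSMul G α
  have : Nonempty α := (Nat.card_pos_iff.1 (by rw [hα]; exact hp.out.pos)).1
  have h1 : p ∣ Nat.card P :=
    P.dvd_card_of_dvd_card (hα ▸ card_dvd_card_of_isPretransitive)
  obtain ⟨k, hk⟩ := P.isPGroup'.exists_card_eq
  have h2 : ¬ p ^ 2 ∣ p ^ k := fun h =>
    not_sq_dvd_card (G := G) hα (h.trans (hk ▸ Subgroup.card_subgroup_dvd_card _))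
  rw [Nat.pow_dvd_pow_iff_le_right hp.out.one_lt] at h2
  rw [hk] at h1 ⊢
  have : k ≠ 0 := by
    rintro rfl
    exact hp.out.one_lt.ne' (Nat.dvd_one.1 (by simpa using h1))
  rw [show k = 1 by omega, pow_one]

/-- A Sylow `p`-subgroup of a transitive group of degree `p` is the translation group in suitable
coordinates. -/
theorem exists_coord_sylow [IsPretransitive G α] (hα : Nat.card α = p) (P : Sylow p G) :
    ∃ (c : G) (e : α ≃ ZMod p), (P : Subgroup G) = Subgroup.zpowers c ∧
      ∀ x, e (c • x) = e x + 1 := by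
  have := finite_of_faithfulSMul G α
  have hP := card_sylow_of_prime_degree hα P
  obtain ⟨c, hc⟩ := exists_prime_orderOf_dvd_card' (G := P) p (by rw [hP])
  have hc' : orderOf (c : G) = p := by rw [Subgroup.orderOf_coe, hc]
  obtain ⟨e, he⟩ := exists_coord hα hc'
  refine ⟨c, e, ?_, he⟩
  symm
  apply Subgroup.eq_of_le_of_card_ge ((Subgroup.zpowers_le).2 c.2)
  rw [Nat.card_zpowers, hc']
  exact hP.le

theorem isPretransitive_of_normal_of_prime_degree [IsPretransitive G α] (hα : Nat.card α = p)
    (N : Subgroup G) [N.Normal] (hN : N ≠ ⊥) : IsPretransitive N α := by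
  have : IsPreprimitive G α := IsPreprimitive.of_prime_card (by rw [hα]; exact hp.out)
  apply IsQuasiPreprimitive.isPretransitive_of_normal
  intro h
  apply hN
  rw [eq_bot_iff]
  intro g hg
  refine Subgroup.mem_bot.2 (eq_of_smul_eq_smul (α := α) fun x => ?_)
  have : x ∈ fixedPoints N α := h ▸ Set.mem_univ x
  rw [one_smul]
  exact this ⟨g, hg⟩

theorem sylow_le_of_normal_of_prime_degree [IsPretransitive G α] (hα : Nat.card α = p)
    (N : Subgroup G) [N.Normal] (hN : N ≠ ⊥) (P : Sylow p G) : (P : Subgroup G) ≤ N := by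
  have := finite_of_faithfulSMul G α
  have := isPretransitive_of_normal_of_prime_degree hα N hN
  have : Nonempty α := (Nat.card_pos_iff.1 (by rw [hα]; exact hp.out.pos)).1
  have h1 : p ∣ Nat.card N := hα ▸ card_dvd_card_of_isPretransitive
  have h2 : ¬ p ∣ N.index := by
    intro h
    apply not_sq_dvd_card (G := G) hα
    rw [← N.card_mul_index, pow_two]
    exact Nat.mul_dvd_mul h1 h
  have h3 : (P : Subgroup G).map (QuotientGroup.mk' N) = ⊥ := by
    obtain ⟨k, hk⟩ := (P.isPGroup'.map (QuotientGroup.mk' N)).exists_card_eq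
    rcases k with _ | k
    · exact Subgroup.card_eq_one.1 (by simpa using hk)
    · exfalso
      apply h2
      have := Subgroup.card_subgroup_dvd_card ((P : Subgroup G).map (QuotientGroup.mk' N))
      rw [hk] at this
      exact (dvd_pow_self p (by omega)).trans this
  rwa [Subgroup.map_eq_bot_iff, QuotientGroup.ker_mk'] at h3

end sylow

end CL.Perm
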