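import Cfsg.Agent.Base
import Cfsg.Agent.Perm.PrimeDegree
import Cfsg.Agent.Perm.PolyFun
import Cfsg.Agent.S0671

/-!
# Burnside's theorem on groups of prime degree; the Sylow normaliser
-/

set_option autoImplicit false

namespace CL.Perm

open Cfsg MulAction

theorem finrank_permConstants (K : Type*) [Field K] (G : Type*) [Group G] (α : Type*)
    [MulAction G α] [Nonempty α] :
    Module.finrank K (permConstants K G α).toSubmodule = 1 := by
  apply finrank_span_singleton
  intro h
  obtain ⟨a⟩ := ‹Nonempty α›
  exact one_ne_zero (congrFun h a)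

theorem finrank_permSumZero (K : Type*) [Field K] (G : Type*) [Group G] (α : Type*)
    [MulAction G α] [Fintype α] [Nonempty α] :
    Module.finrank K (permSumZero K G α).toSubmodule + 1 = Fintype.card α := by
  classical
  let σ : (α → K) →ₗ[K] K := ∑ x, LinearMap.proj x
  have hσ : ∀ f, σ f = ∑ x, f x := fun f => by simp [σ]
  have h1 : LinearMap.ker σ = (permSumZero K G α).toSubmodule := by
    ext f
    rw [LinearMap.mem_ker, hσ, mem_permSumZero]
  have h2 : LinearMap.range σ = ⊤ := by
    rw [LinearMap.range_eq_top]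
    intro c
    obtain ⟨a⟩ := ‹Nonempty α›
    exact ⟨Pi.single a c, by simp [hσ]⟩
  have := LinearMap.finrank_range_add_finrank_ker σ
  rw [h1, h2, finrank_top, Module.finrank_self, Module.finrank_fintype_fun_eq_card] at this
  omega

variable {G α : Type*} [Group G] [MulAction G α] {p : ℕ} [hp : Fact p.Prime]
  {e : α ≃ ZMod p} {c : G}

/-- If the heart of the permutation module in characteristic `p` is reducible, every element is
affine. -/
theorem forall_isAff_of_submodule [Fintype α] (he : ∀ x, e (c • x) = e x + 1)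
    {K : Type*} [Field K] [CharP K p] (W : Submodule K (α → K))
    (hW : ∀ g : G, ∀ v ∈ W, permRep K G α g v ∈ W)
    (h₁ : (permConstants K G α).toSubmodule < W) (h₂ : W < (permSumZero K G α).toSubmodule)
    (g : G) : IsAff e g := by
  have : Nonempty α := ⟨e.symm 0⟩
  have hα : Fintype.card α = p := by rw [Fintype.card_congr e, ZMod.card]
  have d₁ := Submodule.finrank_lt_finrank_of_lt h₁
  have d₂ := Submodule.finrank_lt_finrank_of_lt h₂
  have d₃ := finrank_permSumZero K G α
  rw [finrank_permConstants] at d₁
  let L : (α → K) ≃ₗ[K] (ZMod p → K) := LinearEquiv.funCongrLeft K K e.symm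
  let W' : Submodule K (ZMod p → K) := W.map (L : (α → K) →ₗ[K] (ZMod p → K))
  have hd : Module.finrank K W' = Module.finrank K W := LinearEquiv.finrank_map_eq L W
  have hinv : ∀ k : G, ∀ f ∈ W', (fun j => f (e (k • e.symm j))) ∈ W' := by
    rintro k _ ⟨v, hv, rfl⟩
    refine ⟨_, hW k⁻¹ v hv, ?_⟩
    funext j
    simp [L, LinearMap.funLeft, permRep_apply]
  obtain ⟨a, b, hab⟩ := affine_of_invariant_subspace W'
    (fun f hf => by simpa only [coord_inv he, Equiv.apply_symm_apply] using hinv c⁻¹ f hf)
    (fun f hf => by simpa only [he, Equiv.apply_symm_apply] using hinv c f hf)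
    (by omega) (by omega) ((e.symm.trans (toPerm g)).trans e) (hinv g) (hinv g⁻¹)
  refine ⟨a, b, fun x => ?_⟩
  simpa using hab (e x)

theorem perm_zmod_two_affine (σ : Equiv.Perm (ZMod 2)) : ∃ a b : ZMod 2, ∀ x, σ x = a * x + b := by
  revert σ; decide

theorem perm_zmod_three_affine (σ : Equiv.Perm (ZMod 3)) :
    ∃ a b : ZMod 3, ∀ x, σ x = a * x + b := by
  revert σ; decide

theorem forall_isAff_of_le_three (h3 : p ≤ 3) (e : α ≃ ZMod p) (g : G) : IsAff e g := by
  have h2 := hp.out.two_le
  obtain rfl | rfl : p = 2 ∨ p = 3 := by omega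
  · obtain ⟨a, b, h⟩ := perm_zmod_two_affine ((e.symm.trans (toPerm g)).trans e)
    exact ⟨a, b, fun x => by simpa using h (e x)⟩
  · obtain ⟨a, b, h⟩ := perm_zmod_three_affine ((e.symm.trans (toPerm g)).trans e)
    exact ⟨a, b, fun x => by simpa using h (e x)⟩

/-- Burnside's dichotomy for a group of prime degree containing a full cycle. -/
theorem forall_isAff_or_two_pretransitive [Finite G] (he : ∀ x, e (c • x) = e x + 1) :
    (∀ g : G, IsAff e g) ∨ IsMultiplyPretransitive G α 2 := by
  classical
  by_cases h3 : p ≤ 3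
  · exact Or.inl (forall_isAff_of_le_three h3 e)
  have h5 : 5 ≤ p := hp.out.five_le_of_ne_two_of_ne_three (by omega) (by omega)
  have : Fintype α := Fintype.ofEquiv _ e.symm
  have hα : Fintype.card α = p := by rw [Fintype.card_congr e, ZMod.card]
  have : IsPretransitive G α := ⟨fun x y => ⟨c ^ (e y - e x).val, e.injective (by
    rw [coord_pow_val he]; ring)⟩⟩
  rw [or_iff_not_imp_left]
  intro hna
  refine Cfsg.Agent.S0671.result (K := ZMod p) (p := p) (f := 1) le_rfl (by rw [hα, pow_one]) ?_
  intro W W' h1 h2 h3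
  have hW : W.toSubmodule = (permConstants (ZMod p) G α).toSubmodule := by
    by_contra hne
    exact hna (forall_isAff_of_submodule he _ (fun g v hv => W.apply_mem_toSubmodule g hv)
      (lt_of_le_of_ne h1 (Ne.symm hne)) (h2.trans_le h3))
  have hW' : W'.toSubmodule = (permSumZero (ZMod p) G α).toSubmodule := by
    by_contra hne
    exact hna (forall_isAff_of_submodule he _ (fun g v hv => W'.apply_mem_toSubmodule g hv)
      (h1.trans_lt h2) (lt_of_le_of_ne h3 hne))
  rw [hW, hW']
  refine ⟨c, _, single_sub_single_mem_permSumZero (e.symm 1) (e.symm 0) 1, ?_⟩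
  rw [mem_permConstants, map_sub, permRep_single, permRep_single]
  rintro ⟨d, hd⟩
  have hc0 : c • e.symm 0 = e.symm 1 := e.injective (by rw [he]; simp)
  have hc1 : c • e.symm 1 = e.symm 2 := e.injective (by rw [he]; simp [one_add_one_eq_two])
  have hne : ∀ i j : ℕ, i < 5 → j < 5 → i ≠ j → e.symm (i : ZMod p) ≠ e.symm (j : ZMod p) := by
    intro i j hi hj hij h
    have := congrArg ZMod.val (e.symm.injective h)
    rw [ZMod.val_cast_of_lt (by omega), ZMod.val_cast_of_lt (by omega)] at this
    exact hij this
  have e0 := hd (e.symm 0)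
  have e3 := hd (e.symm 3)
  rw [hc0, hc1] at e0 e3
  have n01 : e.symm 0 ≠ e.symm 1 := by simp
  have n02 : e.symm 0 ≠ e.symm 2 := by simpa using hne 0 2 (by omega) (by omega) (by omega)
  have n30 : e.symm 3 ≠ e.symm 0 := by simpa using hne 3 0 (by omega) (by omega) (by omega)
  have n31 : e.symm 3 ≠ e.symm 1 := by simpa using hne 3 1 (by omega) (by omega) (by omega)
  have n32 : e.symm 3 ≠ e.symm 2 := by simpa using hne 3 2 (by omega) (by omega) (by omega)
  simp only [Pi.sub_apply, Pi.single_eq_of_ne n01, Pi.single_eq_of_ne n02, Pi.single_eq_of_ne n30,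
    Pi.single_eq_of_ne n31, Pi.single_eq_of_ne n32, Pi.single_eq_same] at e0 e3
  rw [← e3] at e0
  simp at e0

variable [FaithfulSMul G α] [Finite α]

theorem isSolvable_or_two_pretransitive [IsPretransitive G α] (hα : Nat.card α = p) :
    Group.IsSolvable G ∨ IsMultiplyPretransitive G α 2 := by
  have := finite_of_faithfulSMul G α
  obtain ⟨P⟩ : Nonempty (Sylow p G) := inferInstance
  obtain ⟨c, e, -, he⟩ := exists_coord_sylow hα P
  exact (forall_isAff_or_two_pretransitive he).imp_left (isSolvable_of_forall_isAff he)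

/-- The normaliser of the translation group has order `p k` with `k ∣ p - 1`. -/
theorem card_normalizer_zpowers (he : ∀ x, e (c • x) = e x + 1) :
    ∃ k, k ∣ p - 1 ∧ Nat.card (Subgroup.normalizer (Subgroup.zpowers c : Set G)) = p * k := by
  have := finite_of_faithfulSMul G α
  set N := Subgroup.normalizer (Subgroup.zpowers c : Set G) with hN
  have hA : ∀ g : N, ∃ a b : ZMod p, ∀ x, e ((g : G) • x) = a * e x + b :=
    fun g => (mem_normalizer_iff_isAff he).1 g.2
  choose a b hab using hA
  have huniq : ∀ (g : N) (a' b' : ZMod p), (∀ x, e ((g : G) • x) = a' * e x + b') → a g = a' := by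
    intro g a' b' h
    have h0 := (hab g (e.symm 0)).symm.trans (h _)
    have h1 := (hab g (e.symm 1)).symm.trans (h _)
    simp only [Equiv.apply_symm_apply, mul_zero, zero_add, mul_one] at h0 h1
    linear_combination h1 - h0
  let φ : N →* ZMod p :=
    { toFun := a
      map_one' := huniq 1 1 0 (by simp)
      map_mul' := fun g h => huniq (g * h) _ (a g * b h + b g) (fun x => by
        rw [Subgroup.coe_mul, mul_smul, hab, hab]; ring) }
  let ψ : N →* (ZMod p)ˣ := φ.toHomUnits
  have hker : ψ.ker = (Subgroup.zpowers c).subgroupOf N := by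
    ext g
    rw [MonoidHom.mem_ker, Subgroup.mem_subgroupOf, mem_zpowers_iff_translation he, Units.ext_iff]
    change a g = 1 ↔ _
    constructor
    · intro h
      exact ⟨b g, fun x => by rw [hab, h, one_mul]⟩
    · rintro ⟨d, hd⟩
      exact huniq g 1 d (by simpa using hd)
  refine ⟨ψ.ker.index, ?_, ?_⟩
  · rw [Subgroup.index_ker]
    have := Subgroup.card_subgroup_dvd_card ψ.range
    rwa [Nat.card_eq_fintype_card (α := (ZMod p)ˣ), ZMod.card_units] at this
  · rw [← ψ.ker.card_mul_index]
    congr 1
    rw [hker, Nat.card_congr (Subgroup.subgroupOfEquivOfLe Subgroup.le_normalizer).toEquiv,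
      Nat.card_zpowers, orderOf_eq_of_coord he]

/-- Burnside transfer: if a Sylow `p`-subgroup of a transitive group of degree `p` is
self-normalising, the group has order `p`. -/
theorem card_eq_of_card_normalizer_eq [IsPretransitive G α] (hα : Nat.card α = p) (P : Sylow p G)
    (h : Nat.card (Subgroup.normalizer ((P : Subgroup G) : Set G)) = p) : Nat.card G = p := by
  have := finite_of_faithfulSMul G α
  have hP := card_sylow_of_prime_degree hα P
  obtain ⟨c, e, hc, he⟩ := exists_coord_sylow hα P
  have h1 : Subgroup.normalizer ((P : Subgroup G) : Set G) = P :=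
    (Subgroup.eq_of_le_of_card_ge Subgroup.le_normalizer (by rw [h, hP])).symm
  have h2 : Subgroup.normalizer ((P : Subgroup G) : Set G) ≤
      Subgroup.centralizer ((P : Subgroup G) : Set G) := by
    rw [h1, hc, centralizer_zpowers_eq he]
  have h3 := MonoidHom.ker_transferSylow_isComplement' P h2
  have h4 : (MonoidHom.transferSylow P h2).ker = ⊥ := by
    by_contra hne
    have h5 := sylow_le_of_normal_of_prime_degree hα _ hne P
    have h6 := Subgroup.card_dvd_of_le h5
    rw [hP] at h6
    exact MonoidHom.not_dvd_card_ker_transferSylow P h2 h6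
  rw [← h3.card_mul_card, h4, hP]
  simp

theorem isSolvable_of_card_normalizer_eq [IsPretransitive G α] (hα : Nat.card α = p)
    (P : Sylow p G) (h : Nat.card (Subgroup.normalizer ((P : Subgroup G) : Set G)) = p) :
    Group.IsSolvable G := by
  have := isCyclic_of_prime_card (card_eq_of_card_normalizer_eq hα P h)
  exact Group.isSolvable_of_comm (fun a b => (IsCyclic.isMulCommutative.is_comm).comm a b)

end CL.Perm
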