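import Cfsg.Agent.Base

/-!
A linear group that is transitive on the non-zero vectors up to sign and has a self-centralising
abelian normal subgroup is a group of one-dimensional semilinear maps (Huppert).
-/

set_option autoImplicit false

namespace CL.Perm

open Subgroup

universe u

section

variable {D : Type*} [Group D] {V : Type u} [AddCommGroup V] [DistribMulAction D V]

/-- The ring of additive endomorphisms generated by a subgroup. -/
def spanRing (V : Type u) [AddCommGroup V] [DistribMulAction D V] (F : Subgroup D) :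
    Subring (AddMonoid.End V) :=
  Subring.closure (DistribMulAction.toAddMonoidEnd D V '' F)

theorem toEnd_mem_spanRing {F : Subgroup D} {f : D} (hf : f ∈ F) :
    DistribMulAction.toAddMonoidEnd D V f ∈ spanRing V F :=
  Subring.subset_closure ⟨f, hf, rfl⟩

theorem spanRing_comm {F : Subgroup D} (hab : IsMulCommutative F) :
    IsMulCommutative (spanRing V F) := by
  apply Subring.isMulCommutative_closure
  rintro _ ⟨a, ha, rfl⟩ _ ⟨b, hb, rfl⟩
  rw [← map_mul, ← map_mul]
  exact congrArg _ (congrArg Subtype.val (hab.is_comm.comm (⟨a, ha⟩ : F) ⟨b, hb⟩))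

theorem conj_mem_spanRing {F : Subgroup D} [hF : F.Normal] (d : D) {x : AddMonoid.End V}
    (hx : x ∈ spanRing V F) :
    DistribMulAction.toAddMonoidEnd D V d * x * DistribMulAction.toAddMonoidEnd D V d⁻¹ ∈
      spanRing V F := by
  induction hx using Subring.closure_induction with
  | mem x hx =>
    obtain ⟨f, hf, rfl⟩ := hx
    rw [← map_mul, ← map_mul]
    exact toEnd_mem_spanRing (hF.conj_mem f hf d)
  | zero =>
    rw [mul_zero, zero_mul]
    exact zero_mem _
  | one =>
    rw [mul_one, ← map_mul, mul_inv_cancel, map_one]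
    exact one_mem _
  | add x y _ _ hx hy =>
    rw [mul_add, add_mul]
    exact add_mem hx hy
  | neg x _ hx =>
    rw [mul_neg, neg_mul]
    exact neg_mem hx
  | mul x y _ _ hx hy =>
    have := mul_mem hx hy
    rwa [mul_assoc, mul_assoc, ← mul_assoc (DistribMulAction.toAddMonoidEnd D V d⁻¹),
      ← mul_assoc (DistribMulAction.toAddMonoidEnd D V d⁻¹), ← map_mul, inv_mul_cancel, map_one,
      one_mul, ← mul_assoc, ← mul_assoc, mul_assoc _ x y] at this

/-- Conjugation by an element of `D` as a ring automorphism of `spanRing V F`. -/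
def conjSpanRing (V : Type u) [AddCommGroup V] [DistribMulAction D V] (F : Subgroup D) [F.Normal]
    (d : D) : spanRing V F ≃+* spanRing V F where
  toFun x := ⟨_, conj_mem_spanRing d x.2⟩
  invFun x := ⟨_, conj_mem_spanRing d⁻¹ x.2⟩
  left_inv x := by
    ext v
    change d⁻¹ • d • (x : AddMonoid.End V) (d⁻¹ • d⁻¹⁻¹ • v) = _
    simp
  right_inv x := by
    ext v
    change d • d⁻¹ • (x : AddMonoid.End V) (d⁻¹⁻¹ • d⁻¹ • v) = _
    simp
  map_mul' x y := by
    ext v
    change d • (x : AddMonoid.End V) ((y : AddMonoid.End V) (d⁻¹ • v)) =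
      d • (x : AddMonoid.End V) (d⁻¹ • d • (y : AddMonoid.End V) (d⁻¹ • v))
    simp
  map_add' x y := by
    ext v
    change d • ((x : AddMonoid.End V) (d⁻¹ • v) + (y : AddMonoid.End V) (d⁻¹ • v)) =
      d • (x : AddMonoid.End V) (d⁻¹ • v) + d • (y : AddMonoid.End V) (d⁻¹ • v)
    simp

theorem conjSpanRing_apply (F : Subgroup D) [F.Normal] (d : D) (x : spanRing V F) (v : V) :
    (conjSpanRing V F d x : AddMonoid.End V) v = d • (x : AddMonoid.End V) (d⁻¹ • v) := rfl

theorem spanRing_injective [Finite V] (F : Subgroup D) [F.Normal] (hab : IsMulCommutative F)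
    (htrans : ∀ u v : V, u ≠ 0 → v ≠ 0 → ∃ d : D, d • u = v ∨ d • u = -v)
    (x : spanRing V F) {u : V} (hu : u ≠ 0) (hxu : (x : AddMonoid.End V) u = 0) : x = 0 := by
  have hcomm := spanRing_comm (V := V) hab
  let orb : V → Set V := fun v => Set.range fun y : spanRing V F => (y : AddMonoid.End V) v
  have hle : ∀ u v : V, u ≠ 0 → v ≠ 0 → (orb v).ncard ≤ (orb u).ncard := by
    intro u v hu hv
    obtain ⟨d, hd⟩ := htrans u v hu hv
    rw [← Set.ncard_image_of_injective (orb u) (MulAction.injective d)]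
    apply Set.ncard_le_ncard _ (Set.toFinite _)
    rintro _ ⟨y, rfl⟩
    rcases hd with hd | hd
    · refine ⟨_, ⟨conjSpanRing V F d⁻¹ y, rfl⟩, ?_⟩
      simp [conjSpanRing_apply, hd]
    · refine ⟨_, ⟨conjSpanRing V F d⁻¹ (-y), rfl⟩, ?_⟩
      change d • d⁻¹ • -((y : AddMonoid.End V) (d⁻¹⁻¹ • u)) = _
      simp [hd]
  have hsimple : ∀ v w : V, w ≠ 0 → w ∈ orb v → orb w = orb v := by
    intro v w hw hwv
    obtain ⟨y, rfl⟩ := hwv
    have hv : v ≠ 0 := by
      rintro rfl
      exact hw (map_zero _)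
    apply Set.eq_of_subset_of_ncard_le _ (hle _ _ hw hv)
    rintro _ ⟨z, rfl⟩
    exact ⟨z * y, rfl⟩
  have hself : ∀ v, v ∈ orb v := fun v => ⟨1, rfl⟩
  ext v
  by_contra hv
  change ¬ (x : AddMonoid.End V) v = 0 at hv
  have h1 : orb ((x : AddMonoid.End V) v) = orb v := hsimple _ _ hv ⟨x, rfl⟩
  have h2 : orb ((x : AddMonoid.End V) v) = orb (u + v) :=
    hsimple _ _ hv ⟨x, by simp [hxu]⟩
  have h3 : u + v ∈ orb v := by rw [← h1, h2]; exact hself _
  obtain ⟨y, hy⟩ := h3
  have h4 : orb u = orb v := hsimple _ _ hu ⟨y - 1, by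
    change (y : AddMonoid.End V) v - v = u
    beta_reduce at hy
    rw [hy, add_sub_cancel_right]⟩
  obtain ⟨z, hz⟩ : v ∈ orb u := by rw [h4]; exact hself _
  apply hv
  rw [← hz]
  change ((x * z : spanRing V F) : AddMonoid.End V) u = 0
  rw [hcomm.is_comm.comm x z]
  change (z : AddMonoid.End V) ((x : AddMonoid.End V) u) = 0
  rw [hxu, map_zero]

/-- Huppert: if `D` is transitive up to sign on the non-zero vectors and has a self-centralising
abelian normal subgroup, `V` is a field on which `D` acts by semilinear maps. -/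
theorem exists_field_semilinear [Finite V] [Nontrivial V] [FaithfulSMul D V] (F : Subgroup D)
    [hF : F.Normal] (hab : IsMulCommutative F) (hC : centralizer (F : Set D) ≤ F)
    (htrans : ∀ u v : V, u ≠ 0 → v ≠ 0 → ∃ d : D, d • u = v ∨ d • u = -v) :
    ∃ (K : Type u) (_ : Field K) (e : V ≃+ K), ∀ d : D, ∃ (c : Kˣ) (φ : K ≃+* K),
      ∀ v : V, e (d • v) = c * φ (e v) := by
  classical
  have hcomm := spanRing_comm (V := V) hab
  have hinj := spanRing_injective F hab htrans
  have hfinD : Finite D := Finite.of_injective _ (MulAction.toPerm_injective (α := D) (β := V))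
  have hfinE : Finite (AddMonoid.End V) := Finite.of_injective _ DFunLike.coe_injective
  obtain ⟨v₀, hv₀⟩ := exists_ne (0 : V)
  let _ : CommRing (spanRing V F) :=
    { (inferInstance : Ring (spanRing V F)) with mul_comm := hcomm.is_comm.comm }
  have hnt : Nontrivial (spanRing V F) := ⟨⟨1, 0, fun h => hv₀ (by
    have := congrArg (fun y : spanRing V F => (y : AddMonoid.End V) v₀) h
    exact this)⟩⟩
  have hnz : NoZeroDivisors (spanRing V F) := ⟨fun {a b} h => by
    by_cases hb : (b : AddMonoid.End V) v₀ = 0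
    · exact Or.inr (hinj b hv₀ hb)
    · exact Or.inl (hinj a hb (congrArg (fun y : spanRing V F => (y : AddMonoid.End V) v₀) h))⟩
  have hdom : IsDomain (spanRing V F) := NoZeroDivisors.to_isDomain _
  let ι : F →* spanRing V F :=
    { toFun := fun f => ⟨_, toEnd_mem_spanRing f.2⟩
      map_one' := Subtype.ext (map_one _)
      map_mul' := fun a b => Subtype.ext (map_mul _ _ _) }
  have hι : Function.Injective ι := by
    intro a b h
    apply Subtype.ext
    apply FaithfulSMul.eq_of_smul_eq_smul (M := D) (α := V)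
    intro v
    exact congrArg (fun y : spanRing V F => (y : AddMonoid.End V) v) h
  obtain ⟨z, hz⟩ := (isCyclic_of_injective_ringHom ι hι).exists_generator
  have hcz : ∀ d : D, d * z * d⁻¹ = z → d ∈ F := by
    intro d hd
    apply hC
    rw [mem_centralizer_iff]
    intro f hf
    obtain ⟨n, hn⟩ := hz ⟨f, hf⟩
    have hn' : (z : D) ^ n = f := congrArg Subtype.val hn
    rw [← hn']
    rw [mul_inv_eq_iff_eq_mul] at hd
    exact (Commute.zpow_right hd n).symm
  let ev : spanRing V F →+ V :=
    { toFun := fun y => (y : AddMonoid.End V) v₀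
      map_zero' := rfl
      map_add' := fun _ _ => rfl }
  have hev : Function.Injective ev := (injective_iff_map_eq_zero ev).mpr fun y hy => hinj y hv₀ hy
  have hlt : Nat.card F < Nat.card (spanRing V F) := by
    have := Fintype.ofFinite F
    have := Fintype.ofFinite (spanRing V F)
    rw [Nat.card_eq_fintype_card, Nat.card_eq_fintype_card]
    apply Fintype.card_lt_of_injective_of_notMem ι hι (b := 0)
    rintro ⟨f, hf⟩
    exact ((Group.isUnit f).map ι).ne_zero hf
  have hup : Nat.card V ≤ Nat.card F * Nat.card (spanRing V F) := by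
    rw [← Nat.card_prod]
    let rep : F → D := fun c => if h : ∃ d : D, d * z * d⁻¹ = c then h.choose else 1
    apply Nat.card_le_card_of_surjective
      (fun cx : F × spanRing V F => (cx.2 : AddMonoid.End V) (rep cx.1 • v₀))
    intro v
    by_cases hv : v = 0
    · exact ⟨(1, 0), hv.symm⟩
    obtain ⟨d, hd⟩ := htrans v₀ v hv₀ hv
    let c : F := ⟨d * z * d⁻¹, hF.conj_mem _ z.2 d⟩
    have hex : ∃ d : D, d * z * d⁻¹ = c := ⟨d, rfl⟩
    have hrep : rep c * z * (rep c)⁻¹ = d * z * d⁻¹ := by
      simp only [rep, dif_pos hex]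
      exact hex.choose_spec
    have h1 : (rep c)⁻¹ * d ∈ F := by
      apply hcz
      calc (rep c)⁻¹ * d * z * ((rep c)⁻¹ * d)⁻¹ = (rep c)⁻¹ * (d * z * d⁻¹) * rep c := by group
        _ = z := by rw [← hrep]; group
    have h2 : d * (rep c)⁻¹ ∈ F := by
      simpa [mul_assoc] using hF.conj_mem _ h1 (rep c)
    have h3 : (ι ⟨_, h2⟩ : AddMonoid.End V) (rep c • v₀) = d • v₀ := by
      change (d * (rep c)⁻¹) • rep c • v₀ = d • v₀
      rw [mul_smul, inv_smul_smul]
    rcases hd with hd | hd
    · exact ⟨(c, ι ⟨_, h2⟩), h3.trans hd⟩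
    · refine ⟨(c, -ι ⟨_, h2⟩), ?_⟩
      change -((ι ⟨_, h2⟩ : AddMonoid.End V) (rep c • v₀)) = v
      rw [h3, hd, neg_neg]
  let _ : Field (spanRing V F) := (Finite.isField_of_domain (spanRing V F)).toField
  have hsurj : Function.Surjective ev := by
    intro w
    by_contra hw
    have hinj2 : Function.Injective fun xy : spanRing V F × spanRing V F =>
        ev xy.1 + (xy.2 : AddMonoid.End V) w := by
      rintro ⟨x, y⟩ ⟨x', y'⟩ h
      have h1 : ((y - y' : spanRing V F) : AddMonoid.End V) w = ev (x' - x) := by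
        change (y : AddMonoid.End V) w - (y' : AddMonoid.End V) w = _
        beta_reduce at h
        rw [map_sub, sub_eq_sub_iff_add_eq_add, add_comm, h]
      by_cases hy : y - y' = 0
      · rw [hy] at h1
        have h2 : x' - x = 0 := hev (by rw [← h1, map_zero]; rfl)
        rw [sub_eq_zero] at hy h2
        rw [hy, h2]
      · exfalso
        apply hw
        refine ⟨(y - y')⁻¹ * (x' - x), ?_⟩
        change (((y - y')⁻¹ : spanRing V F) : AddMonoid.End V) (ev (x' - x)) = w
        rw [← h1]
        change (((y - y')⁻¹ * (y - y') : spanRing V F) : AddMonoid.End V) w = w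
        rw [inv_mul_cancel₀ hy]
        rfl
    have h1 := Nat.card_le_card_of_injective _ hinj2
    rw [Nat.card_prod] at h1
    have h2 := Nat.mul_lt_mul_of_lt_of_le hlt (le_refl (Nat.card (spanRing V F))) Nat.card_pos
    omega
  let e : spanRing V F ≃+ V := AddEquiv.ofBijective ev ⟨hev, hsurj⟩
  refine ⟨spanRing V F, inferInstance, e.symm, fun d => ?_⟩
  have hc : e.symm (d • v₀) ≠ 0 := by
    rw [Ne, map_eq_zero_iff _ e.symm.injective, smul_eq_zero_iff_eq]
    exact hv₀
  refine ⟨Units.mk0 _ hc, conjSpanRing V F d, fun v => ?_⟩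
  obtain ⟨x, rfl⟩ := e.surjective v
  rw [AddEquiv.symm_apply_apply, AddEquiv.symm_apply_eq, Units.val_mk0, mul_comm]
  change _ = (conjSpanRing V F d x : AddMonoid.End V) (e (e.symm (d • v₀)))
  rw [AddEquiv.apply_symm_apply, conjSpanRing_apply, inv_smul_smul]
  rfl

/-- The same with a prescribed field of the right order. -/
theorem exists_addEquiv_semilinear [Finite V] [Nontrivial V] [FaithfulSMul D V] (F : Subgroup D)
    [hF : F.Normal] (hab : IsMulCommutative F) (hC : centralizer (F : Set D) ≤ F)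
    (htrans : ∀ u v : V, u ≠ 0 → v ≠ 0 → ∃ d : D, d • u = v ∨ d • u = -v)
    (L : Type*) [Field L] (hL : Nat.card L = Nat.card V) :
    ∃ e : V ≃+ L, ∀ d : D, ∃ (c : Lˣ) (φ : L ≃+* L), ∀ v : V, e (d • v) = c * φ (e v) := by
  obtain ⟨K, _, e, he⟩ := exists_field_semilinear F hab hC htrans
  have : Finite K := Finite.of_equiv V e.toEquiv
  have : Finite L := Nat.finite_of_card_ne_zero (by rw [hL]; exact Nat.card_pos.ne')
  have := Fintype.ofFinite K
  have := Fintype.ofFinite L
  let τ : K ≃+* L := FiniteField.ringEquivOfCardEq (by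
    rw [← Nat.card_eq_fintype_card, ← Nat.card_eq_fintype_card, hL, Nat.card_congr e.toEquiv])
  refine ⟨e.trans τ.toAddEquiv, fun d => ?_⟩
  obtain ⟨c, φ, h⟩ := he d
  refine ⟨Units.map (τ : K →* L) c, (τ.symm.trans φ).trans τ, fun v => ?_⟩
  simp [h]

end

end CL.Perm
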