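import Cfsg.Agent.Base
import Cfsg.Agent.Perm.Semilinear

/-!
# The field generated by an abelian normal subgroup of a transitive linear group
-/

set_option autoImplicit false

namespace CL.Perm

open Subgroup

universe u

variable {D : Type*} [Group D] {V : Type u} [AddCommGroup V] [DistribMulAction D V]

theorem exists_field_of_normal_comm [Finite V] [Nontrivial V] [FaithfulSMul D V] (A : Subgroup D)
    [A.Normal] (hab : IsMulCommutative A)
    (htrans : ∀ u v : V, u ≠ 0 → v ≠ 0 → ∃ d : D, d • u = v) :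
    ∃ (K : Type u) (_ : Field K) (_ : Finite K) (_ : Module K V) (ι : A →* K) (σ : D →* RingAut K),
      (∀ (a : A) (v : V), (a : D) • v = ι a • v) ∧
      (∀ (d : D) (x : K) (v : V), d • x • v = σ d x • d • v) ∧ σ.ker = centralizer (A : Set D) ∧
      ∀ W : AddSubgroup V, (∀ a ∈ A, ∀ v ∈ W, a • v ∈ W) → ∀ (x : K), ∀ v ∈ W, x • v ∈ W := by
  classical
  have hcomm := spanRing_comm (V := V) hab
  have hinj := spanRing_injective A hab fun u v hu hv =>
    (htrans u v hu hv).imp fun _ h => Or.inl h
  have hfinE : Finite (AddMonoid.End V) := Finite.of_injective _ DFunLike.coe_injective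
  obtain ⟨v₀, hv₀⟩ := exists_ne (0 : V)
  let _ : CommRing (spanRing V A) :=
    { (inferInstance : Ring (spanRing V A)) with mul_comm := hcomm.is_comm.comm }
  have hnt : Nontrivial (spanRing V A) := ⟨⟨1, 0, fun h => hv₀ (by
    have := congrArg (fun y : spanRing V A => (y : AddMonoid.End V) v₀) h
    exact this)⟩⟩
  have hnz : NoZeroDivisors (spanRing V A) := ⟨fun {a b} h => by
    by_cases hb : (b : AddMonoid.End V) v₀ = 0
    · exact Or.inr (hinj b hv₀ hb)
    · exact Or.inl (hinj a hb (congrArg (fun y : spanRing V A => (y : AddMonoid.End V) v₀) h))⟩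
  have hdom : IsDomain (spanRing V A) := NoZeroDivisors.to_isDomain _
  let ι : A →* spanRing V A :=
    { toFun := fun f => ⟨_, toEnd_mem_spanRing f.2⟩
      map_one' := Subtype.ext (map_one _)
      map_mul' := fun a b => Subtype.ext (map_mul _ _ _) }
  let σ : D →* RingAut (spanRing V A) := MonoidHom.mk' (conjSpanRing V A) fun d e => by
    ext x v
    change (d * e) • (x : AddMonoid.End V) ((d * e)⁻¹ • v) =
      d • e • (x : AddMonoid.End V) (e⁻¹ • d⁻¹ • v)
    rw [mul_smul, mul_inv_rev, mul_smul]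
  let iM : Module (spanRing V A) V := Module.compHom V (spanRing V A).subtype
  refine ⟨spanRing V A, (Finite.isField_of_domain (spanRing V A)).toField, inferInstance, iM, ι, σ,
    fun a v => rfl, fun d x v => ?_, ?_, ?_⟩
  · change d • (x : AddMonoid.End V) v = d • (x : AddMonoid.End V) (d⁻¹ • d • v)
    rw [inv_smul_smul]
  · ext d
    rw [MonoidHom.mem_ker, mem_centralizer_iff]
    constructor
    · intro h a ha
      apply FaithfulSMul.eq_of_smul_eq_smul (M := D) (α := V)
      intro v
      have := congrArg (fun φ : RingAut (spanRing V A) =>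
        (φ (ι ⟨a, ha⟩) : AddMonoid.End V) (d • v)) h
      change d • a • d⁻¹ • d • v = a • d • v at this
      rw [mul_smul, mul_smul, ← this, inv_smul_smul]
    · intro h
      ext ⟨x, hx⟩ v
      change d • x (d⁻¹ • v) = x v
      have : Commute (DistribMulAction.toAddMonoidEnd D V d) x := by
        refine (Subring.closure_le (t := Subring.centralizer {_})).mpr ?_ hx _ rfl
        rintro _ ⟨a, ha, rfl⟩ _ rfl
        rw [← map_mul, ← map_mul, h a ha]
      have h1 := congrArg (fun y : AddMonoid.End V => y (d⁻¹ • v)) this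
      change d • x (d⁻¹ • v) = x (d • d⁻¹ • v) at h1
      rw [h1, smul_inv_smul]
  · rintro W hW ⟨x, hx⟩
    change ∀ v ∈ W, x v ∈ W
    induction hx using Subring.closure_induction with
    | mem x hx =>
      obtain ⟨a, ha, rfl⟩ := hx
      exact hW a ha
    | zero => exact fun v _ => W.zero_mem
    | one => exact fun v hv => hv
    | add x y _ _ hx hy => exact fun v hv => W.add_mem (hx v hv) (hy v hv)
    | neg x _ hx => exact fun v hv => W.neg_mem (hx v hv)
    | mul x y _ _ hx hy => exact fun v hv => hx _ (hy v hv)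

/-- Numerical data attached to an abelian normal subgroup of a transitive linear group. -/
theorem exists_field_data [Finite V] [Nontrivial V] [FaithfulSMul D V] {p : ℕ} [hp : Fact p.Prime]
    [Module (ZMod p) V] (A : Subgroup D) [A.Normal] (hab : IsMulCommutative A)
    (htrans : ∀ u v : V, u ≠ 0 → v ≠ 0 → ∃ d : D, d • u = v) :
    ∃ k m : ℕ, 0 < k ∧ 0 < m ∧ Nat.card V = (p ^ k) ^ m ∧ Nat.card A ∣ p ^ k - 1 ∧
      (centralizer (A : Set D)).index ∣ k ∧ _root_.commutator D ≤ centralizer (A : Set D) ∧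
      (m = 1 ↔ ∀ W : AddSubgroup V, (∀ a ∈ A, ∀ v ∈ W, a • v ∈ W) → W = ⊥ ∨ W = ⊤) ∧
      (m = 1 → IsMulCommutative (centralizer (A : Set D))) := by
  obtain ⟨K, _, _, _, ι, σ, hι, hσ, hker, hW⟩ := exists_field_of_normal_comm A hab htrans
  obtain ⟨v₀, hv₀⟩ := exists_ne (0 : V)
  have : CharP K p := (CharP.charP_iff_prime_eq_zero hp.out).mpr (by
    refine (smul_eq_zero_iff_left hv₀).mp ?_
    rw [Nat.cast_smul_eq_nsmul, ← Nat.cast_smul_eq_nsmul (ZMod p), ZMod.natCast_self, zero_smul])
  let _ : Algebra (ZMod p) K := ZMod.algebra K p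
  have hK : Nat.card K = p ^ Module.finrank (ZMod p) K := by
    rw [Module.natCard_eq_pow_finrank (K := ZMod p), Nat.card_zmod]
  let τ : D →* Gal(K/ZMod p) := MonoidHom.mk'
    (fun d => AlgEquiv.ofRingEquiv (f := σ d) fun x =>
      congrArg (fun f : ZMod p →+* K => f x)
        (Subsingleton.elim ((σ d : K →+* K).comp (algebraMap (ZMod p) K)) (algebraMap (ZMod p) K)))
    fun d e => by
      ext x
      change σ (d * e) x = σ d (σ e x)
      rw [map_mul]
      rfl
  have hτ : τ.ker = centralizer (A : Set D) := by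
    rw [← hker]
    ext d
    simp only [MonoidHom.mem_ker, AlgEquiv.ext_iff, RingEquiv.ext_iff]
    rfl
  have hsp : Module.finrank K V = 1 → ∀ v w : V, v ≠ 0 → ∃ x : K, x • v = w := fun h v w hv =>
    (finrank_eq_one_iff_of_nonzero' v hv).mp h w
  refine ⟨Module.finrank (ZMod p) K, Module.finrank K V, Module.finrank_pos, Module.finrank_pos,
    by rw [← hK, Module.natCard_eq_pow_finrank (K := K)], ?_, ?_, ?_, ⟨fun h W hA => ?_, fun h => ?_⟩,
    fun h => ⟨⟨fun c d => ?_⟩⟩⟩
  · rw [← hK, ← Nat.card_units]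
    refine card_dvd_of_injective ι.toHomUnits fun a b h => Subtype.ext ?_
    apply FaithfulSMul.eq_of_smul_eq_smul (M := D) (α := V)
    intro v
    rw [hι, hι, show ι a = ι b from congrArg Units.val h]
  · rw [← hτ, index_ker, ← IsGalois.card_aut_eq_finrank]
    exact card_subgroup_dvd_card _
  · rw [← hτ]
    let _ : CommGroup Gal(K/ZMod p) := IsCyclic.commGroup
    exact Abelianization.commutator_subset_ker τ
  · rw [or_iff_not_imp_left]
    intro hne
    obtain ⟨⟨v, hvW⟩, hv⟩ := AddSubgroup.ne_bot_iff_exists_ne_zero.mp hne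
    rw [eq_top_iff]
    intro w _
    obtain ⟨x, rfl⟩ := hsp h v w fun h0 => hv (Subtype.ext h0)
    exact hW W hA x v hvW
  · rw [finrank_eq_one_iff_of_nonzero' v₀ hv₀]
    intro w
    rcases h (Submodule.span K {v₀}).toAddSubgroup fun a ha v hv => by
      rw [hι ⟨a, ha⟩]; exact Submodule.smul_mem _ _ hv with h1 | h1
    · exact absurd (h1.le (Submodule.mem_span_singleton_self v₀)) hv₀
    · exact Submodule.mem_span_singleton.mp (h1.ge (AddSubgroup.mem_top w))
  · apply Subtype.ext
    apply FaithfulSMul.eq_of_smul_eq_smul (M := D) (α := V)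
    intro v
    have hl : ∀ c : centralizer (A : Set D), ∀ (x : K) (v : V), (c : D) • x • v = x • (c : D) • v := by
      intro c x v
      rw [hσ, MonoidHom.mem_ker.mp (hker.ge c.2)]
      rfl
    obtain ⟨x, hx⟩ := hsp h v₀ ((c : D) • v₀) hv₀
    obtain ⟨y, hy⟩ := hsp h v₀ ((d : D) • v₀) hv₀
    obtain ⟨z, rfl⟩ := hsp h v₀ v hv₀
    simp only [coe_mul, mul_smul, hl, ← hx, ← hy]
    rw [smul_comm y x]

end CL.Perm
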