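import Cfsg.Agent.Base
import Cfsg.Agent.Perm.RegLin
import Cfsg.Agent.Perm.FPFPerfect
import Cfsg.Agent.Lin.Card

/-!
# Linear groups that are regular on the non-zero vectors (Zassenhaus)
-/

set_option autoImplicit false

namespace CL.Perm

open Subgroup MatrixGroups CL.FPF

theorem card_dvd_of_free {Γ X : Type*} [Group Γ] [MulAction Γ X] (S : SubMulAction Γ X)
    (h : ∀ g : Γ, ∀ x ∈ S, g • x = x → g = 1) : Nat.card Γ ∣ Nat.card S := by
  rw [Nat.card_congr (MulAction.selfEquivOrbitsQuotientProd (G := Γ) (X := S) fun b =>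
    (eq_bot_iff_forall _).mpr fun g hg => h g b b.2 (congrArg Subtype.val hg)), Nat.card_prod]
  exact dvd_mul_left _ _

theorem card_mulAut_quaternion_dvd : Nat.card (MulAut (QuaternionGroup 2)) ∣ 24 := by
  let S : SubMulAction (MulAut (QuaternionGroup 2)) (QuaternionGroup 2 × QuaternionGroup 2) :=
    { carrier := {z | z.1 * z.2 ≠ z.2 * z.1}
      smul_mem' := fun φ z hz h => hz (φ.injective (by rw [map_mul, map_mul]; exact h)) }
  have h1 : Nat.card S = 24 := by
    rw [show Nat.card S = Nat.card {z : QuaternionGroup 2 × QuaternionGroup 2 //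
      z.1 * z.2 ≠ z.2 * z.1} from rfl, Nat.card_eq_fintype_card]
    decide +kernel
  have h2 : ∀ x y : QuaternionGroup 2, x * y ≠ y * x → ∀ z, ∃ (i : Fin 4) (j : Fin 2),
      z = x ^ (i : ℕ) * y ^ (j : ℕ) := by decide +kernel
  rw [← h1]
  refine card_dvd_of_free S fun φ z hz h => MulEquiv.ext fun w => ?_
  obtain ⟨i, j, rfl⟩ := h2 z.1 z.2 hz w
  rw [map_mul, map_pow, map_pow, show φ z.1 = z.1 from congrArg Prod.fst h,
    show φ z.2 = z.2 from congrArg Prod.snd h]
  rfl

theorem index_centralizer_dvd_card_mulAut {G : Type*} [Group G] (N : Subgroup G) [N.Normal] :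
    (centralizer (N : Set G)).index ∣ Nat.card (MulAut N) := by
  have : (MulAut.conjNormal : G →* MulAut N).ker = centralizer (N : Set G) := by
    ext g
    rw [MonoidHom.mem_ker, mem_centralizer_iff, MulEquiv.ext_iff]
    exact ⟨fun h n hn => (mul_inv_eq_iff_eq_mul.mp (congrArg Subtype.val (h ⟨n, hn⟩))).symm,
      fun h n => Subtype.ext (mul_inv_eq_iff_eq_mul.mpr (h n n.2).symm)⟩
  rw [← this, index_ker]
  exact card_subgroup_dvd_card _

theorem card_SL25 : Nat.card SL(2, ZMod 5) = 120 := by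
  have := Fact.mk (show Nat.Prime 5 by norm_num)
  rw [CL.Lin.card_SL_two, ZMod.card]

theorem not_isSolvable_SL25 : ¬ Group.IsSolvable SL(2, ZMod 5) := by
  have h1 : (2 : ZMod 5) ≠ 0 := by decide
  have h2 : (2 : ZMod 5) ^ 2 ≠ 1 := by decide
  have := Fact.mk (show Nat.Prime 5 by norm_num)
  have : Group.IsPerfect SL(2, ZMod 5) := ⟨Matrix.SL2.commutator_eq_top h1 h2⟩
  have : Nontrivial SL(2, ZMod 5) := Finite.one_lt_card_iff_nontrivial.mp (by
    rw [card_SL25]; norm_num)
  exact Group.IsPerfect.not_isSolvable _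

set_option synthInstance.maxSize 2048 in
theorem regLin_arith_key : ∀ p < 600, ∀ k < 6, ∀ m < 5, 3 ≤ p → 0 < k →
    ((∑ i ∈ Finset.range (m + 2), (p ^ k) ^ i) ∣ 24 * k ∨
      ((∑ i ∈ Finset.range (m + 2), (p ^ k) ^ i) ∣ 120 * k ∧ 120 ∣ (p ^ k) ^ (m + 2) - 1)) →
    k = 1 ∧ m + 2 = 2 := by decide +kernel

theorem regLin_arith {p k m s : ℕ} (hp : 3 ≤ p) (hk : 0 < k) (hm : 2 ≤ m)
    (hs : s = ∑ i ∈ Finset.range m, (p ^ k) ^ i)
    (h : s ∣ 24 * k ∨ (s ∣ 120 * k ∧ 120 ∣ (p ^ k) ^ m - 1)) : k = 1 ∧ m = 2 := by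
  have h1 : s ≤ 120 * k := by
    rcases h with h | ⟨h, -⟩
    · exact (Nat.le_of_dvd (by omega) h).trans (by omega)
    · exact Nat.le_of_dvd (by omega) h
  obtain ⟨m, rfl⟩ : ∃ m', m = m' + 2 := ⟨m - 2, by omega⟩
  have h2 : (p ^ k) ^ (m + 1) < s := by
    rw [hs, Finset.sum_range_succ, Finset.sum_range_succ']
    simp
  have h3 : 3 ^ k ≤ p ^ k := Nat.pow_le_pow_left hp k
  have h4 : p ^ k ≤ (p ^ k) ^ (m + 1) := Nat.le_self_pow (by omega) _
  have hk6 : k < 6 := by
    by_contra h6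
    have : ∀ j, 120 * (j + 6) ≤ 3 ^ (j + 6) := by
      intro j
      induction j with
      | zero => norm_num
      | succ j ih => rw [show j + 1 + 6 = j + 6 + 1 by ring, pow_succ]; omega
    have := this (k - 6)
    rw [show k - 6 + 6 = k by omega] at this
    omega
  have h5 : p ≤ p ^ k := Nat.le_self_pow hk.ne' p
  have hm5 : m < 5 := by
    by_contra h6
    have h7 : 3 ^ 6 ≤ (p ^ k) ^ (m + 1) :=
      (Nat.pow_le_pow_right (by norm_num) (by omega)).trans (Nat.pow_le_pow_left (hp.trans h5) _)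
    omega
  exact regLin_arith_key p (by omega) k hk6 m hm5 hp hk (hs ▸ h)

section MaxAb

variable {D : Type*} [Group D] {A : Subgroup D} [hAn : A.Normal] (hAc : IsMulCommutative A)
  (hAmax : ∀ B : Subgroup D, B.Normal → IsMulCommutative B → A ≤ B → B = A)
include hAc hAmax

theorem le_of_maxAb {B : Subgroup D} [B.Normal] (hB : IsMulCommutative B)
    (hBA : B ≤ centralizer (A : Set D)) : B ≤ A := by
  rw [← hAmax (B ⊔ A) inferInstance ?_ le_sup_right]
  · exact le_sup_left
  · rw [← le_centralizer_iff_isMulCommutative]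
    refine sup_le ?_ ?_ <;> rw [le_centralizer_iff]
    · exact sup_le B.le_centralizer (le_centralizer_iff.mp hBA)
    · exact sup_le hBA A.le_centralizer

theorem commutator_le_center_of_maxAb {M : Subgroup D} [M.Normal] (hM : IsMulCommutative ↥⁅M, M⁆)
    (hMA : M ≤ centralizer (A : Set D)) : _root_.commutator M ≤ center M := by
  have h1 := (le_of_maxAb hAc hAmax hM ((commutator_le_left M M).trans hMA)).trans
    (le_centralizer_iff.mp hMA)
  intro x hx
  rw [mem_center_iff]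
  intro y
  exact Subtype.ext (h1 (map_subtype_commutator M ▸ mem_map_of_mem M.subtype hx) y y.2)

theorem isNilpotent_of_maxAb {M : Subgroup D} [M.Normal] (hM : IsMulCommutative ↥⁅M, M⁆)
    (hMA : M ≤ centralizer (A : Set D)) : Group.IsNilpotent M :=
  Subgroup.isNilpotent_of_ker_le_center Abelianization.of
    (by rw [Abelianization.ker_of]; exact commutator_le_center_of_maxAb hAc hAmax hM hMA)

theorem quaternion_or_SL25 [Finite D] (hD : IsFPF D) {N : Subgroup D} [N.Normal]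
    (hNle : N ≤ centralizer (A : Set D)) (hNna : ¬ IsMulCommutative N)
    (hNmin : ∀ M : Subgroup D, M.Normal → M ≤ N → ¬ IsMulCommutative M → M = N) :
    Nonempty (N ≃* QuaternionGroup 2) ∨ Nonempty (N ≃* SL(2, ZMod 5)) := by
  by_cases hM : IsMulCommutative ↥⁅N, N⁆
  swap
  · right
    have : Nontrivial N := by
      rw [nontrivial_iff_ne_bot]
      rintro rfl
      exact hNna inferInstance
    exact (hD.subgroup N).perfect
      (isPerfect_iff.mpr (hNmin _ inferInstance (commutator_le_left N N) hM)).commutator_eq_top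
  left
  have hz := commutator_le_center_of_maxAb hAc hAmax hM hNle
  have := isNilpotent_of_maxAb hAc hAmax hM hNle
  have hnc : ¬ IsCyclic N := fun h => hNna h.isMulCommutative
  have h2 : IsPGroup 2 N := by
    obtain ⟨P⟩ : Nonempty (Sylow 2 N) := inferInstance
    have := P.characteristic_of_normal inferInstance
    rw [← hNmin ((P : Subgroup N).map N.subtype) inferInstance (map_subtype_le _) fun hc => ?_]
    · exact P.isPGroup'.map _
    · have h1 := (hD.subgroup _).isCyclic_of_comm (hc := hc)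
      have h3 : IsCyclic P := (equivMapOfInjective _ _ N.subtype_injective).isCyclic.mpr h1
      have := (hD.subgroup N).isZGroup fun Q => (P.equiv Q).isCyclic.mp h3
      exact hnc inferInstance
  obtain ⟨-, n, hn, ⟨e⟩⟩ := (hD.isCyclic_or_quaternion h2).resolve_left hnc
  have h3 := congrArg e (mem_center_iff.mp (hz (commutator_mem_commutator
    (mem_top (e.symm (.a 1))) (mem_top (e.symm (.xa 0))))) (e.symm (.xa 0)))
  simp only [commutatorElement_def, map_mul, map_inv, MulEquiv.apply_symm_apply] at h3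
  have h4 : ((4 : ℕ) : ZMod (2 * 2 ^ n)) = 0 := by
    have e1 : (QuaternionGroup.a 1 : QuaternionGroup (2 ^ n))⁻¹ = .a (-1) := rfl
    have e2 : (QuaternionGroup.xa 0 : QuaternionGroup (2 ^ n))⁻¹ = .xa (((2 ^ n : ℕ) : _) + 0) := rfl
    simp only [e1, e2, QuaternionGroup.a_mul_xa, QuaternionGroup.xa_mul_a,
      QuaternionGroup.xa_mul_xa, QuaternionGroup.xa.injEq] at h3
    have h5 : ((2 * 2 ^ n : ℕ) : ZMod (2 * 2 ^ n)) = 0 := ZMod.natCast_self _
    push_cast at h3 h5 ⊢
    linear_combination h3 - 2 * h5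
  have h6 := Nat.le_of_dvd (by norm_num) ((ZMod.natCast_eq_zero_iff _ _).mp h4)
  have h7 : n = 1 := by
    by_contra h8
    have : 2 ^ 2 ≤ 2 ^ n := Nat.pow_le_pow_right (by norm_num) (by omega)
    omega
  subst h7
  exact ⟨e⟩

theorem centralizer_inf_eq_of_maxAb [Finite D] (hD : IsFPF D) {N : Subgroup D} [N.Normal]
    (hNle : N ≤ centralizer (A : Set D)) {i j : D} (hi : i ∈ N) (hj : j ∈ N) (h4 : i ^ 4 = 1)
    (hij : i * j ≠ j * i) : centralizer (N : Set D) ⊓ centralizer (A : Set D) = A := by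
  refine le_antisymm ?_ (le_inf (le_centralizer_iff.mp hNle) A.le_centralizer)
  set B := centralizer (N : Set D) ⊓ centralizer (A : Set D)
  have hi2 : i ^ 2 ≠ 1 := fun h => hij (hD.involution_central h j).symm
  have hZ : IsZGroup B := by
    refine (hD.subgroup B).isZGroup fun P => ?_
    refine ((hD.subgroup B).isCyclic_or_quaternion P.isPGroup').resolve_right ?_
    rintro ⟨-, n, -, ⟨e⟩⟩
    set c : D := ((e.symm (.xa 0) : B) : D) with hc
    have ho : orderOf c = 4 := by
      rw [hc, orderOf_coe, orderOf_coe, MulEquiv.orderOf_eq, QuaternionGroup.orderOf_xa]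
    have hcN : c ∈ centralizer (N : Set D) := (e.symm (.xa 0) : B).2.1
    have h1 : c ^ 2 = i ^ 2 := hD.involution_unique
      (by rw [← pow_mul]; exact orderOf_dvd_iff_pow_eq_one.mp (ho ▸ dvd_rfl))
      (fun h => absurd (Nat.le_of_dvd two_pos (ho ▸ orderOf_dvd_of_pow_eq_one h)) (by norm_num))
      (by rw [← pow_mul]; exact h4) hi2
    have hci : Commute c i := (hcN i hi).symm
    have h2 := hD.involution_central (z := c⁻¹ * i)
      (by rw [hci.inv_left.mul_pow, inv_pow, h1, inv_mul_cancel]) j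
    apply hij
    have h3 : Commute j c := hcN j hj
    rw [← mul_assoc, h3.inv_right.eq, mul_assoc, mul_assoc] at h2
    exact (mul_left_cancel h2).symm
  have h1 : IsCyclic ↥⁅B, B⁆ := by
    rw [← map_subtype_commutator]
    exact (equivMapOfInjective _ _ B.subtype_injective).isCyclic.mp (IsZGroup.isCyclic_commutator B)
  have := isNilpotent_of_maxAb hAc hAmax h1.isMulCommutative (inf_le_right : B ≤ _)
  have h2 : IsCyclic B := inferInstance
  exact le_of_maxAb hAc hAmax h2.isMulCommutative inf_le_right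

end MaxAb

theorem index_centralizer_of_SL25 {D : Type*} [Group D] [Finite D] (hD : IsFPF D) {N : Subgroup D}
    (e : N ≃* SL(2, ZMod 5)) : (centralizer (N : Set D)).index ∣ 120 ∧
      ¬ 3 ∣ Nat.card (centralizer (N : Set D)) := by
  have hN : ¬ Group.IsSolvable N := fun h =>
    not_isSolvable_SL25 (Group.isSolvable_of_surjective (f := e.toMonoidHom) e.surjective)
  have hcN : Nat.card N = 120 := by rw [Nat.card_congr e.toEquiv, card_SL25]
  obtain ⟨⟨e1⟩, h1, h2⟩ := hD.struct fun h => hN inferInstance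
  obtain ⟨⟨e2⟩, -, -⟩ := (hD.subgroup N).struct hN
  have h3 : T3 N = ⊤ := eq_top_of_card_eq _ (by rw [Nat.card_congr e2.toEquiv, card_SL25, hcN])
  have h4 : N ≤ T3 D := by
    rw [← N.range_subtype, MonoidHom.range_eq_map, ← h3, T3, MonoidHom.map_closure, closure_le]
    rintro _ ⟨x, hx, rfl⟩
    exact mem_T3 (congrArg Subtype.val hx)
  have h5 : N = T3 D := eq_of_le_of_card_ge h4
    (by rw [Nat.card_congr e1.toEquiv, card_SL25, hcN])
  rw [← h5] at h1 h2
  refine ⟨?_, h2⟩
  have : N.Normal := h5 ▸ instNormalT3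
  rw [← relIndex_mul_index (le_sup_right : centralizer (N : Set D) ≤ N ⊔ _), relIndex_sup_right]
  refine mul_dvd_mul (?_ : _ ∣ 60) h1
  obtain ⟨z, hz⟩ := exists_prime_orderOf_dvd_card' (G := N) 2 (by rw [hcN]; norm_num)
  have h6 : z ∈ (centralizer (N : Set D)).subgroupOf N := fun n _ =>
    hD.involution_central (by rw [← map_pow, ← hz, pow_orderOf_eq_one, map_one]) n
  obtain ⟨c, hc⟩ := hz ▸ Subgroup.orderOf_dvd_natCard _ h6
  have h7 := ((centralizer (N : Set D)).subgroupOf N).index_mul_card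
  rw [hcN, hc] at h7
  exact ⟨c, by rw [relIndex]; linarith⟩

section Reg

variable {D : Type*} [Group D] {V : Type*} [AddCommGroup V] [DistribMulAction D V]
  (hreg : ∀ v w : V, v ≠ 0 → w ≠ 0 → ∃! d : D, d • v = w)
include hreg

theorem eq_of_reg {d e : D} {v : V} (hv : v ≠ 0) (h : d • v = e • v) : d = e :=
  (hreg v (e • v) hv ((smul_ne_zero_iff_ne e).mpr hv)).unique h rfl

theorem finite_of_reg [Finite V] [Nontrivial V] : Finite D := by
  obtain ⟨v, hv⟩ := exists_ne (0 : V)
  exact Finite.of_injective (fun d : D => d • v) fun d e h => eq_of_reg hreg hv h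

theorem card_eq_of_reg [Finite V] [Nontrivial V] : Nat.card D + 1 = Nat.card V := by
  have := finite_of_reg hreg
  obtain ⟨v, hv⟩ := exists_ne (0 : V)
  rw [← Finite.card_option]
  refine Nat.card_congr (Equiv.ofBijective (fun o : Option D => o.elim 0 (· • v)) ⟨?_, fun w => ?_⟩)
  · rintro (_ | d) (_ | e) h
    · rfl
    · exact absurd h.symm ((smul_ne_zero_iff_ne e).mpr hv)
    · exact absurd h ((smul_ne_zero_iff_ne d).mpr hv)
    · exact congrArg some (eq_of_reg hreg hv h)
  · by_cases hw : w = 0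
    · exact ⟨none, hw.symm⟩
    · obtain ⟨d, hd, -⟩ := hreg v w hv hw
      exact ⟨some d, hd⟩

theorem faithful_of_reg [Nontrivial V] : FaithfulSMul D V := by
  obtain ⟨v, hv⟩ := exists_ne (0 : V)
  exact ⟨fun h => eq_of_reg hreg hv (h v)⟩

theorem isFPF_of_reg [Finite V] [Nontrivial V] : IsFPF D :=
  have := finite_of_reg hreg
  isFPF_of_distribMulAction (M := V) fun g hg v hv => by
    by_contra h0
    exact hg (eq_of_reg hreg h0 (hv.trans (one_smul D v).symm))

theorem isMulCommutative_of_prime_card {p : ℕ} [Fact p.Prime] {N : Subgroup D} {W : AddSubgroup V}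
    (hW : Nat.card W = p) (hN : ∀ n ∈ N, ∀ v ∈ W, n • v ∈ W) : IsMulCommutative N := by
  have : Finite W := Nat.finite_of_card_ne_zero (hW ▸ (Fact.out : p.Prime).ne_zero)
  have : Nontrivial W := Finite.one_lt_card_iff_nontrivial.mp (hW ▸ (Fact.out : p.Prime).one_lt)
  obtain ⟨w, hw⟩ := exists_ne (0 : W)
  refine ⟨⟨fun a b => Subtype.ext (eq_of_reg hreg (v := w) (fun h => hw (Subtype.ext h)) ?_)⟩⟩
  obtain ⟨i, hi⟩ := mem_zmultiples_of_prime_card hW hw (g' := ⟨_, hN a a.2 w w.2⟩)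
  obtain ⟨j, hj⟩ := mem_zmultiples_of_prime_card hW hw (g' := ⟨_, hN b b.2 w w.2⟩)
  have hi' : (a : D) • (w : V) = i • (w : V) := (congrArg Subtype.val hi).symm
  have hj' : (b : D) • (w : V) = j • (w : V) := (congrArg Subtype.val hj).symm
  rw [coe_mul, coe_mul, mul_smul, mul_smul, hi', hj', smul_comm (a : D), smul_comm (b : D), hi', hj',
    smul_comm]

variable [Finite V] [Nontrivial V] (p : ℕ) [hp : Fact p.Prime] [Module (ZMod p) V]
include hp

theorem isSolvable_of_irreducible {A : Subgroup D} [A.Normal] (hAc : IsMulCommutative A)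
    (hirr : ∀ W : AddSubgroup V, (∀ a ∈ A, ∀ v ∈ W, a • v ∈ W) → W = ⊥ ∨ W = ⊤) :
    Group.IsSolvable D := by
  have := faithful_of_reg hreg
  obtain ⟨k, m, -, -, -, -, -, h1, h2, h3⟩ := exists_field_data (p := p) A hAc
    fun u v hu hv => (hreg u v hu hv).exists
  have := h3 (h2.mpr hirr)
  have : Group.IsSolvable (centralizer (A : Set D)) :=
    Group.isSolvable_of_comm fun a b => mul_comm' a b
  exact Group.isSolvable_of_ker_le_range (centralizer (A : Set D)).subtype Abelianization.of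
    (by rwa [Abelianization.ker_of, range_subtype])

variable {A : Subgroup D} [hAn : A.Normal] (hAc : IsMulCommutative A)
  (hAmax : ∀ B : Subgroup D, B.Normal → IsMulCommutative B → A ≤ B → B = A)
  (hred : ∃ W : AddSubgroup V, W ≠ ⊥ ∧ W ≠ ⊤ ∧ ∀ a ∈ A, ∀ v ∈ W, a • v ∈ W)
include hAc hred

theorem exists_data_of_reducible :
    ∃ k m : ℕ, 0 < k ∧ 2 ≤ m ∧ Nat.card V = (p ^ k) ^ m ∧ Nat.card A ∣ p ^ k - 1 ∧
      (centralizer (A : Set D)).index ∣ k := by
  have := faithful_of_reg hreg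
  obtain ⟨k, m, h1, h2, h3, h4, h5, -, h6, -⟩ := exists_field_data (p := p) A hAc
    fun u v hu hv => (hreg u v hu hv).exists
  refine ⟨k, m, h1, ?_, h3, h4, h5⟩
  by_contra h
  obtain ⟨W, hW1, hW2, hW⟩ := hred
  exact (h6.mp (by omega) W hW).elim hW1 hW2

theorem centralizer_ne_of_reducible : centralizer (A : Set D) ≠ A := by
  intro h
  have := finite_of_reg hreg
  obtain ⟨k, m, h1, h2, h3, h4, h5⟩ := exists_data_of_reducible hreg p hAc hred
  have h6 := card_eq_of_reg hreg
  rw [h] at h5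
  rw [h3, ← A.index_mul_card] at h6
  have h7 : k < p ^ k := Nat.lt_pow_self hp.out.one_lt
  have h8 : (p ^ k) ^ 2 ≤ (p ^ k) ^ m := Nat.pow_le_pow_right (by omega) h2
  have h9 := Nat.mul_le_mul (Nat.le_of_dvd h1 h5) (Nat.le_of_dvd (by omega) h4)
  obtain ⟨q, hq⟩ : ∃ q, p ^ k = q + 1 := ⟨p ^ k - 1, by omega⟩
  rw [hq] at h6 h7 h8 h9
  rw [Nat.add_sub_cancel] at h9
  nlinarith

include hAmax in
theorem regLin_main {N : Subgroup D} [N.Normal] (hNle : N ≤ centralizer (A : Set D))
    (hN : Nonempty (N ≃* QuaternionGroup 2) ∨ Nonempty (N ≃* SL(2, ZMod 5))) :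
    Nat.card V = p ^ 2 ∧ centralizer (N : Set D) = A ∧ Nat.card A ∣ p - 1 := by
  have := finite_of_reg hreg
  have hD := isFPF_of_reg hreg
  obtain ⟨k, m, h1, h2, h3, h4, h5⟩ := exists_data_of_reducible hreg p hAc hred
  have h6 := card_eq_of_reg hreg
  have hij : ∃ i j : N, i ^ 4 = 1 ∧ i * j ≠ j * i := by
    have key : ∀ {Q : Type} [Group Q], Nonempty (N ≃* Q) → (∃ i j : Q, i ^ 4 = 1 ∧ i * j ≠ j * i) →
        ∃ i j : N, i ^ 4 = 1 ∧ i * j ≠ j * i := by
      rintro Q _ ⟨e⟩ ⟨i, j, h1, h2⟩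
      exact ⟨e.symm i, e.symm j, by rw [← map_pow, h1, map_one],
        fun h => h2 (e.symm.injective (by rwa [map_mul, map_mul]))⟩
    rcases hN with hN | hN
    · exact key hN ⟨.a 1, .xa 0, by decide, by decide⟩
    · exact key hN ⟨Ico.sx, Ico.sa, by decide +kernel, fun h =>
        absurd (congrArg (fun s : SL(2, ZMod 5) => s 0 1) h) (by decide +kernel)⟩
  obtain ⟨i, j, hi, hij⟩ := hij
  have h7 := centralizer_inf_eq_of_maxAb hAc hAmax hD hNle i.2 j.2 (congrArg Subtype.val hi)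
    fun h => hij (Subtype.ext h)
  have hAC : A ≤ centralizer (N : Set D) := le_centralizer_iff.mp hNle
  have h8 : A.relIndex (centralizer (N : Set D)) ∣ k := by
    conv_lhs => rw [← h7]
    rw [inf_relIndex_left]
    exact (relIndex_dvd_index_of_normal _ _).trans h5
  have h9 : Nat.card D ∣ (centralizer (N : Set D)).index * k * (p ^ k - 1) := by
    rw [← A.index_mul_card, ← relIndex_mul_index hAC, mul_comm (A.relIndex _)]
    exact mul_dvd_mul (mul_dvd_mul_left _ h8) h4
  have hq : 2 ≤ p ^ k := (hp.out.two_le).trans (Nat.le_self_pow h1.ne' p)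
  have h10 : Nat.card D = (∑ i ∈ Finset.range m, (p ^ k) ^ i) * (p ^ k - 1) := by
    rw [Nat.geomSum_eq hq, Nat.div_mul_cancel (by simpa using Nat.sub_dvd_pow_sub_pow (p ^ k) 1 m)]
    omega
  rw [h10, Nat.mul_dvd_mul_iff_right (by omega)] at h9
  have hp3 : 3 ≤ p := by
    by_contra h
    have h2p : p = 2 := by have := hp.out.two_le; omega
    have h11 : 2 ∣ Nat.card D := by
      refine dvd_trans ?_ (card_subgroup_dvd_card N)
      rcases hN with ⟨⟨e⟩⟩ | ⟨⟨e⟩⟩
      · rw [Nat.card_congr e.toEquiv, Nat.card_eq_fintype_card, QuaternionGroup.card]; norm_num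
      · rw [Nat.card_congr e.toEquiv, card_SL25]; norm_num
    have h12 : 2 ∣ Nat.card V := by
      rw [h3, h2p, ← pow_mul]
      exact dvd_pow_self 2 (Nat.mul_ne_zero h1.ne' (by omega))
    omega
  obtain ⟨rfl, rfl⟩ := regLin_arith hp3 h1 h2 rfl (by
    rcases hN with ⟨⟨e⟩⟩ | ⟨⟨e⟩⟩
    · refine Or.inl (h9.trans (mul_dvd_mul_right ((index_centralizer_dvd_card_mulAut N).trans ?_) _))
      rw [Nat.card_congr (MulAut.congr e).toEquiv]
      exact card_mulAut_quaternion_dvd
    · refine Or.inr ⟨h9.trans (mul_dvd_mul_right (index_centralizer_of_SL25 hD e).1 _), ?_⟩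
      rw [← h3, ← h6, Nat.add_sub_cancel, ← card_SL25, ← Nat.card_congr e.toEquiv]
      exact card_subgroup_dvd_card N)
  rw [pow_one] at h3 h4
  exact ⟨h3, le_antisymm (relIndex_eq_one.mp (Nat.dvd_one.mp h8)) hAC, h4⟩

end Reg

section Lin

variable {p : ℕ} [Fact p.Prime] {V : Type*} [AddCommGroup V] [Module (ZMod p) V] [Finite V]
  {H : Subgroup (V ≃ₗ[ZMod p] V)}
  (hreg : ∀ v w : V, v ≠ 0 → w ≠ 0 → ∃! h : H, (h : V ≃ₗ[ZMod p] V) v = w)
  (hI : ∀ A : Subgroup H, A.Normal → IsCyclic A → ∃ W : Submodule (ZMod p) V, W ≠ ⊥ ∧ W ≠ ⊤ ∧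
    ∀ a ∈ A, ∀ v ∈ W, ((a : H) : V ≃ₗ[ZMod p] V) v ∈ W)

include hI in
theorem nontrivial_of_regLin : Nontrivial V := by
  obtain ⟨W, h1, -, -⟩ := hI ⊥ inferInstance inferInstance
  obtain ⟨v, -, hv⟩ := W.exists_mem_ne_zero_of_ne_bot h1
  exact ⟨v, 0, hv⟩

include hreg hI in
theorem reducible_of_regLin {A : Subgroup H} (hAn : A.Normal) (hAc : IsMulCommutative A) :
    ∃ W : AddSubgroup V, W ≠ ⊥ ∧ W ≠ ⊤ ∧ ∀ a ∈ A, ∀ v ∈ W, a • v ∈ W := by
  have := nontrivial_of_regLin hI
  have := finite_of_reg (D := H) hreg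
  obtain ⟨W, h1, h2, h3⟩ := hI A hAn ((isFPF_of_reg (D := H) hreg).subgroup A).isCyclic_of_comm
  exact ⟨W.toAddSubgroup, fun h => h1 (Submodule.toAddSubgroup_injective h),
    fun h => h2 (Submodule.toAddSubgroup_injective h), h3⟩

include hreg hI in
theorem exists_maxAb_minNonab : ∃ A N : Subgroup H, A.Normal ∧ IsMulCommutative A ∧
    (∀ B : Subgroup H, B.Normal → IsMulCommutative B → A ≤ B → B = A) ∧ N.Normal ∧
    N ≤ centralizer (A : Set H) ∧ ¬ IsMulCommutative N ∧
    ∀ M : Subgroup H, M.Normal → M ≤ N → ¬ IsMulCommutative M → M = N := by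
  have := nontrivial_of_regLin hI
  have := finite_of_reg (D := H) hreg
  obtain ⟨A, ⟨hAn, hAc⟩, hA⟩ := (wellFounded_gt (α := Subgroup H)).has_min
    {A | A.Normal ∧ IsMulCommutative A} ⟨⊥, inferInstance, inferInstance⟩
  have hAmax : ∀ B : Subgroup H, B.Normal → IsMulCommutative B → A ≤ B → B = A :=
    fun B h1 h2 h3 => (h3.eq_or_lt.resolve_right (hA B ⟨h1, h2⟩)).symm
  obtain ⟨N, ⟨hNn, hNle, hNna⟩, hN⟩ := (wellFounded_lt (α := Subgroup H)).has_min
    {N | N.Normal ∧ N ≤ centralizer (A : Set H) ∧ ¬ IsMulCommutative N}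
    ⟨centralizer (A : Set H), inferInstance, le_rfl, fun h =>
      centralizer_ne_of_reducible (D := H) hreg p hAc (reducible_of_regLin hreg hI hAn hAc)
        (hAmax _ inferInstance h A.le_centralizer)⟩
  exact ⟨A, N, hAn, hAc, hAmax, hNn, hNle, hNna, fun M h1 h2 h3 =>
    h2.eq_or_lt.resolve_right (hN M ⟨h1, h2.trans hNle, h3⟩)⟩

end Lin

end CL.Perm
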