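import Cfsg.Agent.Base

/-!
# A certificate checker: a subgroup of `GL(2,p)` is regular on the non-zero vectors

Vectors of `(ZMod p)²` are encoded by numbers `i < p * p`.  The table `T` lists for each non-zero
vector the second column of the group element with that first column; `P` and `R` encode a spanning
tree of the orbit of the first basis vector.
-/

set_option autoImplicit false

namespace CL.Perm.RegCert

open Matrix

/-- Action of an encoded matrix on an encoded vector. -/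
def act (p : ℕ) (g : ℕ × ℕ × ℕ × ℕ) (i : ℕ) : ℕ :=
  ((g.1 * (i / p) + g.2.1 * (i % p)) % p) * p + (g.2.2.1 * (i / p) + g.2.2.2 * (i % p)) % p

/-- Table look-up, 12 bits per entry. -/
def tab (T i : ℕ) : ℕ := (T >>> (12 * i)) % 4096

/-- Bounded universal quantifier. -/
def allLt (f : ℕ → Bool) (n : ℕ) : Bool := Nat.rec true (fun k ih => f k && ih) n

theorem allLt_spec {f : ℕ → Bool} {n : ℕ} (h : allLt f n = true) : ∀ i < n, f i = true := by
  induction n with
  | zero => intro i hi; omega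
  | succ n ih =>
    have h' : (f n && allLt f n) = true := h
    rw [Bool.and_eq_true] at h'
    intro i hi
    rcases Nat.lt_succ_iff_lt_or_eq.mp hi with h1 | rfl
    · exact ih h'.2 i h1
    · exact h'.1

/-- The check. -/
def check (p : ℕ) (gens : List (ℕ × ℕ × ℕ × ℕ)) (T P R : ℕ) : Bool :=
  Nat.beq (tab T p) 1 && allLt (fun i => Nat.beq i 0 ||
    (gens.all (fun g => Nat.beq (tab T (act p g i)) (act p g (tab T i))) &&
      (Nat.beq i p || (Nat.blt (tab R (tab P i)) (tab R i) && Nat.blt (tab P i) (p * p) &&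
        Nat.blt 0 (tab P i) && gens.any (fun g => Nat.beq (act p g (tab P i)) i))))) (p * p)

/-- Decoding of vectors. -/
def vec (p i : ℕ) : Fin 2 → ZMod p := ![((i / p : ℕ) : ZMod p), ((i % p : ℕ) : ZMod p)]

/-- Decoding of matrices. -/
def mat (p : ℕ) (g : ℕ × ℕ × ℕ × ℕ) : Matrix (Fin 2) (Fin 2) (ZMod p) :=
  !![(g.1 : ZMod p), (g.2.1 : ZMod p); (g.2.2.1 : ZMod p), (g.2.2.2 : ZMod p)]

variable {p : ℕ}

theorem act_lt (hp : 0 < p) (g : ℕ × ℕ × ℕ × ℕ) (i : ℕ) : act p g i < p * p := by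
  unfold act
  have h1 := Nat.mod_lt (g.1 * (i / p) + g.2.1 * (i % p)) hp
  have h2 := Nat.mod_lt (g.2.2.1 * (i / p) + g.2.2.2 * (i % p)) hp
  nlinarith

theorem vec_act (hp : 0 < p) (g : ℕ × ℕ × ℕ × ℕ) (i : ℕ) :
    vec p (act p g i) = mat p g *ᵥ vec p i := by
  have h2 := Nat.mod_lt (g.2.2.1 * (i / p) + g.2.2.2 * (i % p)) hp
  have e1 : act p g i / p = (g.1 * (i / p) + g.2.1 * (i % p)) % p := by
    unfold act
    rw [add_comm, Nat.add_mul_div_right _ _ hp, Nat.div_eq_of_lt h2, zero_add]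
  have e2 : act p g i % p = (g.2.2.1 * (i / p) + g.2.2.2 * (i % p)) % p := by
    unfold act
    rw [add_comm, Nat.add_mul_mod_self_right, Nat.mod_mod]
  ext k
  fin_cases k
  · simp [vec, mat, e1, mulVec, dotProduct, Fin.sum_univ_two]
  · simp [vec, mat, e2, mulVec, dotProduct, Fin.sum_univ_two]

theorem vec_inj (hp : 0 < p) {i j : ℕ} (hi : i < p * p) (hj : j < p * p)
    (h : vec p i = vec p j) : i = j := by
  have h0 := congrFun h 0
  have h1 := congrFun h 1
  simp only [vec, cons_val_zero, cons_val_one] at h0 h1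
  rw [ZMod.natCast_eq_natCast_iff', Nat.mod_eq_of_lt (Nat.div_lt_of_lt_mul hi),
    Nat.mod_eq_of_lt (Nat.div_lt_of_lt_mul hj)] at h0
  rw [ZMod.natCast_eq_natCast_iff', Nat.mod_mod, Nat.mod_mod] at h1
  rw [← Nat.div_add_mod i p, ← Nat.div_add_mod j p, h0, h1]

theorem vec_surj (hp : 0 < p) (v : Fin 2 → ZMod p) : ∃ i < p * p, vec p i = v := by
  have : NeZero p := ⟨hp.ne'⟩
  have h0 := ZMod.val_lt (v 0)
  have h1 := ZMod.val_lt (v 1)
  refine ⟨(v 0).val * p + (v 1).val, by nlinarith, ?_⟩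
  have e1 : ((v 0).val * p + (v 1).val) / p = (v 0).val := by
    rw [add_comm, Nat.add_mul_div_right _ _ hp, Nat.div_eq_of_lt h1, zero_add]
  have e2 : ((v 0).val * p + (v 1).val) % p = (v 1).val := by
    rw [add_comm, Nat.add_mul_mod_self_right, Nat.mod_eq_of_lt h1]
  ext k
  fin_cases k
  · simp [vec, e1]
  · simp only [vec, e2]; simp

theorem vec_zero : vec p 0 = 0 := by
  ext k; fin_cases k <;> simp [vec]

theorem vec_p (hp : 0 < p) : vec p p = ![1, 0] := by
  simp [vec, Nat.div_self hp]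

theorem vec_one (hp : 1 < p) : vec p 1 = ![0, 1] := by
  simp [vec, Nat.div_eq_of_lt hp]

theorem regular_of_check (hp : p.Prime) (gens : List (ℕ × ℕ × ℕ × ℕ)) (T P R : ℕ)
    (hc : check p gens T P R = true) (S : Set (GeneralLinearGroup (Fin 2) (ZMod p)))
    (hS : ∀ s ∈ S, ∃ g ∈ gens, (s : Matrix (Fin 2) (Fin 2) (ZMod p)) = mat p g)
    (hS' : ∀ g ∈ gens, ∃ s ∈ S, (s : Matrix (Fin 2) (Fin 2) (ZMod p)) = mat p g) :
    Nat.card (Subgroup.closure S) = p ^ 2 - 1 ∧
      ∀ v w : Fin 2 → ZMod p, v ≠ 0 → w ≠ 0 → ∃! h : Subgroup.closure S,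
        Matrix.mulVec ((h : GeneralLinearGroup (Fin 2) (ZMod p)) :
          Matrix (Fin 2) (Fin 2) (ZMod p)) v = w := by
  have := Fact.mk hp
  have hp0 := hp.pos
  have hp1 := hp.one_lt
  have hpp : p < p * p := by nlinarith
  simp only [check, Bool.and_eq_true, Nat.beq_eq] at hc
  obtain ⟨hT1, hall⟩ := hc
  replace hall := allLt_spec hall
  simp only [Bool.or_eq_true, Bool.and_eq_true, Nat.beq_eq, List.all_eq_true, List.any_eq_true,
    Nat.blt_eq] at hall
  have hne : ∀ (h : GeneralLinearGroup (Fin 2) (ZMod p)) (v : Fin 2 → ZMod p), v ≠ 0 →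
      (h : Matrix (Fin 2) (Fin 2) (ZMod p)) *ᵥ v ≠ 0 := by
    intro h v hv hh
    apply hv
    have := congrArg (((h⁻¹ : GeneralLinearGroup (Fin 2) (ZMod p)) :
      Matrix (Fin 2) (Fin 2) (ZMod p)) *ᵥ ·) hh
    simpa only [mulVec_mulVec, ← Units.val_mul, inv_mul_cancel, Units.val_one, one_mulVec,
      mulVec_zero] using this
  have he1 : (![1, 0] : Fin 2 → ZMod p) ≠ 0 := fun h => by simpa using congrFun h 0
  -- the stabiliser of `e₁` is trivial
  have hmem : ∀ h ∈ Subgroup.closure S, ∃ i < p * p, i ≠ 0 ∧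
      (h : Matrix (Fin 2) (Fin 2) (ZMod p)) *ᵥ ![1, 0] = vec p i ∧
      (h : Matrix (Fin 2) (Fin 2) (ZMod p)) *ᵥ ![0, 1] = vec p (tab T i) := by
    intro h hh
    rw [← Subgroup.mem_toSubmonoid, Subgroup.closure_toSubmonoid_of_finite] at hh
    induction hh using Submonoid.closure_induction_left with
    | one =>
      refine ⟨p, hpp, hp0.ne', ?_, ?_⟩
      · rw [vec_p hp0]; simp
      · rw [hT1, vec_one hp1]; simp
    | mul_left s hs y hy ih =>
      obtain ⟨i, hi, hi0, h1, h2⟩ := ih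
      obtain ⟨g, hg, hsg⟩ := hS s hs
      have e1 : ((s * y : GeneralLinearGroup (Fin 2) (ZMod p)) :
          Matrix (Fin 2) (Fin 2) (ZMod p)) *ᵥ ![1, 0] = vec p (act p g i) := by
        rw [Units.val_mul, ← mulVec_mulVec, h1, hsg, vec_act hp0]
      refine ⟨act p g i, act_lt hp0 g i, ?_, e1, ?_⟩
      · intro h0
        rw [h0, vec_zero] at e1
        exact hne _ _ he1 e1
      · rw [Units.val_mul, ← mulVec_mulVec, h2, hsg, ← vec_act hp0,
          ((hall i hi).resolve_left hi0).1 g hg]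
  have hstab : ∀ h ∈ Subgroup.closure S,
      (h : Matrix (Fin 2) (Fin 2) (ZMod p)) *ᵥ ![1, 0] = ![1, 0] → h = 1 := by
    intro h hh hfix
    obtain ⟨i, hi, -, h1, h2⟩ := hmem h hh
    rw [hfix, ← vec_p hp0] at h1
    have hip := vec_inj hp0 hpp hi h1
    rw [← hip, hT1, vec_one hp1] at h2
    ext a b
    have a1 := congrFun hfix a
    have a2 := congrFun h2 a
    fin_cases a <;> fin_cases b <;>
      simp [mulVec, dotProduct, Fin.sum_univ_two] at a1 a2 <;> simp [a1, a2]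
  -- transitivity
  have htr : ∀ r i : ℕ, tab R i = r → i < p * p → i ≠ 0 → ∃ h ∈ Subgroup.closure S,
      (h : Matrix (Fin 2) (Fin 2) (ZMod p)) *ᵥ ![1, 0] = vec p i := by
    intro r
    induction r using Nat.strong_induction_on with
    | _ r ih =>
      intro i hr hi hi0
      rcases ((hall i hi).resolve_left hi0).2 with rfl | ⟨⟨⟨h1, h2⟩, h3⟩, g, hg, h4⟩
      · exact ⟨1, Subgroup.one_mem _, by rw [vec_p hp0]; simp⟩
      · obtain ⟨h, hh, hv⟩ := ih _ (hr ▸ h1) _ rfl h2 h3.ne'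
        obtain ⟨s, hs, hsg⟩ := hS' g hg
        refine ⟨s * h, Subgroup.mul_mem _ (Subgroup.subset_closure hs) hh, ?_⟩
        rw [Units.val_mul, ← mulVec_mulVec, hv, hsg, ← vec_act hp0, h4]
  have htr' : ∀ w : Fin 2 → ZMod p, w ≠ 0 → ∃ h ∈ Subgroup.closure S,
      (h : Matrix (Fin 2) (Fin 2) (ZMod p)) *ᵥ ![1, 0] = w := by
    intro w hw
    obtain ⟨i, hi, rfl⟩ := vec_surj hp0 w
    exact htr _ i rfl hi (by rintro rfl; exact hw vec_zero)
  have hcancel : ∀ (h : GeneralLinearGroup (Fin 2) (ZMod p)) (v w : Fin 2 → ZMod p),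
      (h : Matrix (Fin 2) (Fin 2) (ZMod p)) *ᵥ v = w →
      ((h⁻¹ : GeneralLinearGroup (Fin 2) (ZMod p)) : Matrix (Fin 2) (Fin 2) (ZMod p)) *ᵥ w = v := by
    intro h v w hvw
    rw [← hvw, mulVec_mulVec, ← Units.val_mul, inv_mul_cancel, Units.val_one, one_mulVec]
  have huniq : ∀ v w : Fin 2 → ZMod p, v ≠ 0 → w ≠ 0 → ∃! h : Subgroup.closure S,
        Matrix.mulVec ((h : GeneralLinearGroup (Fin 2) (ZMod p)) :
          Matrix (Fin 2) (Fin 2) (ZMod p)) v = w := by
    intro v w hv hw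
    obtain ⟨a, ha, hav⟩ := htr' v hv
    obtain ⟨b, hb, hbw⟩ := htr' w hw
    refine ⟨⟨b * a⁻¹, Subgroup.mul_mem _ hb (Subgroup.inv_mem _ ha)⟩, ?_, ?_⟩
    · simp only [Units.val_mul, ← mulVec_mulVec, hcancel _ _ _ hav, hbw]
    · rintro ⟨c, hc⟩ hcv
      have := hstab (b⁻¹ * c * a)
        (Subgroup.mul_mem _ (Subgroup.mul_mem _ (Subgroup.inv_mem _ hb) hc) ha) (by
          simp only at hcv
          rw [Units.val_mul, Units.val_mul, ← mulVec_mulVec, ← mulVec_mulVec, hav, hcv,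
            hcancel _ _ _ hbw])
      apply Subtype.ext
      change c = b * a⁻¹
      rw [eq_mul_inv_iff_mul_eq, ← inv_mul_eq_one, ← inv_eq_one]
      simpa [mul_assoc] using this
  refine ⟨?_, huniq⟩
  have hbij : Function.Bijective (fun h : Subgroup.closure S =>
      (⟨((h : GeneralLinearGroup (Fin 2) (ZMod p)) : Matrix (Fin 2) (Fin 2) (ZMod p)) *ᵥ ![1, 0],
        hne _ _ he1⟩ : {w : Fin 2 → ZMod p // w ≠ 0})) := by
    constructor
    · intro h h' hh
      exact (huniq _ _ he1 (hne _ _ he1)).unique (congrArg Subtype.val hh) rfl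
    · rintro ⟨w, hw⟩
      obtain ⟨h, hh, -⟩ := huniq _ _ he1 hw
      exact ⟨h, Subtype.ext hh⟩
  rw [Nat.card_eq_of_bijective _ hbij, Nat.card_eq_fintype_card, Fintype.card_subtype_compl,
    Fintype.card_subtype_eq]
  simp [ZMod.card]

end CL.Perm.RegCert
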