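import Cfsg.Agent.Base

/-!
Homomorphisms onto non-abelian simple groups: kernels are "prime" normal subgroups; finitely many
such maps with distinct kernels are jointly surjective (Scott's lemma on subdirect products).
-/

set_option autoImplicit false

namespace CL.Perm

open Subgroup

variable {X T : Type*} [Group X] [Group T]

/-- The image of a normal subgroup under a map onto a simple group is trivial or everything. -/
theorem le_ker_or_map_eq_top [IsSimpleGroup T] (π : X →* T) (hπ : Function.Surjective π)
    (A : Subgroup X) [hA : A.Normal] : A ≤ π.ker ∨ A.map π = ⊤ :=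
  ((hA.map π hπ).eq_bot_or_eq_top).imp_left fun h => (Subgroup.map_eq_bot_iff _).mp h

/-- The kernel of a map onto a non-abelian simple group is a prime normal subgroup. -/
theorem le_ker_or_le_ker_of_inf_le [IsSimpleGroup T] (hT : ¬ IsMulCommutative T) (π : X →* T)
    (hπ : Function.Surjective π) {A B : Subgroup X} [hA : A.Normal] [hB : B.Normal]
    (h : A ⊓ B ≤ π.ker) : A ≤ π.ker ∨ B ≤ π.ker := by
  rcases le_ker_or_map_eq_top π hπ A with h1 | h1
  · exact Or.inl h1
  rcases le_ker_or_map_eq_top π hπ B with h2 | h2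
  · exact Or.inr h2
  exfalso
  apply hT
  refine ⟨⟨fun s t => ?_⟩⟩
  obtain ⟨a, ha, rfl⟩ : s ∈ A.map π := by rw [h1]; trivial
  obtain ⟨b, hb, rfl⟩ : t ∈ B.map π := by rw [h2]; trivial
  have h3 : a * b * a⁻¹ * b⁻¹ ∈ π.ker := by
    apply h
    refine ⟨?_, B.mul_mem (hB.conj_mem b hb a) (B.inv_mem hb)⟩
    have := A.mul_mem ha (hA.conj_mem _ (A.inv_mem ha) b)
    simpa [mul_assoc] using this
  rw [MonoidHom.mem_ker] at h3
  simp only [map_mul, map_inv] at h3
  rw [mul_inv_eq_one, mul_inv_eq_iff_eq_mul] at h3
  exact h3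

theorem ker_ne_top_of_surjective [Nontrivial T] (π : X →* T) (hπ : Function.Surjective π) :
    π.ker ≠ ⊤ := by
  intro h
  obtain ⟨t, ht⟩ := exists_ne (1 : T)
  obtain ⟨x, rfl⟩ := hπ t
  have : x ∈ π.ker := by rw [h]; trivial
  exact ht this

theorem exists_le_ker_of_biInf_le [IsSimpleGroup T] (hT : ¬ IsMulCommutative T) (π : X →* T)
    (hπ : Function.Surjective π) {ι : Type*} (s : Finset ι) (A : ι → Subgroup X)
    (hA : ∀ i, (A i).Normal) (h : ∀ x, (∀ i ∈ s, x ∈ A i) → x ∈ π.ker) :
    ∃ i ∈ s, A i ≤ π.ker := by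
  classical
  induction s using Finset.induction_on with
  | empty => exact absurd (eq_top_iff.mpr fun x _ => h x (by simp)) (ker_ne_top_of_surjective π hπ)
  | insert i s _ ih =>
    have hn : (⨅ j : s, A j).Normal := Subgroup.normal_iInf_normal fun j => hA j
    have := hA i
    rcases le_ker_or_le_ker_of_inf_le hT π hπ (A := A i) (B := ⨅ j : s, A j) (by
      rintro x ⟨hx1, hx2⟩
      apply h
      intro j hj
      rcases Finset.mem_insert.mp hj with rfl | hj
      · exact hx1
      · exact (Subgroup.mem_iInf.mp hx2) ⟨j, hj⟩) with h1 | h1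
    · exact ⟨i, Finset.mem_insert_self _ _, h1⟩
    · obtain ⟨j, hj, hj'⟩ := ih fun x hx => h1 (Subgroup.mem_iInf.mpr fun j => hx j j.2)
      exact ⟨j, Finset.mem_insert_of_mem hj, hj'⟩

/-- Kernels of maps onto simple groups are maximal. -/
theorem ker_eq_of_ker_le [IsSimpleGroup T] {T' : Type*} [Group T'] [Nontrivial T']
    (π : X →* T) (hπ : Function.Surjective π) (π' : X →* T') (hπ' : Function.Surjective π')
    (h : π.ker ≤ π'.ker) : π.ker = π'.ker := by
  rcases le_ker_or_map_eq_top π hπ π'.ker with h1 | h1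
  · exact le_antisymm h h1
  · exfalso
    apply ker_ne_top_of_surjective π' hπ'
    have := Subgroup.comap_map_eq π π'.ker
    rw [h1, comap_top, sup_eq_left.mpr h] at this
    exact this.symm

/-- Finitely many maps onto a non-abelian simple group with distinct kernels are jointly
surjective. -/
theorem exists_forall_apply_eq [IsSimpleGroup T] (hT : ¬ IsMulCommutative T) {ι : Type*}
    (π : ι → X →* T) (hπ : ∀ i, Function.Surjective (π i)) (s : Finset ι)
    (hd : ∀ i ∈ s, ∀ j ∈ s, (π i).ker = (π j).ker → i = j) (t : ι → T) :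
    ∃ x, ∀ i ∈ s, π i x = t i := by
  classical
  induction s using Finset.induction_on with
  | empty => exact ⟨1, by simp⟩
  | insert i s hi ih =>
    obtain ⟨x, hx⟩ := ih fun a ha b hb =>
      hd a (Finset.mem_insert_of_mem ha) b (Finset.mem_insert_of_mem hb)
    have hn : (⨅ j : s, (π j).ker).Normal := Subgroup.normal_iInf_normal fun j => inferInstance
    rcases le_ker_or_map_eq_top (π i) (hπ i) (⨅ j : s, (π j).ker) with h1 | h1
    · exfalso
      obtain ⟨j, hj, hj'⟩ := exists_le_ker_of_biInf_le hT (π i) (hπ i) s (fun j => (π j).ker)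
        (fun _ => inferInstance) fun y hy => h1 (Subgroup.mem_iInf.mpr fun j => hy j j.2)
      have := hd j (Finset.mem_insert_of_mem hj) i (Finset.mem_insert_self _ _)
        (ker_eq_of_ker_le _ (hπ j) _ (hπ i) hj')
      exact hi (this ▸ hj)
    · obtain ⟨y, hy, hy'⟩ : t i * (π i x)⁻¹ ∈ (⨅ j : s, (π j).ker).map (π i) := by
        rw [h1]; trivial
      refine ⟨y * x, fun j hj => ?_⟩
      rcases Finset.mem_insert.mp hj with rfl | hj
      · rw [map_mul, hy', inv_mul_cancel_right]
      · have : π j y = 1 := (Subgroup.mem_iInf.mp hy) ⟨j, hj⟩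
        rw [map_mul, this, one_mul, hx j hj]

/-- Two surjections with the same kernel differ by an isomorphism. -/
theorem exists_mulEquiv_of_ker_eq {T' : Type*} [Group T'] (π : X →* T)
    (hπ : Function.Surjective π) (π' : X →* T') (hπ' : Function.Surjective π')
    (h : π.ker = π'.ker) : ∃ σ : T ≃* T', ∀ x, σ (π x) = π' x := by
  refine ⟨(QuotientGroup.quotientKerEquivOfSurjective π hπ).symm.trans
    ((QuotientGroup.quotientMulEquivOfEq h).trans
      (QuotientGroup.quotientKerEquivOfSurjective π' hπ')), fun x => ?_⟩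
  have : (QuotientGroup.quotientKerEquivOfSurjective π hπ).symm (π x) = (x : X ⧸ π.ker) := by
    rw [MulEquiv.symm_apply_eq]
    rfl
  rw [MulEquiv.trans_apply, this]
  rfl

section Power

variable {ι : Type*}

/-- The coordinate maps of a group identified with a direct power. -/
def coord (e : X ≃* (ι → T)) (i : ι) : X →* T :=
  (Pi.evalMonoidHom (fun _ : ι => T) i).comp e.toMonoidHom

theorem coord_apply (e : X ≃* (ι → T)) (i : ι) (x : X) : coord e i x = e x i := rfl

theorem coord_surjective (e : X ≃* (ι → T)) (i : ι) : Function.Surjective (coord e i) := by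
  intro t
  exact ⟨e.symm fun _ => t, by simp [coord_apply]⟩

theorem eq_of_ker_coord_eq [Nontrivial T] (e : X ≃* (ι → T)) {i j : ι}
    (h : (coord e i).ker = (coord e j).ker) : i = j := by
  classical
  by_contra hij
  obtain ⟨t, ht⟩ := exists_ne (1 : T)
  have h1 : e.symm (Pi.mulSingle j t) ∈ (coord e i).ker := by
    simp [MonoidHom.mem_ker, coord_apply, hij]
  rw [h] at h1
  apply ht
  simpa [MonoidHom.mem_ker, coord_apply] using h1

/-- Every map from `T ^ ι` onto a non-abelian simple group has the kernel of a coordinate. -/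
theorem exists_ker_eq_ker_coord [Finite ι] [IsSimpleGroup T] (e : X ≃* (ι → T)) {T' : Type*}
    [Group T'] [IsSimpleGroup T'] (hT' : ¬ IsMulCommutative T') (π : X →* T')
    (hπ : Function.Surjective π) : ∃ j, π.ker = (coord e j).ker := by
  have := Fintype.ofFinite ι
  obtain ⟨j, -, hj⟩ := exists_le_ker_of_biInf_le hT' π hπ Finset.univ (fun j => (coord e j).ker)
    (fun _ => inferInstance) (by
      intro x hx
      have : x = 1 := by
        apply e.injective
        ext i
        rw [map_one]
        exact hx i (Finset.mem_univ _)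
      rw [this]
      exact one_mem _)
  exact ⟨j, (ker_eq_of_ker_le _ (coord_surjective e j) _ hπ hj).symm⟩

end Power

end CL.Perm
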