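import Cfsg.Agent.Base

/-!
Characteristically simple finite groups are powers of a simple group; in particular minimal
normal subgroups of finite groups are.
-/

set_option autoImplicit false

namespace CL.Perm

open Subgroup

variable {K : Type*} [Group K]

/-- One step of the construction of a direct power inside `K`. -/
theorem exists_injective_pi_succ {T : Type*} [Group T] {m : ℕ} (φ : (Fin m → T) →* K)
    (hφ : Function.Injective φ) [φ.range.Normal] (ψ : T →* K) (hψ : Function.Injective ψ)
    [ψ.range.Normal] (hd : Disjoint ψ.range φ.range) :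
    ∃ φ' : (Fin (m + 1) → T) →* K, Function.Injective φ' ∧ φ'.range = ψ.range ⊔ φ.range := by
  have hc : ∀ t f, Commute (ψ t) (φ f) := fun t f =>
    Subgroup.commute_of_normal_of_disjoint _ _ inferInstance inferInstance hd _ _
      ⟨t, rfl⟩ ⟨f, rfl⟩
  let s : (Fin (m + 1) → T) →* T × (Fin m → T) :=
    MonoidHom.mk' (fun f => (f 0, fun i => f i.succ)) (fun _ _ => rfl)
  have hs : Function.Bijective s := by
    constructor
    · intro f g h
      have h0 : f 0 = g 0 := congrArg Prod.fst h
      have h1 : (fun i : Fin m => f i.succ) = fun i => g i.succ := congrArg Prod.snd h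
      ext i
      refine Fin.cases h0 (fun j => congrFun h1 j) i
    · rintro ⟨t, f⟩
      exact ⟨Fin.cons t f, rfl⟩
  refine ⟨(ψ.noncommCoprod φ hc).comp s, ?_, ?_⟩
  · rw [MonoidHom.coe_comp]
    exact ((MonoidHom.noncommCoprod_injective _ _ hc).mpr ⟨hψ, hφ, hd⟩).comp hs.1
  · rw [MonoidHom.range_comp, MonoidHom.range_eq_top.mpr hs.2, ← MonoidHom.range_eq_map,
      MonoidHom.noncommCoprod_range]

/-- A finite nontrivial characteristically simple group is a direct power of a simple
subgroup (here: of any nontrivial normal subgroup of least order). -/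
theorem exists_mulEquiv_pi_of_charSimple [Finite K] [Nontrivial K]
    (hK : ∀ L : Subgroup K, L.Characteristic → L = ⊥ ∨ L = ⊤) :
    ∃ (T : Subgroup K) (m : ℕ), T.Normal ∧ IsSimpleGroup T ∧ 0 < m ∧
      Nonempty (K ≃* (Fin m → T)) := by
  obtain ⟨T, ⟨hTn, hT⟩, hmin⟩ := WellFounded.has_min
    (InvImage.wf (fun L : Subgroup K => Nat.card L) wellFounded_lt)
    {L : Subgroup K | L.Normal ∧ L ≠ ⊥} ⟨⊤, inferInstance, top_ne_bot⟩
  have hmin' : ∀ L : Subgroup K, L.Normal → Nat.card L < Nat.card T → L = ⊥ := by
    intro L hL hlt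
    by_contra h
    exact hmin L ⟨hL, h⟩ hlt
  have hTnt : Nontrivial T := (Subgroup.nontrivial_iff_ne_bot T).mpr hT
  -- the images of `T` under automorphisms generate `K`
  have hgen : ∀ R : Subgroup K, (∀ σ : K ≃* K, T.map σ.toMonoidHom ≤ R) → R = ⊤ := by
    intro R hR
    have hch : (⨆ σ : K ≃* K, T.map σ.toMonoidHom).Characteristic := by
      rw [characteristic_iff_map_le]
      intro τ
      rw [Subgroup.map_iSup]
      refine iSup_le fun σ => ?_
      rw [Subgroup.map_map]
      exact le_iSup (fun σ : K ≃* K => T.map σ.toMonoidHom) (σ.trans τ)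
    rcases hK _ hch with h | h
    · exfalso
      apply hT
      have := le_iSup (fun σ : K ≃* K => T.map σ.toMonoidHom) (MulEquiv.refl K)
      rw [h, le_bot_iff] at this
      simpa using this
    · rw [eq_top_iff, ← h]
      exact iSup_le hR
  have key : ∀ m : ℕ, (∃ (m' : ℕ) (φ : (Fin m' → T) →* K), Function.Bijective φ) ∨
      ∃ φ : (Fin m → T) →* K, Function.Injective φ ∧ φ.range.Normal := by
    intro m
    induction m with
    | zero =>
      right
      refine ⟨1, fun _ _ _ => Subsingleton.elim _ _, ?_⟩
      rw [MonoidHom.range_one]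
      infer_instance
    | succ m ih =>
      rcases ih with h | ⟨φ, hφ, hn⟩
      · exact Or.inl h
      by_cases htop : φ.range = ⊤
      · exact Or.inl ⟨m, φ, hφ, MonoidHom.range_eq_top.mp htop⟩
      right
      obtain ⟨σ, hσ⟩ : ∃ σ : K ≃* K, ¬ T.map σ.toMonoidHom ≤ φ.range := by
        by_contra h
        push Not at h
        exact htop (hgen _ h)
      let ψ : T →* K := σ.toMonoidHom.comp T.subtype
      have hψ : Function.Injective ψ := σ.injective.comp T.subtype_injective
      have hψr : ψ.range = T.map σ.toMonoidHom := by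
        rw [MonoidHom.range_comp, Subgroup.range_subtype]
      have hψn : ψ.range.Normal := by
        rw [hψr]
        exact hTn.map _ σ.surjective
      have hd : Disjoint ψ.range φ.range := by
        rw [disjoint_iff]
        apply hmin' _ inferInstance
        have hc : Nat.card ψ.range = Nat.card T := (Nat.card_congr (MonoidHom.ofInjective hψ).toEquiv).symm
        rw [← hc]
        have hlt : ψ.range ⊓ φ.range < ψ.range := by
          refine lt_of_le_of_ne inf_le_left fun h => hσ ?_
          rw [← hψr, ← h]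
          exact inf_le_right
        exact lt_of_le_of_ne (Subgroup.card_le_of_le hlt.le)
          fun h => hlt.ne (Subgroup.eq_of_le_of_card_ge hlt.le h.ge)
      obtain ⟨φ', h1, h2⟩ := exists_injective_pi_succ φ hφ ψ hψ hd
      refine ⟨φ', h1, ?_⟩
      rw [h2]
      infer_instance
  obtain ⟨m, φ, hφ⟩ : ∃ (m' : ℕ) (φ : (Fin m' → T) →* K), Function.Bijective φ := by
    rcases key (Nat.card K) with h | ⟨φ, hφ, -⟩
    · exact h
    · exfalso
      have h1 := Nat.card_le_card_of_injective φ hφ
      rw [Nat.card_fun, Nat.card_eq_fintype_card (α := Fin _), Fintype.card_fin] at h1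
      have h2 : 1 < Nat.card T := Finite.one_lt_card
      exact absurd h1 (not_le.mpr (Nat.lt_pow_self h2))
  let e : (Fin m → T) ≃* K := MulEquiv.ofBijective φ hφ
  have hm : 0 < m := by
    rcases Nat.eq_zero_or_pos m with rfl | h
    · exfalso
      have : Subsingleton K := e.symm.injective.subsingleton
      exact false_of_nontrivial_of_subsingleton K
    · exact h
  refine ⟨T, m, hTn, ⟨fun L hL => ?_⟩, hm, ⟨e.symm⟩⟩
  by_cases hLt : L = ⊤
  · exact Or.inr hLt
  left
  let i : Fin m := ⟨0, hm⟩
  let ι : T →* K := φ.comp (MonoidHom.mulSingle (fun _ : Fin m => T) i)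
  have hι : Function.Injective ι := hφ.1.comp (Pi.mulSingle_injective (M := fun _ : Fin m => T) i)
  have hn1 : (L.map (MonoidHom.mulSingle (fun _ : Fin m => T) i)).Normal := by
    constructor
    rintro _ ⟨l, hl, rfl⟩ g
    refine ⟨g i * l * (g i)⁻¹, hL.conj_mem l hl _, ?_⟩
    ext1 j
    by_cases hj : j = i
    · subst hj
      simp
    · simp [hj]
  have hn2 : (L.map ι).Normal := by
    rw [← Subgroup.map_map]
    exact hn1.map _ hφ.2
  have hbot : L.map ι = ⊥ := by
    apply hmin' _ hn2
    rw [Subgroup.card_map_of_injective hι]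
    have := lt_top_iff_ne_top.mpr hLt
    refine lt_of_le_of_ne (Nat.card_le_card_of_injective _ L.subtype_injective) fun h => hLt ?_
    exact Subgroup.eq_top_of_card_eq L h
  exact (Subgroup.map_eq_bot_iff_of_injective _ hι).mp hbot

/-- A minimal normal subgroup is characteristically simple. -/
theorem charSimple_of_minimal_normal {H : Type*} [Group H] (N : Subgroup H) [N.Normal]
    (hmin : ∀ M : Subgroup H, M.Normal → M ≤ N → M = ⊥ ∨ M = N) (L : Subgroup N)
    (hL : L.Characteristic) : L = ⊥ ∨ L = ⊤ := by
  rcases hmin (L.map N.subtype) inferInstance (map_subtype_le L) with h | h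
  · exact Or.inl ((Subgroup.map_eq_bot_iff_of_injective _ N.subtype_injective).mp h)
  · right
    rw [eq_top_iff]
    intro x _
    have : (x : H) ∈ L.map N.subtype := by rw [h]; exact x.2
    obtain ⟨y, hy, hxy⟩ := this
    rwa [← Subtype.ext hxy]

/-- A finite minimal normal subgroup is a direct power of a simple group (in `Type`). -/
theorem exists_mulEquiv_pi_of_minimal_normal {H : Type*} [Group H] (N : Subgroup H) [N.Normal]
    [Finite N] (hN : N ≠ ⊥) (hmin : ∀ M : Subgroup H, M.Normal → M ≤ N → M = ⊥ ∨ M = N) :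
    ∃ (T : Type) (_ : Group T) (m : ℕ), IsSimpleGroup T ∧ 0 < m ∧
      Nonempty (N ≃* (Fin m → T)) := by
  have : Nontrivial N := (Subgroup.nontrivial_iff_ne_bot N).mpr hN
  obtain ⟨T, m, -, hT, hm, ⟨e⟩⟩ :=
    exists_mulEquiv_pi_of_charSimple (charSimple_of_minimal_normal N hmin)
  refine ⟨Shrink.{0} T, inferInstance, m, ?_, hm,
    ⟨e.trans (MulEquiv.piCongrRight fun _ => (Shrink.mulEquiv).symm)⟩⟩
  exact (Shrink.mulEquiv.{0} (α := T)).isSimpleGroup

end CL.Perm
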