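import Cfsg.Agent.Base

/-!
# Concrete descriptions of 3- and 4-transitivity
-/

set_option autoImplicit false

namespace CL.Perm

open MulAction

variable {G α : Type*} [Group G] [MulAction G α]

/-- The embedding `Fin 3 ↪ α` given by three distinct points. -/
def embThree {a b c : α} (hab : a ≠ b) (hac : a ≠ c) (hbc : b ≠ c) : Fin 3 ↪ α :=
  ⟨![a, b, c], by
    intro i j h
    fin_cases i <;> fin_cases j <;> simp_all [eq_comm]⟩

/-- The embedding `Fin 4 ↪ α` given by four distinct points. -/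
def embFour {a b c d : α} (hab : a ≠ b) (hac : a ≠ c) (had : a ≠ d) (hbc : b ≠ c) (hbd : b ≠ d)
    (hcd : c ≠ d) : Fin 4 ↪ α :=
  ⟨![a, b, c, d], by
    intro i j h
    fin_cases i <;> fin_cases j <;> simp_all [eq_comm]⟩

theorem three_pretransitive_iff :
    IsMultiplyPretransitive G α 3 ↔
      ∀ a b c a' b' c' : α, a ≠ b → a ≠ c → b ≠ c → a' ≠ b' → a' ≠ c' → b' ≠ c' →
        ∃ g : G, g • a = a' ∧ g • b = b' ∧ g • c = c' := by
  constructor
  · intro _ a b c a' b' c' h1 h2 h3 h4 h5 h6
    obtain ⟨g, hg⟩ := exists_smul_eq G (embThree h1 h2 h3) (embThree h4 h5 h6)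
    exact ⟨g, DFunLike.congr_fun hg 0, DFunLike.congr_fun hg 1, DFunLike.congr_fun hg 2⟩
  · intro H
    constructor
    intro x y
    obtain ⟨g, h0, h1, h2⟩ := H (x 0) (x 1) (x 2) (y 0) (y 1) (y 2)
      (x.injective.ne (by decide)) (x.injective.ne (by decide)) (x.injective.ne (by decide))
      (y.injective.ne (by decide)) (y.injective.ne (by decide)) (y.injective.ne (by decide))
    refine ⟨g, ?_⟩
    ext i
    fin_cases i
    exacts [h0, h1, h2]

/-- To prove 3-transitivity it suffices to reach every triple from one base triple. -/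
theorem three_pretransitive_of_base (a b c : α)
    (H : ∀ x y z : α, x ≠ y → x ≠ z → y ≠ z → ∃ g : G, g • a = x ∧ g • b = y ∧ g • c = z) :
    IsMultiplyPretransitive G α 3 := by
  rw [three_pretransitive_iff]
  intro x y z x' y' z' h1 h2 h3 h4 h5 h6
  obtain ⟨g, g1, g2, g3⟩ := H x y z h1 h2 h3
  obtain ⟨g', g1', g2', g3'⟩ := H x' y' z' h4 h5 h6
  refine ⟨g' * g⁻¹, ?_, ?_, ?_⟩
  · rw [mul_smul, ← g1, inv_smul_smul, g1']
  · rw [mul_smul, ← g2, inv_smul_smul, g2']
  · rw [mul_smul, ← g3, inv_smul_smul, g3']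

theorem four_pretransitive_iff :
    IsMultiplyPretransitive G α 4 ↔
      ∀ a b c d a' b' c' d' : α, a ≠ b → a ≠ c → a ≠ d → b ≠ c → b ≠ d → c ≠ d →
        a' ≠ b' → a' ≠ c' → a' ≠ d' → b' ≠ c' → b' ≠ d' → c' ≠ d' →
        ∃ g : G, g • a = a' ∧ g • b = b' ∧ g • c = c' ∧ g • d = d' := by
  constructor
  · intro _ a b c d a' b' c' d' h1 h2 h3 h4 h5 h6 k1 k2 k3 k4 k5 k6
    obtain ⟨g, hg⟩ := exists_smul_eq G (embFour h1 h2 h3 h4 h5 h6) (embFour k1 k2 k3 k4 k5 k6)
    exact ⟨g, DFunLike.congr_fun hg 0, DFunLike.congr_fun hg 1, DFunLike.congr_fun hg 2,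
      DFunLike.congr_fun hg 3⟩
  · intro H
    constructor
    intro x y
    obtain ⟨g, h0, h1, h2, h3⟩ := H (x 0) (x 1) (x 2) (x 3) (y 0) (y 1) (y 2) (y 3)
      (x.injective.ne (by decide)) (x.injective.ne (by decide)) (x.injective.ne (by decide))
      (x.injective.ne (by decide)) (x.injective.ne (by decide)) (x.injective.ne (by decide))
      (y.injective.ne (by decide)) (y.injective.ne (by decide)) (y.injective.ne (by decide))
      (y.injective.ne (by decide)) (y.injective.ne (by decide)) (y.injective.ne (by decide))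
    refine ⟨g, ?_⟩
    ext i
    fin_cases i
    exacts [h0, h1, h2, h3]

/-- The order of a `k`-transitive group is divisible by `n (n-1) ⋯ (n-k+1)`. -/
theorem descFactorial_dvd_card [Finite α] (k : ℕ) (hk : k ≤ Nat.card α)
    [IsMultiplyPretransitive G α k] : (Nat.card α).descFactorial k ∣ Nat.card G := by
  classical
  have := Fintype.ofFinite α
  have hne : Nonempty (Fin k ↪ α) := by
    rw [Function.Embedding.nonempty_iff_card_le, Fintype.card_fin, ← Nat.card_eq_fintype_card]
    exact hk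
  obtain ⟨x⟩ := hne
  have h1 := index_stabilizer_of_transitive G x
  rw [Nat.card_eq_fintype_card, Fintype.card_embedding_eq, Fintype.card_fin,
    ← Nat.card_eq_fintype_card] at h1
  rw [← h1]
  exact Subgroup.index_dvd_card _

end CL.Perm
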