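import Cfsg.Agent.Base

/-!
# Two-block circulant matrices (for Wielandt's theorem on groups of degree `2p`)

Matrices over `ℚ` on a set identified with `Fin 2 × ZMod p` that are invariant under the
simultaneous translation, and their Fourier transforms.
-/

set_option autoImplicit false

namespace CL.Perm.TwoP

open Matrix

variable {p : ℕ} [hp : Fact p.Prime]

/-- Fourier transform of a rational function on `ZMod p` at an additive character. -/
noncomputable def hat {R : Type*} [CommRing R] [Algebra ℚ R] (ψ : AddChar (ZMod p) R)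
    (f : ZMod p → ℚ) : R := ∑ d, f d • ψ d

section hat

variable {R : Type*} [CommRing R] [Algebra ℚ R] (ψ : AddChar (ZMod p) R)

theorem hat_add (f g : ZMod p → ℚ) : hat ψ (fun d => f d + g d) = hat ψ f + hat ψ g := by
  simp only [hat, add_smul, Finset.sum_add_distrib]

theorem hat_sub (f g : ZMod p → ℚ) : hat ψ (fun d => f d - g d) = hat ψ f - hat ψ g := by
  simp only [hat, sub_smul, Finset.sum_sub_distrib]

theorem hat_mul (c : ℚ) (f : ZMod p → ℚ) :
    hat ψ (fun d => c * f d) = algebraMap ℚ R c * hat ψ f := by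
  simp only [hat, mul_smul, ← Algebra.smul_def, Finset.smul_sum]

theorem hat_delta (c : ℚ) : hat ψ (fun d => if d = 0 then c else 0) = algebraMap ℚ R c := by
  simp [hat, Algebra.algebraMap_eq_smul_one]

theorem hat_conv (f g : ZMod p → ℚ) :
    hat ψ (fun d => ∑ d', f d' * g (d - d')) = hat ψ f * hat ψ g := by
  simp only [hat, Finset.sum_smul, Finset.sum_mul_sum]
  rw [Finset.sum_comm]
  refine Finset.sum_congr rfl fun d' _ => ?_
  rw [← Equiv.sum_comp (Equiv.addLeft d')]
  refine Finset.sum_congr rfl fun d _ => ?_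
  simp only [Equiv.coe_addLeft, add_sub_cancel_left, AddChar.map_add_eq_mul, smul_mul_smul_comm]

end hat

theorem hat_one (f : ZMod p → ℚ) : hat (1 : AddChar (ZMod p) ℚ) f = ∑ d, f d := by
  simp [hat]

/-- There is a complex character whose Fourier transform kills only the constant functions. -/
theorem exists_addChar : ∃ ψ : AddChar (ZMod p) ℂ, ∀ f : ZMod p → ℚ, hat ψ f = 0 →
    ∀ d d', f d = f d' := by
  have hζ := Complex.isPrimitiveRoot_exp p hp.out.ne_zero
  refine ⟨AddChar.zmodChar p hζ.pow_eq_one, fun f hf => ?_⟩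
  simp only [hat, AddChar.zmodChar_apply, Rat.smul_def] at hf
  obtain ⟨n, rfl⟩ : ∃ n, p = n + 1 := ⟨p - 1, by have := hp.out.pos; omega⟩
  exact (hζ.sum_eq_zero_iff_forall_eq hp.out f).1 hf

theorem eq_const_of_sum {f : ZMod p → ℚ} (h : ∀ d d', f d = f d') (d : ZMod p) :
    (p : ℚ) * f d = ∑ x, f x := by
  rw [Finset.sum_congr rfl fun x _ => h x d]
  simp [ZMod.card]

variable {α : Type*} [Fintype α] (e : Fin 2 × ZMod p ≃ α)

/-- Invariance under simultaneous translation. -/
def TInv (M : Matrix α α ℚ) : Prop :=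
  ∀ i j x y, M (e (i, x)) (e (j, y)) = M (e (i, 0)) (e (j, y - x))

/-- The `(i, j)` block of a circulant matrix as a function on `ZMod p`. -/
def blk (M : Matrix α α ℚ) (i j : Fin 2) (d : ZMod p) : ℚ := M (e (i, 0)) (e (j, d))

/-- The sign vector of the partition into the two blocks. -/
def sg (x : α) : ℚ := if (e.symm x).1 = 0 then 1 else -1

omit [Fintype α] in
theorem sg_zero (x : ZMod p) : sg e (e (0, x)) = 1 := by simp [sg]

omit [Fintype α] in
theorem sg_one (x : ZMod p) : sg e (e (1, x)) = -1 := by simp [sg]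

omit [Fintype α] in
theorem sg_mul_self (x : α) : sg e x * sg e x = 1 := by
  unfold sg; split_ifs <;> simp

theorem sum_eq (f : α → ℚ) : ∑ z, f z = ∑ d, f (e (0, d)) + ∑ d, f (e (1, d)) := by
  rw [← Equiv.sum_comp e, Fintype.sum_prod_type, Fin.sum_univ_two]

variable {e}

omit [Fintype α] in
theorem TInv.transpose {M : Matrix α α ℚ} (h : TInv e M) : TInv e Mᵀ := by
  intro i j x y
  rw [transpose_apply, transpose_apply, h, h j i (y - x)]
  congr 3
  ring

theorem hat_blk_mul {R : Type*} [CommRing R] [Algebra ℚ R] (ψ : AddChar (ZMod p) R)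
    (M : Matrix α α ℚ) {N : Matrix α α ℚ} (hN : TInv e N) (i j : Fin 2) :
    hat ψ (blk e (M * N) i j) =
      hat ψ (blk e M i 0) * hat ψ (blk e N 0 j) + hat ψ (blk e M i 1) * hat ψ (blk e N 1 j) := by
  rw [← hat_conv, ← hat_conv, ← hat_add]
  congr 1
  funext d
  simp only [blk, Matrix.mul_apply, sum_eq e]
  congr 1 <;> exact Finset.sum_congr rfl fun x _ => by rw [hN]

omit [Fintype α] in
theorem hat_blk_smul {R : Type*} [CommRing R] [Algebra ℚ R] (ψ : AddChar (ZMod p) R) (c : ℚ)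
    (M : Matrix α α ℚ) (i j : Fin 2) :
    hat ψ (blk e (c • M) i j) = algebraMap ℚ R c * hat ψ (blk e M i j) := hat_mul ψ c _

/-- Block sums of a matrix with row sums `n` and `A v = a v`. -/
theorem blk_sums {A : Matrix α α ℚ} {n a : ℚ} (hn : ∀ x, ∑ y, A x y = n)
    (ha : ∀ x, ∑ y, A x y * sg e y = a * sg e x) :
    ∑ d, blk e A 0 0 d = (n + a) / 2 ∧ ∑ d, blk e A 0 1 d = (n - a) / 2 ∧
      ∑ d, blk e A 1 0 d = (n - a) / 2 ∧ ∑ d, blk e A 1 1 d = (n + a) / 2 := by
  have h1 := hn (e (0, 0))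
  have h2 := hn (e (1, 0))
  have h3 := ha (e (0, 0))
  have h4 := ha (e (1, 0))
  simp only [sum_eq e, sg_zero, sg_one, mul_one, mul_neg, Finset.sum_neg_distrib] at h1 h2 h3 h4
  simp only [blk]
  refine ⟨?_, ?_, ?_, ?_⟩ <;> linarith

/-- Trichotomy for a circulant idempotent `E` with `E v = v`, `E 1 = 0`. -/
theorem trichotomy [DecidableEq α] {E : Matrix α α ℚ} (hE : TInv e E) (hEE : E * E = E)
    (h1 : ∀ x, ∑ y, E x y = 0) (hv : ∀ x, ∑ y, E x y * sg e y = sg e x) :
    (∀ x y, E x y = sg e x * sg e y / (2 * p)) ∨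
    (∀ x y, E x y = (if x = y then 1 else 0) - 1 / (2 * p)) ∨
    (∀ d, blk e E 0 0 d + blk e E 1 1 d = if d = 0 then 1 else 0) := by
  obtain ⟨ψ, hψ⟩ := exists_addChar (p := p)
  have hp0 : (p : ℚ) ≠ 0 := Nat.cast_ne_zero.2 hp.out.ne_zero
  obtain ⟨s00, s01, s10, s11⟩ := blk_sums (e := e) (a := 1) h1 (by simpa using hv)
  have q := fun i j => hat_blk_mul ψ E hE i j
  rw [hEE] at q
  have q00 := q 0 0
  have q01 := q 0 1
  have q10 := q 1 0
  have q11 := q 1 1
  have hred : ∀ F : α → α → ℚ, (∀ i j x y, F (e (i, x)) (e (j, y)) = F (e (i, 0)) (e (j, y - x))) →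
      (∀ i j d, blk e E i j d = F (e (i, 0)) (e (j, d))) → ∀ x y, E x y = F x y := by
    intro F hF h x y
    obtain ⟨⟨i, x⟩, rfl⟩ := e.surjective x
    obtain ⟨⟨j, y⟩, rfl⟩ := e.surjective y
    rw [hE, hF]
    exact h i j _
  by_cases ht : hat ψ (blk e E 0 0) + hat ψ (blk e E 1 1) = 1
  · right; right
    intro d
    have h0 : hat ψ (fun d => (blk e E 0 0 d + blk e E 1 1 d) - if d = 0 then 1 else 0) = 0 := by
      rw [hat_sub, hat_add, hat_delta, ht]; simp
    have := eq_const_of_sum (hψ _ h0) d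
    simp only [Finset.sum_sub_distrib, Finset.sum_add_distrib, s00, s11, Finset.sum_ite_eq',
      Finset.mem_univ, if_true] at this
    have h2 : (p : ℚ) * (blk e E 0 0 d + blk e E 1 1 d - if d = 0 then 1 else 0) = 0 := by
      rw [this]; norm_num
    exact sub_eq_zero.1 ((mul_eq_zero.1 h2).resolve_left hp0)
  have ht' : hat ψ (blk e E 0 0) + hat ψ (blk e E 1 1) - 1 ≠ 0 := sub_ne_zero.2 ht
  have z01 : hat ψ (blk e E 0 1) = 0 := by
    apply (mul_eq_zero.1 (_ : _ * (hat ψ (blk e E 0 0) + hat ψ (blk e E 1 1) - 1) = 0)).resolve_right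
      ht'
    linear_combination -q01
  have z10 : hat ψ (blk e E 1 0) = 0 := by
    apply (mul_eq_zero.1 (_ : _ * (hat ψ (blk e E 0 0) + hat ψ (blk e E 1 1) - 1) = 0)).resolve_right
      ht'
    linear_combination -q10
  have c01 := fun d => (eq_const_of_sum (hψ _ z01) d).trans s01
  have c10 := fun d => (eq_const_of_sum (hψ _ z10) d).trans s10
  rw [z01, zero_mul, add_zero] at q00
  rw [z10, zero_mul, zero_add] at q11
  have r00 : hat ψ (blk e E 0 0) = 0 ∨ hat ψ (blk e E 0 0) = 1 := by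
    rcases eq_or_ne (hat ψ (blk e E 0 0)) 0 with h | h
    · exact Or.inl h
    · exact Or.inr (mul_left_cancel₀ h (by rw [← q00, mul_one]))
  have r11 : hat ψ (blk e E 1 1) = 0 ∨ hat ψ (blk e E 1 1) = 1 := by
    rcases eq_or_ne (hat ψ (blk e E 1 1)) 0 with h | h
    · exact Or.inl h
    · exact Or.inr (mul_left_cancel₀ h (by rw [← q11, mul_one]))
  rcases r00 with r00 | r00 <;> rcases r11 with r11 | r11
  · left
    have c00 := fun d => (eq_const_of_sum (hψ _ r00) d).trans s00
    have c11 := fun d => (eq_const_of_sum (hψ _ r11) d).trans s11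
    apply hred (fun x y => sg e x * sg e y / (2 * p)) (by intro i j x y; simp [sg])
    intro i j d
    fin_cases i <;> fin_cases j <;> simp only [Fin.zero_eta, Fin.mk_one, sg_zero, sg_one] <;>
      field_simp
    · linear_combination 2 * c00 d
    · linear_combination 2 * c01 d
    · linear_combination 2 * c10 d
    · linear_combination 2 * c11 d
  · exact absurd (by rw [r00, r11, zero_add]) ht
  · exact absurd (by rw [r00, r11, add_zero]) ht
  · right; left
    have k00 : hat ψ (fun d => blk e E 0 0 d - if d = 0 then 1 else 0) = 0 := by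
      rw [hat_sub, hat_delta, r00]; simp
    have k11 : hat ψ (fun d => blk e E 1 1 d - if d = 0 then 1 else 0) = 0 := by
      rw [hat_sub, hat_delta, r11]; simp
    have c00 := fun d => eq_const_of_sum (hψ _ k00) d
    have c11 := fun d => eq_const_of_sum (hψ _ k11) d
    simp only [Finset.sum_sub_distrib, s00, s11, Finset.sum_ite_eq', Finset.mem_univ,
      if_true] at c00 c11
    apply hred (fun x y => (if x = y then 1 else 0) - 1 / (2 * p)) (by
      intro i j x y
      simp only [EmbeddingLike.apply_eq_iff_eq, Prod.mk.injEq, eq_comm (a := (0 : ZMod p)),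
        sub_eq_zero, eq_comm (a := x)])
    intro i j d
    fin_cases i <;> fin_cases j <;>
      simp only [Fin.zero_eta, Fin.mk_one, EmbeddingLike.apply_eq_iff_eq, Prod.mk.injEq, true_and,
        zero_ne_one, one_ne_zero, false_and, if_false, eq_comm (a := (0 : ZMod p))] <;>
      field_simp
    · linear_combination 2 * c00 d
    · linear_combination 2 * c01 d
    · linear_combination 2 * c10 d
    · linear_combination 2 * c11 d

/-- The `2 × 2` computation: if `E` has trace one and `A E = a E = E A`, then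
`A = a E + (tr A - a)(1 - E)`. -/
theorem two_by_two {R : Type*} [CommRing R] {e00 e01 e10 e11 a00 a01 a10 a11 a : R}
    (ht : e00 + e11 = 1)
    (l00 : a00 * e00 + a01 * e10 = a * e00) (l01 : a00 * e01 + a01 * e11 = a * e01)
    (l10 : a10 * e00 + a11 * e10 = a * e10) (l11 : a10 * e01 + a11 * e11 = a * e11)
    (r00 : e00 * a00 + e01 * a10 = a * e00) (r01 : e00 * a01 + e01 * a11 = a * e01)
    (r10 : e10 * a00 + e11 * a10 = a * e10) (r11 : e10 * a01 + e11 * a11 = a * e11) :
    a00 = a * e00 + (a00 + a11 - a) * e11 ∧ a01 = a * e01 - (a00 + a11 - a) * e01 ∧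
    a10 = a * e10 - (a00 + a11 - a) * e10 ∧ a11 = a * e11 + (a00 + a11 - a) * e00 := by
  refine ⟨?_, ?_, ?_, ?_⟩
  · linear_combination l00 - r11 - a00 * ht
  · linear_combination l01 + r01 - a01 * ht
  · linear_combination l10 + r10 - a10 * ht
  · linear_combination l11 - r00 - a11 * ht

theorem hat_decomp {ψ : AddChar (ZMod p) ℂ} {E A : Matrix α α ℚ} (hE : TInv e E) (hA : TInv e A)
    {a : ℚ} (hAE : A * E = a • E) (hEA : E * A = a • E)
    (ht : hat ψ (blk e E 0 0) + hat ψ (blk e E 1 1) = 1) :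
    hat ψ (blk e A 0 0) = a * hat ψ (blk e E 0 0) +
      (hat ψ (blk e A 0 0) + hat ψ (blk e A 1 1) - a) * hat ψ (blk e E 1 1) ∧
    hat ψ (blk e A 0 1) = a * hat ψ (blk e E 0 1) -
      (hat ψ (blk e A 0 0) + hat ψ (blk e A 1 1) - a) * hat ψ (blk e E 0 1) ∧
    hat ψ (blk e A 1 0) = a * hat ψ (blk e E 1 0) -
      (hat ψ (blk e A 0 0) + hat ψ (blk e A 1 1) - a) * hat ψ (blk e E 1 0) ∧
    hat ψ (blk e A 1 1) = a * hat ψ (blk e E 1 1) +
      (hat ψ (blk e A 0 0) + hat ψ (blk e A 1 1) - a) * hat ψ (blk e E 0 0) := by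
  have l := fun i j => hat_blk_mul ψ A hE i j
  have r := fun i j => hat_blk_mul ψ E hA i j
  simp only [hAE, hEA, hat_blk_smul, eq_ratCast] at l r
  exact two_by_two ht (l 0 0).symm (l 0 1).symm (l 1 0).symm (l 1 1).symm
    (r 0 0).symm (r 0 1).symm (r 1 0).symm (r 1 1).symm

/-- The norm identity `2 n = 2 a² + ∑ m(d)²`. -/
theorem norm_identity {E A : Matrix α α ℚ} (hE : TInv e E) (hEE : E * E = E) (hEs : Eᵀ = E)
    (hA : TInv e A) {a n : ℚ} (hAE : A * E = a • E) (hEA : E * A = a • E)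
    (hq : ∀ d, blk e E 0 0 d + blk e E 1 1 d = if d = 0 then 1 else 0)
    (hn : ∀ x, ∑ y, A x y = n) (ha : ∀ x, ∑ y, A x y * sg e y = a * sg e x)
    (hA2 : ∀ x y, A x y * A x y = A x y) (hA0 : ∀ x, A x x = 0) :
    2 * n = 2 * a ^ 2 + ∑ d, (blk e A 0 0 d + blk e A 1 1 d) ^ 2 := by
  obtain ⟨ψ, hψ⟩ := exists_addChar (p := p)
  have hp0 : (p : ℚ) ≠ 0 := Nat.cast_ne_zero.2 hp.out.ne_zero
  have ht : hat ψ (blk e E 0 0) + hat ψ (blk e E 1 1) = 1 := by
    rw [← hat_add, funext hq, hat_delta]; simp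
  have hAE' : Aᵀ * E = a • E := by
    rw [← hEs, ← transpose_mul, hEA, transpose_smul]
  have hEA' : E * Aᵀ = a • E := by
    rw [← hEs, ← transpose_mul, hAE, transpose_smul]
  obtain ⟨x00, x01, x10, x11⟩ := hat_decomp hE hA hAE hEA ht
  obtain ⟨y00, y01, y10, y11⟩ := hat_decomp hE hA.transpose hAE' hEA' ht
  have q00 := hat_blk_mul ψ E hE 0 0
  have q11 := hat_blk_mul ψ E hE 1 1
  rw [hEE] at q00 q11
  have hb : ∀ i j d, blk e Aᵀ i j d = blk e A j i (-d) := by
    intro i j d
    simp only [blk, transpose_apply]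
    rw [hA, zero_sub]
  obtain ⟨s00, s01, s10, s11⟩ := blk_sums (e := e) hn ha
  have hs : ∀ i j, ∑ d, blk e Aᵀ i j d = ∑ d, blk e A j i d := by
    intro i j
    simp only [hb]
    exact Equiv.sum_comp (Equiv.neg (ZMod p)) (blk e A j i)
  let μ : ZMod p → ℚ := fun d => (blk e A 0 0 d + blk e A 1 1 d) - if d = 0 then a else 0
  let μ' : ZMod p → ℚ := fun d => (blk e Aᵀ 0 0 d + blk e Aᵀ 1 1 d) - if d = 0 then a else 0
  let F : ZMod p → ℚ := fun d => ((blk e (A * Aᵀ) 0 0 d + blk e (A * Aᵀ) 1 1 d) -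
    (if d = 0 then a ^ 2 else 0)) - ∑ d', μ d' * μ' (d - d')
  have hF : ∀ {R : Type} [CommRing R] [Algebra ℚ R] (χ : AddChar (ZMod p) R), hat χ F =
      hat χ (blk e A 0 0) * hat χ (blk e Aᵀ 0 0) + hat χ (blk e A 0 1) * hat χ (blk e Aᵀ 1 0) +
      (hat χ (blk e A 1 0) * hat χ (blk e Aᵀ 0 1) + hat χ (blk e A 1 1) * hat χ (blk e Aᵀ 1 1)) -
      algebraMap ℚ R (a ^ 2) - (hat χ (blk e A 0 0) + hat χ (blk e A 1 1) - algebraMap ℚ R a) *
        (hat χ (blk e Aᵀ 0 0) + hat χ (blk e Aᵀ 1 1) - algebraMap ℚ R a) := by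
    intro R _ _ χ
    simp only [F]
    rw [hat_sub, hat_sub, hat_add, hat_delta, hat_conv]
    simp only [μ, μ']
    rw [hat_sub, hat_sub, hat_add, hat_add,
      hat_delta, hat_blk_mul χ A hA.transpose, hat_blk_mul χ A hA.transpose]
  have hF0 : hat ψ F = 0 := by
    rw [hF]
    simp only [eq_ratCast, Rat.cast_pow]
    set r := hat ψ (blk e A 0 0) + hat ψ (blk e A 1 1) - a
    set r' := hat ψ (blk e Aᵀ 0 0) + hat ψ (blk e Aᵀ 1 1) - a
    rw [x00, x01, x10, x11, y00, y01, y10, y11]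
    have hdet : hat ψ (blk e E 0 0) * hat ψ (blk e E 1 1) =
        hat ψ (blk e E 0 1) * hat ψ (blk e E 1 0) := by
      linear_combination q00 + hat ψ (blk e E 0 0) * ht
    linear_combination (-((a : ℂ) ^ 2 + r * r')) * (q00 + q11) + ((a : ℂ) ^ 2 + r * r') * ht +
      2 * (a * r' + a * r) * hdet
  have hF1 : ∑ d, F d = 0 := by
    rw [← hat_one, hF]
    simp only [hat_one, hs, s00, s01, s10, s11, Algebra.algebraMap_self, RingHom.id_apply]
    ring
  have hF2 : F 0 = 0 := by
    have := eq_const_of_sum (hψ _ hF0) 0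
    rw [hF1] at this
    exact (mul_eq_zero.1 this).resolve_left hp0
  have hd : ∀ i, blk e (A * Aᵀ) i i 0 = n := by
    intro i
    simp only [blk, Matrix.mul_apply, transpose_apply, hA2, hn]
  have hμ : ∑ d', μ d' * μ' (0 - d') = a ^ 2 + ∑ d, (blk e A 0 0 d + blk e A 1 1 d) ^ 2 := by
    have : ∀ d', μ d' * μ' (0 - d') =
        (if d' = 0 then a ^ 2 else 0) + (blk e A 0 0 d' + blk e A 1 1 d') ^ 2 := by
      intro d'
      simp only [μ, μ', hb, zero_sub, neg_neg, neg_eq_zero]
      split_ifs with h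
      · subst h; simp only [blk, hA0]; ring
      · ring
    simp only [this, Finset.sum_add_distrib, Finset.sum_ite_eq', Finset.mem_univ, if_true]
  simp only [F, hd, hμ, if_true] at hF2
  linear_combination hF2

/-- If an invariant `0/1` matrix with eigenvalue `0` has equal diagonal blocks, the diagonal blocks
of `E` vanish off the diagonal. -/
theorem blk_eq_zero {E A : Matrix α α ℚ} (hE : TInv e E) (hA : TInv e A)
    (hAE : A * E = 0) (hEA : E * A = 0)
    (hq : ∀ d, blk e E 0 0 d + blk e E 1 1 d = if d = 0 then 1 else 0)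
    (hdiag : blk e E 0 0 0 = blk e E 1 1 0) (hA0 : ∀ x, A x x = 0)
    (hb : blk e A 0 0 = blk e A 1 1) (hs : ∑ d, blk e A 0 0 d ≠ 0) (d : ZMod p) (hd : d ≠ 0) :
    blk e E 0 0 d = 0 := by
  obtain ⟨ψ, hψ⟩ := exists_addChar (p := p)
  have ht : hat ψ (blk e E 0 0) + hat ψ (blk e E 1 1) = 1 := by
    rw [← hat_add, funext hq, hat_delta]; simp
  obtain ⟨x00, -, -, x11⟩ := hat_decomp (a := 0) hE hA (by rw [hAE, zero_smul])
    (by rw [hEA, zero_smul]) ht
  rw [← hb] at x00 x11
  have hr : hat ψ (blk e A 0 0) ≠ 0 := by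
    intro h
    apply hs
    rw [← eq_const_of_sum (hψ _ h) 0]
    simp [blk, hA0]
  have h1 : hat ψ (fun d => blk e E 0 0 d - blk e E 1 1 d) = 0 := by
    rw [hat_sub]
    apply mul_left_cancel₀ (mul_ne_zero two_ne_zero hr)
    push_cast at x00 x11
    linear_combination x00 - x11
  have h2 := hψ _ h1 d 0
  have h3 := hq d
  rw [if_neg hd] at h3
  simp only [hdiag, sub_self] at h2
  linarith

end CL.Perm.TwoP
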