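import Cfsg.Agent.Base
import Cfsg.Agent.Perm.Module
import Cfsg.Agent.Perm.TwoP1
import Cfsg.Agent.Perm.BlockLemmas

/-!
# Wielandt's theorem on primitive groups of degree `2p`: the semiregular case
-/

set_option autoImplicit false

namespace CL.Perm.TwoP

open Matrix MulAction

variable {p : ℕ} [hp : Fact p.Prime] {α : Type*} [Fintype α] {e : Fin 2 × ZMod p ≃ α}
  {G : Type*} [Group G] [MulAction G α] {c : G}

omit [Fintype α] in
theorem pow_smul_coord (hc : ∀ i x, c • e (i, x) = e (i, x + 1)) (n : ℕ) (i : Fin 2)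
    (x : ZMod p) : c ^ n • e (i, x) = e (i, x + n) := by
  induction n with
  | zero => simp
  | succ n ih => rw [pow_succ', mul_smul, ih, hc]; push_cast; rw [add_assoc]

omit [Fintype α] in
theorem tinv_of_inv (hc : ∀ i x, c • e (i, x) = e (i, x + 1)) {M : Matrix α α ℚ}
    (hM : ∀ (g : G) x y, M (g • x) (g • y) = M x y) : TInv e M := by
  intro i j x y
  rw [← hM (c ^ x.val) (e (i, 0)), pow_smul_coord hc, pow_smul_coord hc]
  simp

theorem sum_sg : ∑ x, sg e x = 0 := by
  rw [sum_eq e]; simp [sg_zero, sg_one]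

variable [IsPretransitive G α]

theorem exists_eigenvalue (hc : ∀ i x, c • e (i, x) = e (i, x + 1)) {A : Matrix α α ℚ}
    (hA : ∀ (g : G) x y, A (g • x) (g • y) = A x y) :
    ∃ a : ℚ, ∀ x, ∑ y, A x y * sg e y = a * sg e x := by
  have hp0 : (p : ℚ) ≠ 0 := Nat.cast_ne_zero.2 hp.out.ne_zero
  have h1 : ∀ i x, ∑ y, A (e (i, x)) y * sg e y = ∑ y, A (e (i, 0)) y * sg e y := by
    intro i x
    rw [← sum_smul_eq (c ^ x.val)]
    refine Finset.sum_congr rfl fun y _ => ?_
    obtain ⟨⟨j, y⟩, rfl⟩ := e.surjective y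
    rw [← hA (c ^ x.val) (e (i, 0)), pow_smul_coord hc, pow_smul_coord hc]
    simp [sg]
  have h2 : ∑ x, ∑ y, A x y * sg e y = 0 := by
    rw [Finset.sum_comm]
    have : ∀ y, ∑ x, A x y = ∑ x, A x (e (0, 0)) := fun y =>
      row_sum_eq (G := G) Aᵀ (fun g x y => hA g y x) y _
    simp only [← Finset.sum_mul, this, ← Finset.mul_sum, sum_sg, mul_zero]
  rw [sum_eq e] at h2
  simp only [h1, Finset.sum_const, Finset.card_univ, ZMod.card, nsmul_eq_mul, ← mul_add,
    mul_eq_zero, hp0, false_or] at h2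
  refine ⟨∑ y, A (e (0, 0)) y * sg e y, fun x => ?_⟩
  obtain ⟨⟨i, x⟩, rfl⟩ := e.surjective x
  rw [h1]
  fin_cases i
  · simp [sg_zero]
  · simp only [Fin.mk_one, sg_one]; linarith

/-- The invariant projection onto the submodule generated by the sign vector. -/
theorem exists_projection [Finite G] (hc : ∀ i x, c • e (i, x) = e (i, x + 1)) :
    ∃ E : Matrix α α ℚ, (∀ (g : G) x y, E (g • x) (g • y) = E x y) ∧ Eᵀ = E ∧ E * E = E ∧
      (∀ x, ∑ y, E x y = 0) ∧ (∀ x, ∑ y, E x y * sg e y = sg e x) ∧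
      ∀ (A : Matrix α α ℚ) (a : ℚ), (∀ (g : G) x y, A (g • x) (g • y) = A x y) →
        (∀ x, ∑ y, A x y * sg e y = a * sg e x) → A * E = a • E := by
  have := Fintype.ofFinite G
  let T : Matrix α α ℚ := Matrix.of fun x y => ∑ g : G, sg e (g • x) * sg e (g • y)
  have hT : ∀ (g : G) x y, T (g • x) (g • y) = T x y := by
    intro g x y
    simp only [T, Matrix.of_apply, ← mul_smul]
    exact Equiv.sum_comp (Equiv.mulRight g) (fun h => sg e (h • x) * sg e (h • y))
  have hAT : ∀ (A : Matrix α α ℚ) (a : ℚ), (∀ (g : G) x y, A (g • x) (g • y) = A x y) →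
      (∀ x, ∑ y, A x y * sg e y = a * sg e x) → A * T = a • T := by
    intro A a hA ha
    ext x y
    simp only [T, Matrix.mul_apply, Matrix.of_apply, Matrix.smul_apply, smul_eq_mul,
      Finset.mul_sum]
    rw [Finset.sum_comm]
    refine Finset.sum_congr rfl fun g _ => ?_
    rw [← mul_assoc, ← ha, ← sum_smul_eq g (fun z => A (g • x) z * sg e z), Finset.sum_mul]
    exact Finset.sum_congr rfl fun z _ => by rw [hA, mul_assoc]
  obtain ⟨τ, hτ⟩ := exists_eigenvalue hc hT
  have hτ0 : τ ≠ 0 := by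
    rintro rfl
    have h1 : ∑ x, sg e x * ∑ y, T x y * sg e y = ∑ g : G, (∑ x, sg e x * sg e (g • x)) ^ 2 := by
      simp only [T, Matrix.of_apply, Finset.mul_sum, Finset.sum_mul, pow_two]
      rw [Finset.sum_comm]
      conv_rhs => rw [Finset.sum_comm]
      refine Finset.sum_congr rfl fun y _ => ?_
      conv_rhs => rw [Finset.sum_comm]
      exact Finset.sum_congr rfl fun x _ => Finset.sum_congr rfl fun g _ => by ring
    simp only [hτ, zero_mul, mul_zero, Finset.sum_const_zero] at h1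
    have h2 := (Finset.sum_eq_zero_iff_of_nonneg (fun g _ => sq_nonneg _)).1 h1.symm 1
      (Finset.mem_univ _)
    simp only [one_smul, sg_mul_self, Finset.sum_const, Finset.card_univ, nsmul_eq_mul, mul_one,
      ne_eq, OfNat.ofNat_ne_zero, not_false_eq_true, pow_eq_zero_iff, Nat.cast_eq_zero] at h2
    have : Nonempty α := ⟨e (0, 0)⟩
    exact Fintype.card_ne_zero h2
  refine ⟨τ⁻¹ • T, fun g x y => by simp only [Matrix.smul_apply, hT], ?_, ?_, ?_, ?_, ?_⟩
  · ext x y
    simp only [T, transpose_apply, Matrix.smul_apply, Matrix.of_apply, mul_comm]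
  · rw [Matrix.smul_mul, Matrix.mul_smul, hAT T τ hT hτ, smul_smul τ⁻¹ τ, inv_mul_cancel₀ hτ0,
      one_smul]
  · intro x
    simp only [T, Matrix.smul_apply, Matrix.of_apply, smul_eq_mul, ← Finset.mul_sum]
    rw [Finset.sum_comm]
    simp only [← Finset.mul_sum, sum_smul_eq _ (sg e), sum_sg, mul_zero, Finset.sum_const_zero]
  · intro x
    simp only [Matrix.smul_apply, smul_eq_mul, mul_assoc, ← Finset.mul_sum, hτ]
    rw [← mul_assoc, inv_mul_cancel₀ hτ0, one_mul]
  · intro A a hA ha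
    rw [Matrix.mul_smul, hAT A a hA ha, smul_comm]

section orbital

variable {E : Matrix α α ℚ}

theorem orbital_eigen (hc : ∀ i x, c • e (i, x) = e (i, x + 1)) (hEs : Eᵀ = E) (hEE : E * E = E)
    (hv : ∀ x, ∑ y, E x y * sg e y = sg e x)
    (hAE : ∀ (A : Matrix α α ℚ) (a : ℚ), (∀ (g : G) x y, A (g • x) (g • y) = A x y) →
        (∀ x, ∑ y, A x y * sg e y = a * sg e x) → A * E = a • E)
    {A : Matrix α α ℚ} (hA : ∀ (g : G) x y, A (g • x) (g • y) = A x y) :
    ∃ a : ℚ, (∀ x, ∑ y, A x y * sg e y = a * sg e x) ∧ A * E = a • E ∧ E * A = a • E := by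
  obtain ⟨a, ha⟩ := exists_eigenvalue hc hA
  obtain ⟨a', ha'⟩ := exists_eigenvalue hc (A := Aᵀ) (fun g x y => hA g y x)
  have h1 := hAE A a hA ha
  have h2 : E * A = a' • E := by
    have := congrArg transpose (hAE Aᵀ a' (fun g x y => hA g y x) ha')
    rwa [transpose_mul, transpose_transpose, transpose_smul, hEs] at this
  have h3 : a • E = a' • E := by
    have : E * A * E = E * (A * E) := Matrix.mul_assoc _ _ _
    rw [h1, h2, Matrix.smul_mul, Matrix.mul_smul, hEE] at this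
    exact this.symm
  exact ⟨a, ha, h1, h2.trans h3.symm⟩

/-- The numerical relations satisfied by a non-diagonal orbital. -/
theorem orbital_relations (hc : ∀ i x, c • e (i, x) = e (i, x + 1))
    (hE : ∀ (g : G) x y, E (g • x) (g • y) = E x y) (hEs : Eᵀ = E) (hEE : E * E = E)
    (hv : ∀ x, ∑ y, E x y * sg e y = sg e x)
    (hAE : ∀ (A : Matrix α α ℚ) (a : ℚ), (∀ (g : G) x y, A (g • x) (g • y) = A x y) →
        (∀ x, ∑ y, A x y * sg e y = a * sg e x) → A * E = a • E)
    (hq : ∀ d, blk e E 0 0 d + blk e E 1 1 d = if d = 0 then 1 else 0)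
    {x₀ y₀ : α} (hxy : x₀ ≠ y₀) :
    ∃ a : ℤ, 2 * (Nat.card (orbit (stabilizer G x₀) y₀) : ℚ) * E x₀ y₀ = a ∧
      (E x₀ y₀ ≠ 0 → (Nat.card (orbit (stabilizer G x₀) y₀) : ℤ) = 2 * a ^ 2 + a ∧
        ((∀ d, d ≠ 0 → blk e E 0 0 d = 0) → Nat.card (orbit (stabilizer G x₀) y₀) = 1)) ∧
      (E x₀ y₀ = 0 → ∀ d, d ≠ 0 → blk e E 0 0 d = 0) := by
  set n := Nat.card (orbit (stabilizer G x₀) y₀) with hn
  have hn0 : 0 < n := by
    have : Nonempty (orbit (stabilizer G x₀) y₀) := ⟨⟨y₀, mem_orbit_self _⟩⟩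
    exact Nat.card_pos
  set A : Matrix α α ℚ := orbMat G ℚ x₀ y₀ with hA
  have hAinv : ∀ (g : G) x y, A (g • x) (g • y) = A x y := orbMat_invariant ℚ x₀ y₀
  have hrow : ∀ x, ∑ y, A x y = n := fun x => by
    rw [row_sum_eq (G := G) A hAinv x x₀, hA, orbMat_row_sum]
  have hcases : ∀ x y, A x y = 0 ∨ (A x y = 1 ∧ E x y = E x₀ y₀) := by
    intro x y
    by_cases h : ∃ g : G, g • x₀ = x ∧ g • y₀ = y
    · refine Or.inr ⟨orbMat_of_exists ℚ h, ?_⟩
      obtain ⟨g, rfl, rfl⟩ := h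
      exact hE g _ _
    · exact Or.inl (orbMat_of_not_exists ℚ h)
  have hA0 : ∀ x, A x x = 0 := fun x => orbMat_of_not_exists ℚ (by
    rintro ⟨g, h1, h2⟩
    exact hxy (smul_left_cancel g (h1.trans h2.symm)))
  have hA2 : ∀ x y, A x y * A x y = A x y := fun x y => by
    rcases hcases x y with h | ⟨h, -⟩ <;> simp [h]
  obtain ⟨a, ha, h1, h2⟩ := orbital_eigen hc hEs hEE hv hAE hAinv
  have hdiag : ∀ x y, E x x = E y y := by
    intro x y
    obtain ⟨g, rfl⟩ := exists_smul_eq G x y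
    exact (hE g x x).symm
  have hhalf : ∀ x, E x x = 1 / 2 := by
    intro x
    have := hq 0
    simp only [blk, if_true, hdiag (e _) x] at this
    linarith
  have hε : 2 * (n : ℚ) * E x₀ y₀ = a := by
    have h3 := congrFun (congrFun h1 x₀) x₀
    rw [Matrix.mul_apply, Matrix.smul_apply, hhalf, smul_eq_mul] at h3
    have h4 : ∑ j, A x₀ j * E j x₀ = ∑ j, A x₀ j * E x₀ y₀ := by
      refine Finset.sum_congr rfl fun j _ => ?_
      rcases hcases x₀ j with h | ⟨-, h⟩
      · simp [h]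
      · rw [← h, ← transpose_apply E, hEs]
    rw [h4, ← Finset.sum_mul, hrow] at h3
    linarith
  have hAT := tinv_of_inv hc hAinv
  have hET := tinv_of_inv hc hE
  obtain ⟨s00, -, -, s11⟩ := blk_sums (e := e) hrow ha
  have hnorm := norm_identity hET hEE hEs hAT h1 h2 hq hrow ha hA2 hA0
  have hsum : ∑ d, (blk e A 0 0 d + blk e A 1 1 d) = n + a := by
    rw [Finset.sum_add_distrib, s00, s11]; ring
  obtain ⟨z, rfl⟩ : ∃ z : ℤ, (z : ℚ) = a := by
    refine ⟨2 * (∑ d, orbMat G ℕ x₀ y₀ (e (0, 0)) (e (0, d)) : ℕ) - n, ?_⟩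
    have : ∑ d, blk e A 0 0 d = ((∑ d, orbMat G ℕ x₀ y₀ (e (0, 0)) (e (0, d)) : ℕ) : ℚ) := by
      simp only [blk, hA, orbMat_cast ℚ, Nat.cast_sum]
    rw [Int.cast_sub, Int.cast_mul, Int.cast_natCast, ← this, s00]
    push_cast; ring
  refine ⟨z, hε, fun hne => ?_, fun h0 => ?_⟩
  · have hm : ∀ d, (blk e A 0 0 d + blk e A 1 1 d) ^ 2 = blk e A 0 0 d + blk e A 1 1 d := by
      intro d
      by_cases hd : d = 0
      · subst hd; simp [blk, hA0]
      have h3 := hq d
      rw [if_neg hd] at h3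
      simp only [blk] at h3 ⊢
      rcases hcases (e (0, 0)) (e (0, d)) with h | ⟨h, h'⟩ <;>
        rcases hcases (e (1, 0)) (e (1, d)) with k | ⟨k, k'⟩
      · simp [h, k]
      · simp [h, k]
      · simp [h, k]
      · exact absurd (by linarith) hne
    simp only [hm, hsum] at hnorm
    have h3 : (n : ℤ) = 2 * z ^ 2 + z := by
      have : (n : ℚ) = 2 * (z : ℚ) ^ 2 + z := by linarith
      exact_mod_cast this
    refine ⟨h3, fun hB => ?_⟩
    have hm0 : ∀ d, blk e A 0 0 d + blk e A 1 1 d = 0 := by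
      intro d
      by_cases hd : d = 0
      · subst hd; simp [blk, hA0]
      have h4 := hq d
      have h5 := hB d hd
      rw [if_neg hd, h5, zero_add] at h4
      simp only [blk] at h4 h5 ⊢
      rcases hcases (e (0, 0)) (e (0, d)) with h | ⟨h, h'⟩
      · rcases hcases (e (1, 0)) (e (1, d)) with k | ⟨k, k'⟩
        · simp [h, k]
        · exact absurd (k'.symm.trans h4) hne
      · exact absurd (h'.symm.trans h5) hne
    simp only [hm0, Finset.sum_const_zero] at hsum
    have h4 : (n : ℤ) + z = 0 := by exact_mod_cast hsum.symm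
    have h5 : z * (z + 1) = 0 := by linarith
    rcases mul_eq_zero.1 h5 with h | h <;> omega
  · have hz : (z : ℚ) = 0 := by rw [← hε, h0, mul_zero]
    rw [hz] at h1 h2 hnorm hsum s00
    have hnn : ∀ d ∈ (Finset.univ : Finset (ZMod p)),
        0 ≤ (blk e A 0 0 d + blk e A 1 1 d) * (2 - (blk e A 0 0 d + blk e A 1 1 d)) := by
      intro d _
      simp only [blk]
      rcases hcases (e (0, 0)) (e (0, d)) with h | ⟨h, -⟩ <;>
        rcases hcases (e (1, 0)) (e (1, d)) with k | ⟨k, -⟩ <;> norm_num [h, k]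
    have h3 : ∑ d, (blk e A 0 0 d + blk e A 1 1 d) * (2 - (blk e A 0 0 d + blk e A 1 1 d)) = 0 := by
      have : ∀ d, (blk e A 0 0 d + blk e A 1 1 d) * (2 - (blk e A 0 0 d + blk e A 1 1 d)) =
          2 * (blk e A 0 0 d + blk e A 1 1 d) - (blk e A 0 0 d + blk e A 1 1 d) ^ 2 :=
        fun d => by ring
      simp only [this, Finset.sum_sub_distrib, ← Finset.mul_sum, hsum]
      linarith
    have h4 := (Finset.sum_eq_zero_iff_of_nonneg hnn).1 h3
    refine blk_eq_zero hET hAT (by rw [h1, zero_smul]) (by rw [h2, zero_smul]) hq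
      (hdiag _ _) hA0 ?_ ?_
    · funext d
      have := h4 d (Finset.mem_univ _)
      simp only [blk] at this ⊢
      rcases hcases (e (0, 0)) (e (0, d)) with h | ⟨h, -⟩ <;>
        rcases hcases (e (1, 0)) (e (1, d)) with k | ⟨k, -⟩ <;> rw [h, k] at this ⊢ <;>
        norm_num at this
    · rw [s00]
      have : (0 : ℚ) < n := by exact_mod_cast hn0
      linarith

end orbital

end CL.Perm.TwoP
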