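import Cfsg.Agent.Base
import Cfsg.Agent.Perm.NormalMulti
import Cfsg.Agent.Perm.Socle

/-!
Burnside's theorem on normal subgroups of doubly transitive groups (faithful-action form).
-/

set_option autoImplicit false

namespace CL.Perm

open MulAction Subgroup SubMulAction
open scoped Pointwise

variable {G X : Type*} [Group G] [MulAction G X]

/-- In a doubly transitive group, the nonidentity elements of a regular normal subgroup are
conjugate. -/
theorem isConj_of_regular_normal (h2 : IsMultiplyPretransitive G X 2) [Nonempty X]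
    (N : Subgroup G) [hN : N.Normal] (hreg : ∀ x : X, stabilizer N x = ⊥) {m n : G} (hm : m ∈ N)
    (hn : n ∈ N) (hm1 : m ≠ 1) (hn1 : n ≠ 1) : ∃ g : G, g * m * g⁻¹ = n := by
  obtain ⟨a⟩ := ‹Nonempty X›
  have hne : ∀ m ∈ N, m ≠ 1 → a ≠ m • a := fun m hm hm1 h =>
    hm1 (eq_of_smul_eq_of_regular (hreg a) hm N.one_mem (by simpa using h.symm))
  obtain ⟨g, hg1, hg2⟩ := is_two_pretransitive_iff.mp h2 (hne m hm hm1) (hne n hn hn1)
  refine ⟨g, eq_of_smul_eq_of_regular (hreg a) (hN.conj_mem m hm g) hn ?_⟩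
  rw [mul_smul, mul_smul, inv_smul_eq_iff.mpr hg1.symm, hg2]

/-- A finite semiregular nontrivial normal subgroup of a doubly transitive group is elementary
abelian. -/
theorem elementary_of_regular_normal (h2 : IsMultiplyPretransitive G X 2) [Nonempty X]
    (N : Subgroup G) [hN : N.Normal] [Finite N] (hN1 : N ≠ ⊥)
    (hreg : ∀ x : X, stabilizer N x = ⊥) :
    IsMulCommutative N ∧ ∃ p : ℕ, p.Prime ∧ ∀ n ∈ N, n ^ p = 1 := by
  have h1 : Nat.card N ≠ 1 := fun h => hN1 (Subgroup.card_eq_one.mp h)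
  obtain ⟨p, hp, hpd⟩ := Nat.exists_prime_and_dvd h1
  have := Fact.mk hp
  obtain ⟨x, hx⟩ := exists_prime_orderOf_dvd_card' p hpd
  have hx1 : (x : G) ≠ 1 := by
    intro h
    rw [show x = 1 from Subtype.ext h, orderOf_one] at hx
    exact hp.one_lt.ne hx
  have hxp : (x : G) ^ p = 1 := by
    have := pow_orderOf_eq_one x
    rw [hx] at this
    exact congrArg Subtype.val this
  have hexp : ∀ n ∈ N, n ^ p = 1 := by
    intro n hn
    by_cases hn1 : n = 1
    · rw [hn1, one_pow]
    obtain ⟨g, rfl⟩ := isConj_of_regular_normal h2 N hreg x.2 hn hx1 hn1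
    rw [conj_pow, hxp, mul_one, mul_inv_cancel]
  refine ⟨?_, p, hp, hexp⟩
  have hpN : IsPGroup p N := fun g => ⟨1, Subtype.ext (by simpa using hexp g g.2)⟩
  have : Nontrivial N := (Subgroup.nontrivial_iff_ne_bot N).mpr hN1
  obtain ⟨⟨z, hz⟩, hz1⟩ := @exists_ne _ hpN.center_nontrivial 1
  have hz1' : (z : G) ≠ 1 := fun h => hz1 (Subtype.ext (Subtype.ext h))
  refine ⟨⟨fun a b => ?_⟩⟩
  by_cases ha : (a : G) = 1
  · rw [show a = 1 from Subtype.ext ha, one_mul, mul_one]
  obtain ⟨g, hg⟩ := isConj_of_regular_normal h2 N hreg z.2 a.2 hz1' ha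
  have := congrArg Subtype.val
    (mem_center_iff.mp hz ⟨g⁻¹ * b * g, by simpa using hN.conj_mem _ b.2 g⁻¹⟩)
  apply Subtype.ext
  change (a : G) * b = b * a
  change g⁻¹ * b * g * z = z * (g⁻¹ * b * g) at this
  rw [← hg]
  calc g * z * g⁻¹ * b = g * (z * (g⁻¹ * b * g)) * g⁻¹ := by group
    _ = g * (g⁻¹ * b * g * z) * g⁻¹ := by rw [this]
    _ = b * (g * z * g⁻¹) := by group

theorem isBlock_smul_of_normal (N : Subgroup G) [hN : N.Normal] {B : Set X} (hB : IsBlock N B)
    (g : G) : IsBlock N (g • B) := by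
  apply isBlock_of_forall_mem
  rintro n _ ⟨a, ha, rfl⟩ hna _ ⟨b, hb, rfl⟩
  let n' : N := ⟨g⁻¹ * n * g, by simpa using hN.conj_mem _ n.2 g⁻¹⟩
  have e : ∀ x : X, n • g • x = g • n' • x := fun x => by
    change (n : G) • g • x = g • (g⁻¹ * n * g) • x
    rw [mul_smul, mul_smul, smul_inv_smul]
  beta_reduce at hna ⊢
  rw [e, Set.smul_mem_smul_set_iff] at hna ⊢
  exact smul_mem_of_isBlock hB ha hna hb

/-- In an imprimitive normal subgroup of a doubly transitive group only the identity fixes two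
points. -/
theorem smul_eq_of_normal_not_preprimitive [Finite X] (h2 : IsMultiplyPretransitive G X 2)
    (N : Subgroup G) [hN : N.Normal] (ht : IsPretransitive N X) (hnp : ¬ IsPreprimitive N X)
    {n : G} (hn : n ∈ N) {a b : X} (hab : a ≠ b) (ha : n • a = a) (hb : n • b = b) (x : X) :
    n • x = x := by
  obtain ⟨B₀, hB₀, hB₀t⟩ : ∃ B : Set X, IsBlock N B ∧ ¬ IsTrivialBlock B := by
    by_contra h
    push Not at h
    exact hnp ⟨fun {B} hB => h B hB⟩
  rw [IsTrivialBlock, not_or, Set.not_subsingleton_iff] at hB₀t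
  obtain ⟨B, ⟨hB, hBn⟩, hmin⟩ := WellFounded.has_min
    (InvImage.wf (fun B : Set X => B.ncard) wellFounded_lt)
    {B : Set X | IsBlock N B ∧ B.Nontrivial} ⟨B₀, hB₀, hB₀t.1⟩
  have hmin' : ∀ C : Set X, IsBlock N C → C.Nontrivial → B.ncard ≤ C.ncard :=
    fun C hC hC' => not_lt.mp (hmin C ⟨hC, hC'⟩)
  have hline : ∀ (g h : G) (u v : X), u ≠ v → u ∈ g • B → v ∈ g • B → u ∈ h • B → v ∈ h • B →
      g • B = h • B := by
    intro g h u v huv h1 h2 h3 h4
    have := hmin' _ ((isBlock_smul_of_normal N hB g).inter (isBlock_smul_of_normal N hB h))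
      ⟨u, ⟨h1, h3⟩, v, ⟨h2, h4⟩, huv⟩
    have e1 : g • B ∩ h • B = g • B := Set.eq_of_subset_of_ncard_le Set.inter_subset_left
      (by rwa [Set.ncard_smul_set])
    have e2 : g • B ∩ h • B = h • B := Set.eq_of_subset_of_ncard_le Set.inter_subset_right
      (by rwa [Set.ncard_smul_set])
    rw [← e1, e2]
  have hex : ∀ u v : X, u ≠ v → ∃ g : G, u ∈ g • B ∧ v ∈ g • B := by
    intro u v huv
    obtain ⟨p, hp, q, hq, hpq⟩ := hBn
    obtain ⟨g, rfl, rfl⟩ := is_two_pretransitive_iff.mp h2 hpq huv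
    exact ⟨g, Set.smul_mem_smul_set hp, Set.smul_mem_smul_set hq⟩
  have hoff : ∀ (g : G) (a b c : X), a ≠ b → n • a = a → n • b = b → a ∈ g • B → b ∈ g • B →
      c ∉ g • B → n • c = c := by
    intro g a b c hab ha hb hag hbg hc
    by_contra hnc
    obtain ⟨g₁, ha1, hc1⟩ := hex a c (fun h => hc (h ▸ hag))
    obtain ⟨g₂, hb2, hc2⟩ := hex b c (fun h => hc (h ▸ hbg))
    have h1 : n • c ∈ g₁ • B := smul_mem_of_isBlock (isBlock_smul_of_normal N hB g₁)
      (g := ⟨n, hn⟩) ha1 (by change n • a ∈ _; rwa [ha]) hc1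
    have h2 : n • c ∈ g₂ • B := smul_mem_of_isBlock (isBlock_smul_of_normal N hB g₂)
      (g := ⟨n, hn⟩) hb2 (by change n • b ∈ _; rwa [hb]) hc2
    have e := hline g₁ g₂ _ _ hnc h1 hc1 h2 hc2
    have e' := hline g₁ g a b hab ha1 (e ▸ hb2) hag hbg
    exact hc (e' ▸ hc1)
  obtain ⟨g, hag, hbg⟩ := hex a b hab
  by_cases hx : x ∈ g • B
  swap
  · exact hoff g a b x hab ha hb hag hbg hx
  by_cases hxa : x = a
  · rw [hxa, ha]
  obtain ⟨c, hc⟩ : ∃ c, c ∉ g • B := by
    by_contra h
    push Not at h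
    have h1 : (g • B).ncard = Nat.card X := by
      rw [Set.eq_univ_iff_forall.mpr h, Set.ncard_univ]
    rw [Set.ncard_smul_set] at h1
    have h2 := hmin' B₀ hB₀ hB₀t.1
    apply hB₀t.2
    rw [Set.eq_univ_iff_ncard]
    exact le_antisymm B₀.ncard_le_card (h1 ▸ h2)
  have hac : a ≠ c := fun h => hc (h ▸ hag)
  obtain ⟨g₁, ha1, hc1⟩ := hex a c hac
  refine hoff g₁ a c x hac ha (hoff g a b c hab ha hb hag hbg hc) ha1 hc1 fun hx1 => hc ?_
  rw [hline g g₁ x a hxa hx hag hx1 ha1]
  exact hc1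

theorem minimal_normal_map_equiv {K : Type*} [Group K] {A : Subgroup K}
    (hmin : ∀ L : Subgroup K, L.Normal → L ≤ A → L = ⊥ ∨ L = A) (σ : K ≃* K) (L : Subgroup K)
    (hL : L.Normal) (hle : L ≤ A.map σ.toMonoidHom) : L = ⊥ ∨ L = A.map σ.toMonoidHom := by
  have h1 : L = (L.comap σ.toMonoidHom).map σ.toMonoidHom :=
    (Subgroup.map_comap_eq_self_of_surjective σ.surjective L).symm
  rcases hmin (L.comap σ.toMonoidHom) (hL.comap _) (by
    intro x hx
    obtain ⟨y, hy, hxy⟩ := hle hx
    rwa [← σ.injective hxy]) with h | h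
  · left
    rw [h1, h, Subgroup.map_bot]
  · right
    rw [h1, h]

/-- All orbits of `N ⊓ G_a` on the points other than `a` have length dividing `n - 1`, for `N`
normal in a doubly transitive group. -/
theorem index_stabilizer_dvd_card_sub_one [Finite X] (h2 : IsMultiplyPretransitive G X 2)
    (N : Subgroup G) [N.Normal] (a : X) (b : ofStabilizer G a) :
    (stabilizer (N.subgroupOf (stabilizer G a)) b).index ∣ Nat.card X - 1 := by
  have : IsPretransitive G X := isPretransitive_of_is_two_pretransitive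
  have : IsPretransitive (stabilizer G a) (ofStabilizer G a) := by
    rw [← is_one_pretransitive_iff, ← ofStabilizer.isMultiplyPretransitive]
    exact h2
  have hB := IsBlock.orbit_of_normal (G := stabilizer G a) (N := N.subgroupOf (stabilizer G a)) b
  have := hB.ncard_dvd_card ⟨b, mem_orbit_self _⟩
  rwa [← index_stabilizer, eq_tsub_of_add_eq (nat_card_ofStabilizer_add_one_eq G a)] at this

/-- A primitive non-regular minimal normal subgroup of a doubly transitive group is simple. -/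
theorem isSimpleGroup_of_minimal_normal_of_preprimitive [Finite X] [FaithfulSMul G X]
    (h2 : IsMultiplyPretransitive G X 2) (N : Subgroup G) [N.Normal] (hN : N ≠ ⊥)
    (hmin : ∀ M : Subgroup G, M.Normal → M ≤ N → M = ⊥ ∨ M = N) (hp : IsPreprimitive N X)
    {a : X} (ha : stabilizer N a ≠ ⊥) : IsSimpleGroup N := by
  have : Finite G := Finite.of_injective _ (toPerm_injective (α := G) (β := X))
  have : Nontrivial N := (Subgroup.nontrivial_iff_ne_bot N).mpr hN
  have : Nonempty X := ⟨a⟩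
  have hcs := charSimple_of_minimal_normal N hmin
  refine ⟨fun L hL => ?_⟩
  by_cases hL1 : L = ⊥
  · exact Or.inl hL1
  right
  obtain ⟨A, hAn, hA1, hAL, hAmin⟩ := exists_minimal_normal_le L hL1
  by_contra hLt
  obtain ⟨σ, hσ⟩ : ∃ σ : N ≃* N, A ≠ A.map σ.toMonoidHom := by
    by_contra h
    push Not at h
    rcases hcs A (characteristic_iff_map_eq.mpr fun σ => (h σ).symm) with h | h
    · exact hA1 h
    · exact hLt (top_le_iff.mp (h ▸ hAL))
  have hmn : ∀ τ : N ≃* N, (A.map τ.toMonoidHom).Normal := fun τ => hAn.map _ τ.surjective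
  have hm1 : ∀ τ : N ≃* N, A.map τ.toMonoidHom ≠ ⊥ := fun τ h =>
    hA1 ((Subgroup.map_eq_bot_iff_of_injective _ τ.injective).mp h)
  have hBn := hmn σ
  set B := A.map σ.toMonoidHom with hB
  have hBmin := minimal_normal_map_equiv hAmin σ
  have hAt : IsPretransitive A X := isPretransitive_of_normal hA1
  have hBt : IsPretransitive B X := isPretransitive_of_normal (hm1 σ)
  have hc := commute_of_minimal_normal hA1 hAmin hBmin hσ
  have hc' : ∀ n ∈ B, ∀ m ∈ A, Commute n m := fun n hn m hm => (hc m hm n hn).symm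
  have hthird : ∀ τ : N ≃* N, A.map τ.toMonoidHom ≤ A ⊔ B := by
    intro τ
    by_cases h : A.map τ.toMonoidHom = A
    · rw [h]; exact le_sup_left
    · have := hmn τ
      have hcomm := commute_of_minimal_normal (hm1 τ) (minimal_normal_map_equiv hAmin τ) hAmin h
      exact le_trans (fun l hl => mem_of_commute_of_pretransitive B A hBt hAt hc' (hcomm l hl))
        le_sup_right
  have htop : A ⊔ B = ⊤ := by
    rcases hcs (A ⊔ B) (characteristic_iff_map_le.mpr fun τ => by
      rw [Subgroup.map_sup, hB, Subgroup.map_map]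
      exact sup_le (hthird τ) (hthird (σ.trans τ))) with h | h
    · exact absurd (le_bot_iff.mp (h ▸ le_sup_left)) hA1
    · exact h
  have hcompl : IsComplement' A B := isComplement'_of_disjoint_and_mul_eq_univ
    (disjoint_of_minimal_normal hA1 hAmin hBmin hσ) (by rw [← normal_mul, htop]; rfl)
  have hcard := hcompl.card_mul_card
  rw [card_eq_of_regular A hAt (stabilizer_eq_bot_of_commute A B hBt hc a),
    card_eq_of_regular B hBt (stabilizer_eq_bot_of_commute B A hAt hc' a),
    ← (stabilizer N a).index_mul_card, index_stabilizer_of_transitive] at hcard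
  have hpos : 0 < Nat.card X := Nat.card_pos
  have hst : Nat.card (N.subgroupOf (stabilizer G a)) = Nat.card X := by
    rw [Nat.eq_of_mul_eq_mul_left hpos hcard]
    exact Nat.card_congr
      { toFun := fun g => ⟨⟨g.1.1, g.2⟩, g.1.2⟩
        invFun := fun g => ⟨⟨g.1.1, g.2⟩, g.1.2⟩
        left_inv := fun _ => rfl
        right_inv := fun _ => rfl }
  apply ha
  rw [eq_bot_iff]
  intro g hg
  rw [mem_bot]
  apply FaithfulSMul.eq_of_smul_eq_smul (M := N) (α := X)
  intro x
  rw [one_smul]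
  by_cases hx : x = a
  · rw [hx]; exact hg
  have h1 := index_stabilizer_dvd_card_sub_one h2 N a ⟨x, hx⟩
  have h3 := (stabilizer (N.subgroupOf (stabilizer G a)) (⟨x, hx⟩ : ofStabilizer G a)).index_dvd_card
  rw [hst] at h3
  have h4 := Nat.dvd_sub h3 h1
  rw [Nat.sub_sub_self hpos, Nat.dvd_one, index_eq_one] at h4
  have : (⟨⟨g, hg⟩, g.2⟩ : N.subgroupOf (stabilizer G a)) ∈
      stabilizer (N.subgroupOf (stabilizer G a)) (⟨x, hx⟩ : ofStabilizer G a) := by
    rw [h4]; trivial
  exact congrArg Subtype.val this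

/-- Burnside: a minimal normal subgroup of a finite doubly transitive group is regular and
elementary abelian, or non-regular, simple and primitive. -/
theorem burnside_minimal_normal [Finite X] [FaithfulSMul G X]
    (h2 : IsMultiplyPretransitive G X 2) (N : Subgroup G) [N.Normal] (hN : N ≠ ⊥)
    (hmin : ∀ M : Subgroup G, M.Normal → M ≤ N → M = ⊥ ∨ M = N) :
    (IsMulCommutative N ∧ (∃ p : ℕ, p.Prime ∧ ∀ n ∈ N, n ^ p = 1) ∧
      ∀ a : X, stabilizer N a = ⊥) ∨
    (IsSimpleGroup N ∧ IsPreprimitive N X ∧ ∀ a : X, stabilizer N a ≠ ⊥) := by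
  have : Finite G := Finite.of_injective _ (toPerm_injective (α := G) (β := X))
  have : Nontrivial X := nontrivial_of_ne_bot (α := X) hN
  have := isPreprimitive_of_is_two_pretransitive h2
  have ht : IsPretransitive N X := isPretransitive_of_normal hN
  by_cases hreg : ∀ a : X, stabilizer N a = ⊥
  · obtain ⟨h1, h3⟩ := elementary_of_regular_normal h2 N hN hreg
    exact Or.inl ⟨h1, h3, hreg⟩
  right
  have hp : IsPreprimitive N X := by
    by_contra hnp
    obtain ⟨F, hFn, hFN, hFt, hFr, -⟩ := exists_regular_normal_of_frobenius h2 N ht (by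
      intro g hg a b hab ha hb
      apply FaithfulSMul.eq_of_smul_eq_smul (M := G) (α := X)
      intro x
      rw [one_smul]
      exact smul_eq_of_normal_not_preprimitive h2 N ht hnp hg hab ha hb x)
    rcases hmin F hFn hFN with rfl | rfl
    · obtain ⟨a, b, hab⟩ := exists_pair_ne X
      obtain ⟨f, hf⟩ := hFt.exists_smul_eq a b
      rw [Subsingleton.elim f 1, one_smul] at hf
      exact hab hf
    · exact hreg hFr
  push Not at hreg
  obtain ⟨a, ha⟩ := hreg
  exact ⟨isSimpleGroup_of_minimal_normal_of_preprimitive h2 N hN hmin hp ha, hp,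
    stabilizer_ne_bot_of_normal N ha⟩

end CL.Perm
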